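import Cfsg.Agent.CG26.ChevInv.Reduce

/-!
Involutions of the diagonal subgroup as sign vectors on the fundamental roots, and their classes.
-/

set_option autoImplicit false
set_option linter.unusedSectionVars false

namespace Cfsg.Agent.CG26.ChevInv

open Cfsg.Lie Cfsg.Agent.ChevGroup Cfsg.Agent.ChevCore Cfsg.Agent.ChevTori

universe u

variable {D : ChevalleyDatum} (T : Model D)

/-- The sign at a root of a sign vector on the fundamental roots. -/
noncomputable def sgnB (ε : List Bool) (s : Fin T.tab.n) : Bool :=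
  decide (((List.finRange T.tab.l).map fun j => if ε.getD j.val false then cf T s j else 0).sum % 2 ≠ 0)

/-- The action of a fundamental reflection on sign vectors. -/
noncomputable def stepS (i : Fin T.tab.l) (ε : List Bool) : List Bool :=
  (List.finRange T.tab.l).map fun j => sgnB T ε (T.S.refl i (T.S.simple j))

/-- Each sign vector comes from an earlier one by a fundamental reflection. -/
noncomputable def chainB : List (List Bool) → List (List Bool × Fin T.tab.l × List Bool) → Bool
  | _, [] => true
  | seen, (m, i, p) :: rest =>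
    decide (p ∈ seen) && decide (stepS T i p = m) && chainB (m :: seen) rest

/-- Every nonzero sign vector is listed. -/
def coverB (L : List (List Bool)) : Bool :=
  (List.finRange T.tab.l).sublists.all fun S =>
    S.isEmpty || decide (((List.finRange T.tab.l).map fun j => decide (j ∈ S)) ∈ L)

/-- The roots with trivial sign. -/
noncomputable def fixedR (ε : List Bool) : List (Fin T.tab.n) :=
  (List.finRange T.tab.n).filter fun r => !sgnB T ε r

variable (hU : UGood D) {F : Type u} [Field F]

/-- A diagonal element with given signs at the fundamental roots. -/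
def HasSign (h : ↥(D.group F)) (ε : List Bool) : Prop :=
  h ∈ (rr T hU).H ∧ ∀ j : Fin T.tab.l, chi T h (T.S.simple j) = if ε.getD j.val false then -1 else 1

variable {T hU}

theorem getD_map_finRange {l : ℕ} (f : Fin l → Bool) (j : Fin l) :
    ((List.finRange l).map f).getD j.val false = f j := by
  rw [List.getD_eq_getElem?_getD, List.getElem?_map, List.getElem?_eq_getElem (by simp)]
  simp

theorem HasSign.chi_eq {h : ↥(D.group F)} {ε : List Bool} (hs : HasSign T hU h ε) (s : Fin T.tab.n) :
    chi T h s = if sgnB T ε s then -1 else 1 := by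
  have e : ∀ j, psi T hU ⟨h, hs.1⟩ j = if ε.getD j.val false then -1 else 1 := fun j => by
    refine Units.ext ?_
    rw [val_psi, hs.2]
    split <;> simp
  have e2 : ∀ j, psi T hU ⟨h, hs.1⟩ j ^ cf T s j =
      (-1 : Fˣ) ^ (if ε.getD j.val false then cf T s j else 0) := fun j => by
    rw [e]; split <;> simp
  rw [chi_cf T hU ⟨h, hs.1⟩ s]
  simp only [e2]
  rw [← ChevCore.zpow_sum']
  have hsum : (∑ j : Fin T.tab.l, (if ε.getD j.val false then cf T s j else 0)) =
      ((List.finRange T.tab.l).map fun j => if ε.getD j.val false then cf T s j else 0).sum := by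
    rw [← List.ofFn_eq_map, List.sum_ofFn]
  rw [hsum, sgnB]
  generalize ((List.finRange T.tab.l).map fun j => if ε.getD j.val false then cf T s j else 0).sum = m
  rcases Int.emod_two_eq_zero_or_one m with hm | hm
  · rw [Even.neg_one_zpow (Int.even_iff.2 hm)]; simp [hm]
  · rw [Odd.neg_one_zpow (Int.odd_iff.2 hm)]; simp [hm]

theorem HasSign.unique {h h' : ↥(D.group F)} {ε : List Bool} (hs : HasSign T hU h ε)
    (hs' : HasSign T hU h' ε) : h = h' :=
  congrArg Subtype.val (psi_injective T hU (a₁ := ⟨h, hs.1⟩) (a₂ := ⟨h', hs'.1⟩)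
    (funext fun j => Units.ext (by rw [val_psi, val_psi, hs.2, hs'.2])))

theorem HasSign.step {h : ↥(D.group F)} {ε : List Bool} (hs : HasSign T hU h ε) (i : Fin T.tab.l) :
    ∃ h', IsConj h h' ∧ HasSign T hU h' (stepS T i ε) := by
  refine ⟨_, isConj_iff.2 ⟨(rr T hU).nw [i], rfl⟩, nw_conj_mem_H _ _ hs.1, fun j => ?_⟩
  have h1 := chi_conj T hU [i] hs.1 (T.S.refl i (T.S.simple j))
  rw [T.S.actw_cons, T.S.actw_nil, T.S.refl_refl] at h1
  rw [h1, hs.chi_eq, stepS, getD_map_finRange]

variable (T hU)

/-- A sign vector reached from one of two representatives. -/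
def Reach (a b : ↥(D.group F)) (m : List Bool) : Prop :=
  ∃ h, HasSign T hU h m ∧ (IsConj a h ∨ IsConj b h)

variable {T hU}

theorem reach_chain {a b : ↥(D.group F)} :
    ∀ (rest : List (List Bool × Fin T.tab.l × List Bool)) (seen : List (List Bool)),
      chainB T seen rest = true → (∀ m ∈ seen, Reach T hU a b m) →
      ∀ m ∈ seen ++ rest.map Prod.fst, Reach T hU a b m := by
  intro rest
  induction rest with
  | nil => intro seen _ h m hm; exact h m (by simpa using hm)
  | cons x rest ih =>
    obtain ⟨m', i, p⟩ := x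
    intro seen hc h m hm
    simp only [chainB, Bool.and_eq_true, decide_eq_true_eq] at hc
    obtain ⟨⟨hp, hst⟩, hrest⟩ := hc
    refine ih (m' :: seen) hrest (fun k hk => ?_) m ?_
    · rcases List.mem_cons.1 hk with rfl | hk
      · obtain ⟨g, hg, hor⟩ := h p hp
        obtain ⟨g', hc', hg'⟩ := hg.step i
        exact ⟨g', hst ▸ hg', hor.imp (fun e => e.trans hc') fun e => e.trans hc'⟩
      · exact h k hk
    · simp only [List.map_cons, List.mem_append, List.mem_cons] at hm ⊢
      tauto

variable [Fintype F]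

theorem exists_hasSign (hcard : Nat.card ↥(rr (F := F) T hU).H = (Fintype.card F - 1) ^ T.tab.l)
    (ε : List Bool) : ∃ h : ↥(D.group F), HasSign T hU h ε := by
  have hc : Nat.card ↥(rr (F := F) T hU).H = Nat.card (Fin T.tab.l → Fˣ) := by
    rw [hcard, Nat.card_fun, Nat.card_units, Nat.card_eq_fintype_card, Nat.card_eq_fintype_card,
      Fintype.card_fin]
  have hbij : Function.Bijective (psi (F := F) T hU) :=
    (Nat.bijective_iff_injective_and_card _).2 ⟨psi_injective T hU, hc⟩
  obtain ⟨⟨h, hh⟩, he⟩ := hbij.2 fun j => if ε.getD j.val false then -1 else 1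
  refine ⟨h, hh, fun j => ?_⟩
  rw [show chi T h (T.S.simple j) = (psi T hU ⟨h, hh⟩ j : F) from rfl, he]
  show ((if ε.getD j.val false then (-1 : Fˣ) else 1 : Fˣ) : F) = _
  cases ε.getD j.val false <;> simp

/-- The sign vector of an involution of the diagonal subgroup. -/
theorem exists_sign {h : ↥(D.group F)} (hh : h ∈ (rr T hU).H) (hsq : h * h = 1) :
    ∃ S ∈ (List.finRange T.tab.l).sublists,
      HasSign T hU h ((List.finRange T.tab.l).map fun j => decide (j ∈ S)) ∧ (S.isEmpty = true → h = 1) := by
  classical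
  have hval : ∀ j, chi T h (T.S.simple j) = 1 ∨ chi T h (T.S.simple j) = -1 := fun j => by
    have := chi_mul T hU hh hh (T.S.simple j)
    rw [hsq, show chi T (1 : ↥(D.group F)) (T.S.simple j) = 1 by simp [chi, Model.mat]] at this
    exact mul_self_eq_one_iff.1 this.symm
  let S := (List.finRange T.tab.l).filter fun j => decide (chi T h (T.S.simple j) ≠ 1)
  refine ⟨S, List.mem_sublists.2 List.filter_sublist, ⟨hh, fun j => ?_⟩, fun he => ?_⟩
  · rw [getD_map_finRange]
    by_cases e : chi T h (T.S.simple j) = 1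
    · simp [S, e]
    · simp [S, (hval j).resolve_left e, e]
  · refine congrArg Subtype.val (psi_injective T hU (a₁ := ⟨h, hh⟩) (a₂ := 1) ?_)
    rw [map_one]
    funext j
    refine Units.ext ?_
    rw [val_psi, Pi.one_apply, Units.val_one]
    by_contra e
    have : j ∈ S := by simp [S, e]
    rw [List.isEmpty_iff.1 he] at this
    simp at this

theorem sgnB_eq_false_iff (h2 : (2 : F) ≠ 0) {h : ↥(D.group F)} {ε : List Bool}
    (hs : HasSign T hU h ε) (r : Fin T.tab.n) : sgnB T ε r = false ↔ chi T h r = 1 := by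
  rw [hs.chi_eq r]
  cases sgnB T ε r <;> simp
  intro e
  exact h2 (by linear_combination -e)

variable {wit : List (List (Fin T.tab.l) × Fin T.tab.l)}

/-- Conjugate diagonal elements have equally many roots with trivial sign. -/
theorem length_fixedR_eq (h2 : (2 : F) ≠ 0) (hwit : T.witB wit = true)
    (hlong : ∃ w₀, T.longestB w₀ = true) (hspan : Mat.spanB D (T.posList.map Fin.val) = true)
    {a b : ↥(D.group F)} {εa εb : List Bool} (ha : HasSign T hU a εa) (hb : HasSign T hU b εb)
    (hc : IsConj a b) : (fixedR T εa).length = (fixedR T εb).length := by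
  classical
  obtain ⟨w₀, hw₀⟩ := hlong
  obtain ⟨g, hg⟩ := isConj_iff.1 hc
  obtain ⟨b₁, hb₁, w, -, b₂, hb₂, rfl⟩ := (rr (F := F) T hU).exists_bruhat (g := g)
    ((T.group_top (relsOfCommGood hU.toCommGood F) hwit).symm ▸ Subgroup.mem_top g)
  have e : b₁ * (rr T hU).nw w * b₂ * a = b * (b₁ * (rr T hU).nw w * b₂) := by
    rw [← hg]; group
  have hk := conj_key T hU hw₀ hspan w ha.1 hb.1 hb₁ hb₂ e
  have hlen : ∀ (ε : List Bool), (fixedR T ε).length =
      (Finset.univ.filter fun r => sgnB T ε r = false).card := fun ε => by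
    rw [fixedR, ← List.toFinset_card_of_nodup ((List.nodup_finRange _).filter _)]
    congr 1
    ext r
    simp
  rw [hlen, hlen]
  have hchi : ∀ s, chi T b (T.S.actw w s) = chi T a s := fun s => by
    rw [← hk]; exact chi_conj T hU w ha.1 s
  refine Finset.card_bij (fun r _ => T.S.actw w r) (fun r hr => ?_) (fun r _ s _ h => actw_injective T w h)
    (fun s hs => ⟨T.S.actw w.reverse s, ?_, T.S.actw_reverse w s⟩)
  · simp only [Finset.mem_filter, Finset.mem_univ, true_and] at hr ⊢
    rw [sgnB_eq_false_iff h2 hb, hchi, ← sgnB_eq_false_iff h2 ha]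
    exact hr
  · simp only [Finset.mem_filter, Finset.mem_univ, true_and] at hs ⊢
    rw [sgnB_eq_false_iff h2 ha, ← hchi, T.S.actw_reverse, ← sgnB_eq_false_iff h2 hb]
    exact hs

/-- Every involution is conjugate to one of two representatives. -/
theorem classes (h2 : (2 : F) ≠ 0) (hodd : oddB T = true) (hwit : T.witB wit = true)
    (hlong : ∃ w₀, T.longestB w₀ = true) (hspan : Mat.spanB D (T.posList.map Fin.val) = true)
    (hred : redB T = true) {ε₁ ε₂ : List Bool} {data : List (List Bool × Fin T.tab.l × List Bool)}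
    (hchain : chainB T [ε₁, ε₂] data = true) (hcover : coverB T ([ε₁, ε₂] ++ data.map Prod.fst) = true)
    {a b : ↥(D.group F)} (ha : HasSign T hU a ε₁) (hb : HasSign T hU b ε₂)
    {u : ↥(D.group F)} (hu : orderOf u = 2) : IsConj u a ∨ IsConj u b := by
  have hsq : u * u = 1 := by rw [← pow_two, ← hu, pow_orderOf_eq_one]
  obtain ⟨v, hc, hv⟩ := exists_conj_mem_H T hU h2 hodd hwit hlong hspan hred hsq
  have hvsq : v * v = 1 := by
    obtain ⟨g, rfl⟩ := isConj_iff.1 hc
    rw [show g * u * g⁻¹ * (g * u * g⁻¹) = g * (u * u) * g⁻¹ by group, hsq, mul_one, mul_inv_cancel]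
  obtain ⟨S, hS, hsign, hone⟩ := exists_sign hv hvsq
  simp only [coverB, List.all_eq_true, Bool.or_eq_true, decide_eq_true_eq] at hcover
  rcases hcover S hS with he | hm
  · exfalso
    obtain ⟨g, hg⟩ := isConj_iff.1 hc
    rw [hone he] at hg
    have : u = 1 := by rw [show u = g⁻¹ * (g * u * g⁻¹) * g by group, hg]; group
    rw [this, orderOf_one] at hu
    omega
  · obtain ⟨w, hw, hor⟩ := reach_chain data [ε₁, ε₂] hchain (fun m hm => by
      simp only [List.mem_cons, List.not_mem_nil, or_false] at hm
      rcases hm with rfl | rfl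
      · exact ⟨a, ha, Or.inl (IsConj.refl a)⟩
      · exact ⟨b, hb, Or.inr (IsConj.refl b)⟩) _ hm
    rw [← hsign.unique hw] at hor
    exact hor.imp (fun e => hc.trans e.symm) fun e => hc.trans e.symm

theorem orderOf_eq_two (h2 : (2 : F) ≠ 0) {a : ↥(D.group F)} {ε : List Bool}
    (ha : HasSign T hU a ε) {j : Fin T.tab.l} (hj : ε.getD j.val false = true) : orderOf a = 2 := by
  haveI : Fact (Nat.Prime 2) := ⟨Nat.prime_two⟩
  have hne : a ≠ 1 := fun e => by
    have := ha.2 j
    rw [e, hj, if_pos rfl, show chi T (1 : ↥(D.group F)) (T.S.simple j) = 1 by simp [chi, Model.mat]] at this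
    exact h2 (by linear_combination this)
  refine orderOf_eq_prime ?_ hne
  rw [pow_two]
  refine congrArg Subtype.val (psi_injective T hU (a₁ := ⟨a, ha.1⟩ * ⟨a, ha.1⟩) (a₂ := 1) ?_)
  rw [map_mul, map_one]
  funext k
  refine Units.ext ?_
  rw [Pi.mul_apply, Units.val_mul, val_psi, ha.2, Pi.one_apply, Units.val_one]
  split <;> simp

end Cfsg.Agent.CG26.ChevInv
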