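import Cfsg.Agent.CG26.ChevInv.Finish
import Cfsg.Agent.ChevGroup.Mat.E8

/-!
Certificates for the involutions of E8: sign vectors, the fundamental systems of the two centralisers, and
the chains of parabolic subgroups (generated).
-/

set_option autoImplicit false
set_option maxRecDepth 20000
set_option maxHeartbeats 2000000

namespace Cfsg.Agent.CG26.ChevInv.InvE8

open Cfsg.Lie Cfsg.Agent.ChevGroup
open Cfsg.Agent.ChevGroup.TypeE8 (model)

/-- A representative sign vector. -/
def epsA : List Bool := [true, false, false, false, false, false, false, false]

/-- A representative sign vector. -/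
def epsB : List Bool := [true, true, false, false, false, false, false, false]

/-- The orbits of the sign vectors. -/
def orbitData : List (List Bool × Fin 8 × List Bool) :=
  [([true, false, true, false, false, false, false, false], 0, [true, false, false, false, false, false, false, false]),
   ([false, false, true, true, false, false, false, false], 2, [true, false, true, false, false, false, false, false]),
   ([false, true, false, true, true, false, false, false], 3, [false, false, true, true, false, false, false, false]),
   ([false, true, false, false, true, false, false, false], 1, [false, true, false, true, true, false, false, false]),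
   ([false, true, false, false, true, true, false, false], 4, [false, true, false, true, true, false, false, false]),
   ([false, true, false, true, true, true, false, false], 4, [false, true, false, false, true, false, false, false]),
   ([false, true, false, false, false, true, true, false], 5, [false, true, false, false, true, true, false, false]),
   ([false, false, true, true, false, true, false, false], 3, [false, true, false, true, true, true, false, false]),
   ([false, true, false, true, false, true, true, false], 5, [false, true, false, true, true, true, false, false]),
   ([false, true, false, false, false, false, true, true], 6, [false, true, false, false, false, true, true, false]),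
   ([true, false, true, false, false, true, false, false], 2, [false, false, true, true, false, true, false, false]),
   ([false, false, true, true, true, true, true, false], 5, [false, false, true, true, false, true, false, false]),
   ([false, true, false, true, false, false, true, true], 6, [false, true, false, true, false, true, true, false]),
   ([false, true, false, false, false, false, false, true], 7, [false, true, false, false, false, false, true, true]),
   ([true, false, false, false, false, true, false, false], 0, [true, false, true, false, false, true, false, false]),
   ([true, false, true, false, true, true, true, false], 5, [true, false, true, false, false, true, false, false]),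
   ([false, false, true, false, true, false, true, false], 4, [false, false, true, true, true, true, true, false]),
   ([false, false, true, true, true, false, true, true], 6, [false, false, true, true, true, true, true, false]),
   ([false, true, false, true, false, false, false, true], 7, [false, true, false, true, false, false, true, true]),
   ([true, false, false, false, true, true, true, false], 5, [true, false, false, false, false, true, false, false]),
   ([true, false, true, true, true, false, true, false], 4, [true, false, true, false, true, true, true, false]),
   ([true, false, true, false, true, false, true, true], 6, [true, false, true, false, true, true, true, false]),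
   ([false, false, true, false, true, true, true, true], 6, [false, false, true, false, true, false, true, false]),
   ([false, false, true, true, true, false, false, true], 7, [false, false, true, true, true, false, true, true]),
   ([true, false, false, true, true, false, true, false], 4, [true, false, false, false, true, true, true, false]),
   ([true, false, false, false, true, false, true, true], 6, [true, false, false, false, true, true, true, false]),
   ([true, true, false, true, false, false, true, false], 3, [true, false, true, true, true, false, true, false]),
   ([true, false, true, true, true, true, true, true], 6, [true, false, true, true, true, false, true, false]),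
   ([true, false, true, false, true, false, false, true], 7, [true, false, true, false, true, false, true, true]),
   ([false, false, true, false, false, true, false, true], 5, [false, false, true, false, true, true, true, true]),
   ([false, false, true, false, true, true, false, true], 7, [false, false, true, false, true, true, true, true]),
   ([true, true, true, true, false, false, true, false], 3, [true, false, false, true, true, false, true, false]),
   ([true, false, false, true, true, true, true, true], 6, [true, false, false, true, true, false, true, false]),
   ([true, false, false, false, true, false, false, true], 7, [true, false, false, false, true, false, true, true]),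
   ([true, true, false, false, false, false, true, false], 1, [true, true, false, true, false, false, true, false]),
   ([true, true, false, true, false, true, true, true], 6, [true, true, false, true, false, false, true, false]),
   ([true, false, true, true, false, true, false, true], 5, [true, false, true, true, true, true, true, true]),
   ([true, false, true, true, true, true, false, true], 7, [true, false, true, true, true, true, true, true]),
   ([false, false, true, false, false, true, true, true], 7, [false, false, true, false, false, true, false, true]),
   ([true, true, true, false, false, false, true, false], 1, [true, true, true, true, false, false, true, false]),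
   ([false, true, true, false, false, false, true, false], 2, [true, true, true, true, false, false, true, false]),
   ([true, true, true, true, false, true, true, true], 6, [true, true, true, true, false, false, true, false]),
   ([true, false, false, true, false, true, false, true], 5, [true, false, false, true, true, true, true, true]),
   ([true, false, false, true, true, true, false, true], 7, [true, false, false, true, true, true, true, true]),
   ([true, true, false, false, false, true, true, true], 6, [true, true, false, false, false, false, true, false]),
   ([true, true, false, true, true, true, false, true], 5, [true, true, false, true, false, true, true, true]),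
   ([true, true, false, true, false, true, false, true], 7, [true, true, false, true, false, true, true, true]),
   ([true, false, true, true, false, true, true, true], 7, [true, false, true, true, false, true, false, true]),
   ([false, false, true, false, false, false, true, false], 6, [false, false, true, false, false, true, true, true]),
   ([false, true, true, true, false, false, true, false], 2, [true, true, true, false, false, false, true, false]),
   ([true, true, true, false, false, true, true, true], 6, [true, true, true, false, false, false, true, false]),
   ([false, true, true, false, false, true, true, true], 6, [false, true, true, false, false, false, true, false]),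
   ([true, true, true, true, true, true, false, true], 5, [true, true, true, true, false, true, true, true]),
   ([true, true, true, true, false, true, false, true], 7, [true, true, true, true, false, true, true, true]),
   ([true, false, false, true, false, true, true, true], 7, [true, false, false, true, false, true, false, true]),
   ([true, true, false, false, true, true, false, true], 5, [true, true, false, false, false, true, true, true]),
   ([true, true, false, false, false, true, false, true], 7, [true, true, false, false, false, true, true, true]),
   ([true, true, false, false, true, false, false, true], 4, [true, true, false, true, true, true, false, true]),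
   ([true, true, false, true, true, true, true, true], 7, [true, true, false, true, true, true, false, true]),
   ([true, false, true, true, false, false, true, false], 6, [true, false, true, true, false, true, true, true]),
   ([false, false, false, true, true, false, true, false], 3, [false, true, true, true, false, false, true, false]),
   ([false, true, true, true, false, true, true, true], 6, [false, true, true, true, false, false, true, false]),
   ([true, true, true, false, true, true, false, true], 5, [true, true, true, false, false, true, true, true]),
   ([true, true, true, false, false, true, false, true], 7, [true, true, true, false, false, true, true, true]),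
   ([false, true, true, false, true, true, false, true], 5, [false, true, true, false, false, true, true, true]),
   ([false, true, true, false, false, true, false, true], 7, [false, true, true, false, false, true, true, true]),
   ([true, true, true, false, true, false, false, true], 4, [true, true, true, true, true, true, false, true]),
   ([true, true, true, true, true, true, true, true], 7, [true, true, true, true, true, true, false, true]),
   ([true, false, false, true, false, false, true, false], 6, [true, false, false, true, false, true, true, true]),
   ([true, true, false, true, true, false, false, true], 4, [true, true, false, false, true, true, false, true]),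
   ([true, true, false, false, true, true, true, true], 7, [true, true, false, false, true, true, false, true]),
   ([true, true, false, false, true, false, true, true], 7, [true, true, false, false, true, false, false, true]),
   ([true, true, false, true, true, false, true, false], 6, [true, true, false, true, true, true, true, true]),
   ([false, false, false, false, true, true, true, false], 4, [false, false, false, true, true, false, true, false]),
   ([false, false, false, true, true, true, true, true], 6, [false, false, false, true, true, false, true, false]),
   ([false, true, true, true, true, true, false, true], 5, [false, true, true, true, false, true, true, true]),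
   ([false, true, true, true, false, true, false, true], 7, [false, true, true, true, false, true, true, true]),
   ([true, true, true, true, true, false, false, true], 4, [true, true, true, false, true, true, false, true]),
   ([true, true, true, false, true, true, true, true], 7, [true, true, true, false, true, true, false, true]),
   ([false, true, true, true, true, false, false, true], 4, [false, true, true, false, true, true, false, true]),
   ([false, true, true, false, true, true, true, true], 7, [false, true, true, false, true, true, false, true]),
   ([true, true, true, false, true, false, true, true], 7, [true, true, true, false, true, false, false, true]),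
   ([true, true, true, true, true, false, true, false], 6, [true, true, true, true, true, true, true, true]),
   ([true, false, true, true, false, false, false, true], 3, [true, true, false, true, true, false, false, true]),
   ([true, true, false, true, true, false, true, true], 7, [true, true, false, true, true, false, false, true]),
   ([true, true, false, false, true, false, true, false], 6, [true, true, false, false, true, true, true, true]),
   ([true, true, false, false, true, true, true, false], 6, [true, true, false, false, true, false, true, true]),
   ([false, false, false, false, false, true, false, false], 5, [false, false, false, false, true, true, true, false]),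
   ([false, false, false, false, true, false, true, true], 6, [false, false, false, false, true, true, true, false]),
   ([false, false, false, true, false, true, false, true], 5, [false, false, false, true, true, true, true, true]),
   ([false, false, false, true, true, true, false, true], 7, [false, false, false, true, true, true, true, true]),
   ([false, true, true, false, true, false, false, true], 4, [false, true, true, true, true, true, false, true]),
   ([false, true, true, true, true, true, true, true], 7, [false, true, true, true, true, true, false, true]),
   ([true, false, false, true, false, false, false, true], 3, [true, true, true, true, true, false, false, true]),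
   ([true, true, true, true, true, false, true, true], 7, [true, true, true, true, true, false, false, true]),
   ([true, true, true, false, true, false, true, false], 6, [true, true, true, false, true, true, true, true]),
   ([false, false, false, true, false, false, false, true], 3, [false, true, true, true, true, false, false, true]),
   ([false, true, true, true, true, false, true, true], 7, [false, true, true, true, true, false, false, true]),
   ([false, true, true, false, true, false, true, false], 6, [false, true, true, false, true, true, true, true]),
   ([true, true, true, false, true, true, true, false], 6, [true, true, true, false, true, false, true, true]),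
   ([false, false, true, false, false, false, false, true], 2, [true, false, true, true, false, false, false, true]),
   ([true, false, true, true, false, false, true, true], 7, [true, false, true, true, false, false, false, true]),
   ([true, true, false, true, true, true, true, false], 6, [true, true, false, true, true, false, true, true]),
   ([true, true, false, false, false, true, false, false], 5, [true, true, false, false, true, true, true, false]),
   ([false, false, false, false, true, false, false, true], 7, [false, false, false, false, true, false, true, true]),
   ([false, false, false, true, false, true, true, true], 7, [false, false, false, true, false, true, false, true]),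
   ([false, true, true, false, true, false, true, true], 7, [false, true, true, false, true, false, false, true]),
   ([false, true, true, true, true, false, true, false], 6, [false, true, true, true, true, true, true, true]),
   ([true, false, false, true, false, false, true, true], 7, [true, false, false, true, false, false, false, true]),
   ([true, true, true, true, true, true, true, false], 6, [true, true, true, true, true, false, true, true]),
   ([false, false, false, true, false, false, true, true], 7, [false, false, false, true, false, false, false, true]),
   ([false, true, true, true, true, true, true, false], 6, [false, true, true, true, true, false, true, true]),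
   ([true, true, true, false, false, true, false, false], 5, [true, true, true, false, true, true, true, false]),
   ([false, false, true, false, false, false, true, true], 7, [false, false, true, false, false, false, false, true]),
   ([true, false, true, true, false, true, true, false], 6, [true, false, true, true, false, false, true, true]),
   ([true, true, false, true, false, true, false, false], 5, [true, true, false, true, true, true, true, false]),
   ([false, false, false, true, false, false, true, false], 6, [false, false, false, true, false, true, true, true]),
   ([false, true, true, false, true, true, true, false], 6, [false, true, true, false, true, false, true, true]),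
   ([true, false, false, true, false, true, true, false], 6, [true, false, false, true, false, false, true, true]),
   ([true, true, true, true, false, true, false, false], 5, [true, true, true, true, true, true, true, false]),
   ([false, false, false, true, false, true, true, false], 6, [false, false, false, true, false, false, true, true]),
   ([false, true, true, true, false, true, false, false], 5, [false, true, true, true, true, true, true, false]),
   ([false, false, true, false, false, true, true, false], 6, [false, false, true, false, false, false, true, true]),
   ([true, false, true, true, true, true, false, false], 5, [true, false, true, true, false, true, true, false]),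
   ([false, true, true, false, false, true, false, false], 5, [false, true, true, false, true, true, true, false]),
   ([true, false, false, true, true, true, false, false], 5, [true, false, false, true, false, true, true, false]),
   ([false, false, false, true, true, true, false, false], 5, [false, false, false, true, false, true, true, false]),
   ([false, false, true, false, true, true, false, false], 5, [false, false, true, false, false, true, true, false]),
   ([true, false, true, false, true, false, false, false], 4, [true, false, true, true, true, true, false, false]),
   ([true, false, false, false, true, false, false, false], 4, [true, false, false, true, true, true, false, false]),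
   ([false, false, false, false, true, false, false, false], 4, [false, false, false, true, true, true, false, false]),
   ([false, false, true, true, true, false, false, false], 4, [false, false, true, false, true, true, false, false]),
   ([false, true, false, true, false, false, false, false], 3, [false, false, true, true, true, false, false, false]),
   ([false, true, false, false, false, false, false, false], 1, [false, true, false, true, false, false, false, false]),
   ([true, true, true, false, false, false, false, false], 0, [true, true, false, false, false, false, false, false]),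
   ([true, true, false, true, false, false, false, false], 1, [true, true, false, false, false, false, false, false]),
   ([true, true, true, true, false, false, false, false], 1, [true, true, true, false, false, false, false, false]),
   ([false, true, true, true, false, false, false, false], 2, [true, true, true, false, false, false, false, false]),
   ([true, false, true, true, true, false, false, false], 3, [true, true, false, true, false, false, false, false]),
   ([false, true, true, false, false, false, false, false], 2, [true, true, true, true, false, false, false, false]),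
   ([true, false, false, true, true, false, false, false], 3, [true, true, true, true, false, false, false, false]),
   ([false, false, false, true, true, false, false, false], 3, [false, true, true, true, false, false, false, false]),
   ([false, false, true, false, true, false, false, false], 2, [true, false, true, true, true, false, false, false]),
   ([true, false, true, false, true, true, false, false], 4, [true, false, true, true, true, false, false, false]),
   ([true, false, false, false, true, true, false, false], 4, [true, false, false, true, true, false, false, false]),
   ([false, false, false, false, true, true, false, false], 4, [false, false, false, true, true, false, false, false]),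
   ([false, false, true, true, true, true, false, false], 4, [false, false, true, false, true, false, false, false]),
   ([true, false, true, false, false, true, true, false], 5, [true, false, true, false, true, true, false, false]),
   ([true, false, false, false, false, true, true, false], 5, [true, false, false, false, true, true, false, false]),
   ([false, false, false, false, false, true, true, false], 5, [false, false, false, false, true, true, false, false]),
   ([false, true, false, true, false, true, false, false], 3, [false, false, true, true, true, true, false, false]),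
   ([false, false, true, true, false, true, true, false], 5, [false, false, true, true, true, true, false, false]),
   ([true, false, true, false, false, false, true, true], 6, [true, false, true, false, false, true, true, false]),
   ([true, false, false, false, false, false, true, true], 6, [true, false, false, false, false, true, true, false]),
   ([false, false, false, false, false, false, true, true], 6, [false, false, false, false, false, true, true, false]),
   ([false, true, false, false, false, true, false, false], 1, [false, true, false, true, false, true, false, false]),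
   ([false, true, false, true, true, true, true, false], 5, [false, true, false, true, false, true, false, false]),
   ([false, false, true, true, false, false, true, true], 6, [false, false, true, true, false, true, true, false]),
   ([true, false, true, false, false, false, false, true], 7, [true, false, true, false, false, false, true, true]),
   ([true, false, false, false, false, false, false, true], 7, [true, false, false, false, false, false, true, true]),
   ([false, false, false, false, false, false, false, true], 7, [false, false, false, false, false, false, true, true]),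
   ([false, true, false, false, true, true, true, false], 5, [false, true, false, false, false, true, false, false]),
   ([false, true, false, false, true, false, true, false], 4, [false, true, false, true, true, true, true, false]),
   ([false, true, false, true, true, false, true, true], 6, [false, true, false, true, true, true, true, false]),
   ([false, false, true, true, false, false, false, true], 7, [false, false, true, true, false, false, true, true]),
   ([false, true, false, true, true, false, true, false], 4, [false, true, false, false, true, true, true, false]),
   ([false, true, false, false, true, false, true, true], 6, [false, true, false, false, true, true, true, false]),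
   ([false, true, false, false, true, true, true, true], 6, [false, true, false, false, true, false, true, false]),
   ([false, true, false, true, true, false, false, true], 7, [false, true, false, true, true, false, true, true]),
   ([false, false, true, true, false, false, true, false], 3, [false, true, false, true, true, false, true, false]),
   ([false, true, false, true, true, true, true, true], 6, [false, true, false, true, true, false, true, false]),
   ([false, true, false, false, true, false, false, true], 7, [false, true, false, false, true, false, true, true]),
   ([false, true, false, false, false, true, false, true], 5, [false, true, false, false, true, true, true, true]),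
   ([false, true, false, false, true, true, false, true], 7, [false, true, false, false, true, true, true, true]),
   ([true, false, true, false, false, false, true, false], 2, [false, false, true, true, false, false, true, false]),
   ([false, false, true, true, false, true, true, true], 6, [false, false, true, true, false, false, true, false]),
   ([false, true, false, true, false, true, false, true], 5, [false, true, false, true, true, true, true, true]),
   ([false, true, false, true, true, true, false, true], 7, [false, true, false, true, true, true, true, true]),
   ([false, true, false, false, false, true, true, true], 7, [false, true, false, false, false, true, false, true]),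
   ([true, false, false, false, false, false, true, false], 0, [true, false, true, false, false, false, true, false]),
   ([true, false, true, false, false, true, true, true], 6, [true, false, true, false, false, false, true, false]),
   ([false, false, true, true, true, true, false, true], 5, [false, false, true, true, false, true, true, true]),
   ([false, false, true, true, false, true, false, true], 7, [false, false, true, true, false, true, true, true]),
   ([false, true, false, true, false, true, true, true], 7, [false, true, false, true, false, true, false, true]),
   ([false, true, false, false, false, false, true, false], 6, [false, true, false, false, false, true, true, true]),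
   ([true, false, false, false, false, true, true, true], 6, [true, false, false, false, false, false, true, false]),
   ([true, false, true, false, true, true, false, true], 5, [true, false, true, false, false, true, true, true]),
   ([true, false, true, false, false, true, false, true], 7, [true, false, true, false, false, true, true, true]),
   ([false, false, true, false, true, false, false, true], 4, [false, false, true, true, true, true, false, true]),
   ([false, false, true, true, true, true, true, true], 7, [false, false, true, true, true, true, false, true]),
   ([false, true, false, true, false, false, true, false], 6, [false, true, false, true, false, true, true, true]),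
   ([true, false, false, false, true, true, false, true], 5, [true, false, false, false, false, true, true, true]),
   ([true, false, false, false, false, true, false, true], 7, [true, false, false, false, false, true, true, true]),
   ([true, false, true, true, true, false, false, true], 4, [true, false, true, false, true, true, false, true]),
   ([true, false, true, false, true, true, true, true], 7, [true, false, true, false, true, true, false, true]),
   ([false, false, true, false, true, false, true, true], 7, [false, false, true, false, true, false, false, true]),
   ([false, false, true, true, true, false, true, false], 6, [false, false, true, true, true, true, true, true]),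
   ([true, false, false, true, true, false, false, true], 4, [true, false, false, false, true, true, false, true]),
   ([true, false, false, false, true, true, true, true], 7, [true, false, false, false, true, true, false, true]),
   ([true, true, false, true, false, false, false, true], 3, [true, false, true, true, true, false, false, true]),
   ([true, false, true, true, true, false, true, true], 7, [true, false, true, true, true, false, false, true]),
   ([true, false, true, false, true, false, true, false], 6, [true, false, true, false, true, true, true, true]),
   ([false, false, true, false, true, true, true, false], 6, [false, false, true, false, true, false, true, true]),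
   ([true, true, true, true, false, false, false, true], 3, [true, false, false, true, true, false, false, true]),
   ([true, false, false, true, true, false, true, true], 7, [true, false, false, true, true, false, false, true]),
   ([true, false, false, false, true, false, true, false], 6, [true, false, false, false, true, true, true, true]),
   ([true, true, false, false, false, false, false, true], 1, [true, true, false, true, false, false, false, true]),
   ([true, true, false, true, false, false, true, true], 7, [true, true, false, true, false, false, false, true]),
   ([true, false, true, true, true, true, true, false], 6, [true, false, true, true, true, false, true, true]),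
   ([false, false, true, false, false, true, false, false], 5, [false, false, true, false, true, true, true, false]),
   ([true, true, true, false, false, false, false, true], 1, [true, true, true, true, false, false, false, true]),
   ([false, true, true, false, false, false, false, true], 2, [true, true, true, true, false, false, false, true]),
   ([true, true, true, true, false, false, true, true], 7, [true, true, true, true, false, false, false, true]),
   ([true, false, false, true, true, true, true, false], 6, [true, false, false, true, true, false, true, true]),
   ([true, true, false, false, false, false, true, true], 7, [true, true, false, false, false, false, false, true]),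
   ([true, true, false, true, false, true, true, false], 6, [true, true, false, true, false, false, true, true]),
   ([true, false, true, true, false, true, false, false], 5, [true, false, true, true, true, true, true, false]),
   ([false, true, true, true, false, false, false, true], 2, [true, true, true, false, false, false, false, true]),
   ([true, true, true, false, false, false, true, true], 7, [true, true, true, false, false, false, false, true]),
   ([false, true, true, false, false, false, true, true], 7, [false, true, true, false, false, false, false, true]),
   ([true, true, true, true, false, true, true, false], 6, [true, true, true, true, false, false, true, true]),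
   ([true, false, false, true, false, true, false, false], 5, [true, false, false, true, true, true, true, false]),
   ([true, true, false, false, false, true, true, false], 6, [true, true, false, false, false, false, true, true]),
   ([true, true, false, true, true, true, false, false], 5, [true, true, false, true, false, true, true, false]),
   ([false, false, false, true, true, false, false, true], 3, [false, true, true, true, false, false, false, true]),
   ([false, true, true, true, false, false, true, true], 7, [false, true, true, true, false, false, false, true]),
   ([true, true, true, false, false, true, true, false], 6, [true, true, true, false, false, false, true, true]),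
   ([false, true, true, false, false, true, true, false], 6, [false, true, true, false, false, false, true, true]),
   ([true, true, true, true, true, true, false, false], 5, [true, true, true, true, false, true, true, false]),
   ([true, true, false, false, true, true, false, false], 5, [true, true, false, false, false, true, true, false]),
   ([true, true, false, false, true, false, false, false], 4, [true, true, false, true, true, true, false, false]),
   ([false, false, false, false, true, true, false, true], 4, [false, false, false, true, true, false, false, true]),
   ([false, false, false, true, true, false, true, true], 7, [false, false, false, true, true, false, false, true]),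
   ([false, true, true, true, false, true, true, false], 6, [false, true, true, true, false, false, true, true]),
   ([true, true, true, false, true, true, false, false], 5, [true, true, true, false, false, true, true, false]),
   ([false, true, true, false, true, true, false, false], 5, [false, true, true, false, false, true, true, false]),
   ([true, true, true, false, true, false, false, false], 4, [true, true, true, true, true, true, false, false]),
   ([true, true, false, true, true, false, false, false], 4, [true, true, false, false, true, true, false, false]),
   ([false, false, false, false, false, true, true, true], 5, [false, false, false, false, true, true, false, true]),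
   ([false, false, false, false, true, true, true, true], 7, [false, false, false, false, true, true, false, true]),
   ([false, false, false, true, true, true, true, false], 6, [false, false, false, true, true, false, true, true]),
   ([false, true, true, true, true, true, false, false], 5, [false, true, true, true, false, true, true, false]),
   ([true, true, true, true, true, false, false, false], 4, [true, true, true, false, true, true, false, false]),
   ([false, true, true, true, true, false, false, false], 4, [false, true, true, false, true, true, false, false]),
   ([true, false, true, true, false, false, false, false], 3, [true, true, false, true, true, false, false, false]),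
   ([false, false, false, false, false, false, true, false], 6, [false, false, false, false, false, true, true, true]),
   ([false, false, false, false, false, true, false, true], 7, [false, false, false, false, false, true, true, true]),
   ([false, false, false, false, true, false, true, false], 6, [false, false, false, false, true, true, true, true]),
   ([false, false, false, true, false, true, false, false], 5, [false, false, false, true, true, true, true, false]),
   ([false, true, true, false, true, false, false, false], 4, [false, true, true, true, true, true, false, false]),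
   ([true, false, false, true, false, false, false, false], 3, [true, true, true, true, true, false, false, false]),
   ([false, false, false, true, false, false, false, false], 3, [false, true, true, true, true, false, false, false]),
   ([false, false, true, false, false, false, false, false], 2, [true, false, true, true, false, false, false, false])]

/-- The fundamental system of the roots with trivial sign. -/
def subA : SubData model where
  k := 8
  words := ([[7],
    [6],
    [5],
    [4],
    [3],
    [2],
    [1],
    [0, 2, 3, 1, 4, 3, 2, 0, 5, 4, 3, 1, 2, 3, 4, 5, 6, 5, 4, 3, 2, 1, 3, 4, 5, 0, 2, 3, 4, 1, 3, 2, 0]] : List (List (Fin 8)))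
  tabs := [0xeeefedecebeae9e8e7e6e5e4e2e3e1e0dfdedddbdcdad9d8d6d7d5d4d2d3d1cfd0cdcecccbcac8c9c7c5c6c3c4c2c1bfc0bdbebcbabbb9b8b7b5b6b3b4b2b0b1afaeacadabaaa9a7a8a6a5a4a3a2a19fa09d9e9c9a9b999896979594939192908f8e8d8b8c8a898887858684838280817f7e7c7d7b797a7778757674727371706e6f6d6c6b696a6867666563646261605f5d5e5c5b5a5859575654555351524f504e4d4c4b4a494748464544424341403e3f3d3b3c393a38373634353331322f302e2d2b2c292a28262725242321221f201e1c1d1b1a181917161513141211100f0e0c0d0b0a09080706050403020001,
    0xefedeeecebeae9e8e7e6e5e3e4e2e1e0dfdedcdddbdad9d7d8d6d5d3d4d2d0d1cfcecccdcbc9cac8c6c7c5c4c2c3c0c1bfbebcbdbbb9bab8b6b7b5b4b2b3b1afb0aeadabacaaa9a8a6a7a5a4a3a2a0a19f9e9c9d9b999a9897959694939290918f8e8d8c8a8b8988878684858382817f807e7d7b7c78767a757977737472716f706e6d6c6a6b696867666465636261605e5f5d5c5b595a5857555654525351504e4f4d4c4b4a4849474645434442413f403e3c3d3b3a383937353634323331302e2f2c2d2b2a282927252624222321201e1f1d1b1c1a191718161514121311100f0e0d0b0c0a09080706050403010200,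
    0xefeeecedebeae9e8e7e6e4e5e3e2e1e0dfdddedcdbdad8d9d7d6d4d5d3d2d1cecdd0cfcccacbc9c8c7c4c3c6c5c2c1bebdc0bfbcbbbab8b9b7b4b3b6b5b2b1b0aeafadacaaaba9a8a7a5a6a4a3a2a19e9da09f9c9b9a9899979694959392918f908e8d8c8b898a8887868583848281807e7f7a79747d7c787773727b767570716f6e6d6b6c6a6968676566646362615f605e5d5c5a5b59585657555453504f52514e4d4c4b494a4847464445434240413f3e3d3a393c3b383637353433302f32312e2d2a292c2b282726242523201f22211e1d1c1a1b191816171514131112100f0e0d0c0a0b09080706050402030100,
    0xefeeedebeceae9e8e7e5e6e4e3e2e1e0dedfdddcdbd9dad8d7d6d5d1d0cfd4d3d2cecdcccbc7c6c5cac9c8c4c3c2c1c0bfbbbab9bebdbcb8b7b6b5b1b0afb4b3b2aeadacaba9aaa8a7a6a4a5a3a2a1a09f9b9a999e9d9c9897969593949291908e8f8d8c8b8a88898786858482837d7c7b7181807f7a7978777675706f6e7e7473726c6d6b6a696866676564636260615f5e5d5b5c5a595857535251565554504f4e4d4c4a4b4948474546444342413d3c3b403f3e3a393837333231363534302f2e2d2c2b2726252a2928242322211d1c1b201f1e1a191817151614131210110f0e0d0c0b090a080706050304020100,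
    0xefeeedeceaebe9e8e6e7e5e4e3e2e1dfe0dedddcdbdad5d4d3d2d9d8d7d6d1d0cfcecdcccbcac9c8c1c0bfbebdbcc7c6c5c4c3c2bbbab9b8b7b6b5b4b3b2adacabaab1b0afaea9a8a7a6a5a3a4a2a1a09f9e9d9c979695949b9a9998939291908f8d8e8c8b8a89878881807f7e6d868584837d7c7b7a79787776757473726c6b6a698271706f6e6768666564636162605f5e5d5c575655545b5a5958535251504f4e4d4b4c4a4948474641403f3e454443423d3c3b3a3938373635342d2c2b2a2928333231302f2e27262524232221201f1e191817161d1c1b1a15141312110f100e0d0c0b0a08090706040503020100,
    0xefeeedecebe9eae7e8e6e5e4e3e2e1e0dad9d8d7d6dfdedddcdbd5d4d3d2d1d0cfcecdcccbcac9c8c7c6c5c4c3c2b7b6b5b4b3b2b1b0afaec1c0bfbebdbcbbbab9b8adacabaaa9a8a7a6a5a4a2a3a1a09f9e9d9c9b9a99989291908f8e97969594938d8685848382688c8b8a898881807f7e7d7c7b7a797877767574737271706f6e6766656463876d6c6b6a69625c5b5a595861605f5e5d57565554535251504f4e4c4d4b4a494847464544434237363534333231302f2e41403f3e3d3c3b3a39382d2c2b2a292827262524232221201f1e1d1c1b1a141312111019181716150f0e0d0c0b0a09070805060403020100,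
    0xefeeedecebe8e7eae9e6e5e4e3e2e0e1dfdedddcdbdad9d8d7d6cbcac9c8c7c6c5c4c3c2d5d4d3d2d1d0cfcecdccc1c0bfbebdbcbbbab9b8b7b6b5b4b3b2b1b0afaea8a7a6a5a4adacabaaa9a3a2a1a09f9e9d9c9b9a99988c8b8a89888685848382629796959493879291908f8e81807f7e7d7c7b7a797877767574737271706f6e61605f5e5d685c5b5a59588d6d6c6b6a69676665646357565554535251504f4e4d4c46454443424b4a49484741403f3e3d3c3b3a393837363534333231302f2e232221201f1e1d1c1b1a2d2c2b2a292827262524191817161514131211100e0f0d0c0b0a09060508070403020100,
    0xefa1a09e9b97928c86817d7a780de1e0dfdedddc4ddad9d8d74cd5d4d34bd1d04ace4948cbcac946c7c645c44443c1c041be403fbb3d3c3ab7b637b43635b1333230ad2d2c2a27a82322201d1914eeed9fec9d9ceb9a9998ea96959493e991908f8e8de88b8a898887e785848382e6807f7ee57c7be479e30c760b74730a71706f096d6c6b6a086867666564076261605f5e065c5b5a590557565504535203500201dbd6d2cfcdcc47c8c5c3c242bfbdbc3ebab93bb83938b5b3b234b0af31ae2f2eacab2baa2928a9262524a7a621a51f1ea41c1b1aa318171615a2131211100f0ee27775726e69635d5854514f4e00]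
  roots := ([120, 121, 123, 126, 130, 135, 141, 226] : List (Fin 240))
  coef := [[], [], [], [], [], [], [], [], [], [], [], [], [], [], [], [], [], [], [], [], [], [], [], [], [], [], [], [], [], [], [], [], [], [], [], [], [], [], [], [], [], [], [], [], [], [], [], [], [], [], [], [], [], [], [], [], [], [], [], [], [], [], [], [], [], [], [], [], [], [], [], [], [], [], [], [], [], [], [], [], [], [], [], [], [], [], [], [], [], [], [], [], [], [], [], [], [], [], [], [], [], [], [], [], [], [], [], [], [], [], [], [], [], [], [], [], [], [], [], [], [1, 0, 0, 0, 0, 0, 0, 0], [0, 1, 0, 0, 0, 0, 0, 0], [1, 1, 0, 0, 0, 0, 0, 0], [0, 0, 1, 0, 0, 0, 0, 0], [0, 1, 1, 0, 0, 0, 0, 0], [1, 1, 1, 0, 0, 0, 0, 0], [0, 0, 0, 1, 0, 0, 0, 0], [0, 0, 1, 1, 0, 0, 0, 0], [0, 1, 1, 1, 0, 0, 0, 0], [1, 1, 1, 1, 0, 0, 0, 0], [0, 0, 0, 0, 1, 0, 0, 0], [0, 0, 0, 1, 1, 0, 0, 0], [0, 0, 1, 1, 1, 0, 0, 0], [0, 1, 1, 1, 1, 0, 0, 0], [1, 1, 1, 1, 1, 0, 0, 0], [0, 0, 0, 0, 0, 1, 0, 0], [0, 0, 0, 0, 1, 1, 0, 0], [0, 0, 0, 1, 1, 1, 0, 0], [0, 0, 1, 1, 1, 1, 0, 0], [0, 1, 1, 1, 1, 1, 0, 0], [1, 1, 1, 1, 1, 1, 0, 0], [0, 0, 0, 0, 0, 0, 1, 0], [0, 0, 0, 0, 1, 0, 1, 0], [0, 0, 0, 1, 1, 0,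 1, 0], [0, 0, 1, 1, 1, 0, 1, 0], [0, 1, 1, 1, 1, 0, 1, 0], [1, 1, 1, 1, 1, 0, 1, 0], [0, 0, 0, 0, 1, 1, 1, 0], [0, 0, 0, 1, 1, 1, 1, 0], [0, 0, 1, 1, 1, 1, 1, 0], [0, 1, 1, 1, 1, 1, 1, 0], [1, 1, 1, 1, 1, 1, 1, 0], [0, 0, 0, 1, 2, 1, 1, 0], [0, 0, 1, 1, 2, 1, 1, 0], [0, 1, 1, 1, 2, 1, 1, 0], [1, 1, 1, 1, 2, 1, 1, 0], [0, 0, 1, 2, 2, 1, 1, 0], [0, 1, 1, 2, 2, 1, 1, 0], [1, 1, 1, 2, 2, 1, 1, 0], [0, 1, 2, 2, 2, 1, 1, 0], [1, 1, 2, 2, 2, 1, 1, 0], [1, 2, 2, 2, 2, 1, 1, 0], [], [], [], [], [], [], [], [], [], [], [], [], [], [], [], [], [], [], [], [], [], [], [], [], [], [], [], [], [], [], [], [], [], [], [], [], [], [], [], [], [], [], [], [], [], [], [], [], [], [], [], [], [], [], [], [], [], [], [], [], [], [], [], [], [0, 0, 0, 0, 0, 0, 0, 1], [1, 0, 0, 0, 0, 0, 0, 1], [1, 1, 0, 0, 0, 0, 0, 1], [1, 1, 1, 0, 0, 0, 0, 1], [1, 1, 1, 1, 0, 0, 0, 1], [1, 1, 1, 1, 1, 0, 0, 1], [1, 1, 1, 1, 1, 1, 0, 1], [1, 1, 1, 1, 1, 0, 1, 1], [1, 1, 1, 1, 1, 1, 1, 1], [1, 1, 1, 1, 2, 1, 1, 1], [1, 1, 1, 2, 2, 1, 1, 1], [1, 1, 2, 2, 2, 1, 1, 1], [1, 2, 2, 2, 2, 1, 1, 1], [2, 2, 2, 2, 2, 1, 1, 1]]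
  adj := [[false, true, false, false, false, false, false, true],
    [true, false, true, false, false, false, false, false],
    [false, true, false, true, false, false, false, false],
    [false, false, true, false, true, false, false, false],
    [false, false, false, true, false, true, true, false],
    [false, false, false, false, true, false, false, false],
    [false, false, false, false, true, false, false, false],
    [true, false, false, false, false, false, false, false]]
  N := 2
  phi := [-14, 2, 2, 2, 2, 2, 2, 2]
  M := 2
  A := [[0, -1, -2, -3, -4, -3, -2, 1], [0, 0, 0, 0, 0, 0, 2, 0], [0, 0, 0, 0, 0, 2, 0, 0], [0, 0, 0, 0, 2, 0, 0, 0], [0, 0, 0, 2, 0, 0, 0, 0], [0, 0, 2, 0, 0, 0, 0, 0], [0, 2, 0, 0, 0, 0, 0, 0], [2, 0, 0, 0, 0, 0, 0, 0]]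

/-- Coset representatives. -/
def repsA0 : List (List ℕ) := [[], [6]]

/-- Left multiplication on the cosets. -/
def edgesA0 : List (List (ℕ × Option ℕ)) :=
  [[(1, none), (0, none)]]

/-- The positive roots of the smaller subsystem. -/
def rjA0 : List (Fin 240) := []

/-- Coset representatives. -/
def repsA1 : List (List ℕ) := [[], [4], [6, 4]]

/-- Left multiplication on the cosets. -/
def edgesA1 : List (List (ℕ × Option ℕ)) :=
  [[(1, none), (0, none), (2, some 6)],
   [(0, some 6), (2, none), (1, none)]]

/-- The positive roots of the smaller subsystem. -/
def rjA1 : List (Fin 240) := [141]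

/-- Coset representatives. -/
def repsA2 : List (List ℕ) := [[], [5], [4, 5], [6, 4, 5]]

/-- Left multiplication on the cosets. -/
def edgesA2 : List (List (ℕ × Option ℕ)) :=
  [[(0, some 4), (2, none), (1, none), (3, some 6)],
   [(1, none), (0, none), (2, some 4), (3, some 4)],
   [(0, some 6), (1, some 6), (3, none), (2, none)]]

/-- The positive roots of the smaller subsystem. -/
def rjA2 : List (Fin 240) := [130, 141, 142]

/-- Coset representatives. -/
def repsA3 : List (List ℕ) := [[], [3], [4, 3], [5, 4, 3], [6, 4, 3], [6, 5, 4, 3], [4, 6, 5, 4, 3], [3, 4, 6, 5, 4, 3]]

/-- Left multiplication on the cosets. -/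
def edgesA3 : List (List (ℕ × Option ℕ)) :=
  [[(1, none), (0, none), (2, some 4), (3, some 4), (4, some 4), (5, some 4), (7, none), (6, none)],
   [(0, some 4), (2, none), (1, none), (3, some 5), (4, some 6), (6, none), (5, none), (7, some 4)],
   [(0, some 5), (1, some 5), (3, none), (2, none), (5, none), (4, none), (6, some 6), (7, some 6)],
   [(0, some 6), (1, some 6), (4, none), (5, none), (2, none), (3, none), (6, some 5), (7, some 5)]]

/-- The positive roots of the smaller subsystem. -/
def rjA3 : List (Fin 240) := [130, 135, 136, 141, 142, 147]

/-- Coset representatives. -/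
def repsA4 : List (List ℕ) := [[], [2], [3, 2], [4, 3, 2], [5, 4, 3, 2], [6, 4, 3, 2], [6, 5, 4, 3, 2], [4, 6, 5, 4, 3, 2], [3, 4, 6, 5, 4, 3, 2], [2, 3, 4, 6, 5, 4, 3, 2]]

/-- Left multiplication on the cosets. -/
def edgesA4 : List (List (ℕ × Option ℕ)) :=
  [[(1, none), (0, none), (2, some 3), (3, some 3), (4, some 3), (5, some 3), (6, some 3), (7, some 3), (9, none), (8, none)],
   [(0, some 3), (2, none), (1, none), (3, some 4), (4, some 4), (5, some 4), (6, some 4), (8, none), (7, none), (9, some 3)],
   [(0, some 4), (1, some 4), (3, none), (2, none), (4, some 5), (5, some 6), (7, none), (6, none), (8, some 4), (9, some 4)],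
   [(0, some 5), (1, some 5), (2, some 5), (4, none), (3, none), (6, none), (5, none), (7, some 6), (8, some 6), (9, some 6)],
   [(0, some 6), (1, some 6), (2, some 6), (5, none), (6, none), (3, none), (4, none), (7, some 5), (8, some 5), (9, some 5)]]

/-- The positive roots of the smaller subsystem. -/
def rjA4 : List (Fin 240) := [126, 130, 131, 135, 136, 137, 141, 142, 143, 147, 148, 152]

/-- Coset representatives. -/
def repsA5 : List (List ℕ) := [[], [1], [2, 1], [3, 2, 1], [4, 3, 2, 1], [5, 4, 3, 2, 1], [6, 4, 3, 2, 1], [6, 5, 4, 3, 2, 1], [4, 6, 5, 4, 3, 2, 1], [3, 4, 6, 5, 4, 3, 2, 1], [2, 3, 4, 6, 5, 4, 3, 2, 1], [1, 2, 3, 4, 6, 5, 4, 3, 2, 1]]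

/-- Left multiplication on the cosets. -/
def edgesA5 : List (List (ℕ × Option ℕ)) :=
  [[(1, none), (0, none), (2, some 2), (3, some 2), (4, some 2), (5, some 2), (6, some 2), (7, some 2), (8, some 2), (9, some 2), (11, none), (10, none)],
   [(0, some 2), (2, none), (1, none), (3, some 3), (4, some 3), (5, some 3), (6, some 3), (7, some 3), (8, some 3), (10, none), (9, none), (11, some 2)],
   [(0, some 3), (1, some 3), (3, none), (2, none), (4, some 4), (5, some 4), (6, some 4), (7, some 4), (9, none), (8, none), (10, some 3), (11, some 3)],
   [(0, some 4), (1, some 4), (2, some 4), (4, none), (3, none), (5, some 5), (6, some 6), (8, none), (7, none), (9, some 4), (10, some 4), (11, some 4)],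
   [(0, some 5), (1, some 5), (2, some 5), (3, some 5), (5, none), (4, none), (7, none), (6, none), (8, some 6), (9, some 6), (10, some 6), (11, some 6)],
   [(0, some 6), (1, some 6), (2, some 6), (3, some 6), (6, none), (7, none), (4, none), (5, none), (8, some 5), (9, some 5), (10, some 5), (11, some 5)]]

/-- The positive roots of the smaller subsystem. -/
def rjA5 : List (Fin 240) := [123, 126, 127, 130, 131, 132, 135, 136, 137, 138, 141, 142, 143, 144, 147, 148, 149, 152, 153, 156]

/-- Coset representatives. -/
def repsA6 : List (List ℕ) := [[], [0], [1, 0], [2, 1, 0], [3, 2, 1, 0], [4, 3, 2, 1, 0], [5, 4, 3, 2, 1, 0], [6, 4, 3, 2, 1, 0], [6, 5, 4, 3, 2, 1, 0], [4, 6, 5, 4, 3, 2, 1, 0], [3, 4, 6, 5, 4, 3, 2, 1, 0], [2, 3, 4, 6, 5, 4, 3, 2, 1, 0], [1, 2, 3, 4, 6, 5, 4, 3, 2, 1, 0], [0, 1, 2, 3, 4, 6, 5, 4, 3, 2, 1, 0]]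

/-- Left multiplication on the cosets. -/
def edgesA6 : List (List (ℕ × Option ℕ)) :=
  [[(1, none), (0, none), (2, some 1), (3, some 1), (4, some 1), (5, some 1), (6, some 1), (7, some 1), (8, some 1), (9, some 1), (10, some 1), (11, some 1), (13, none), (12, none)],
   [(0, some 1), (2, none), (1, none), (3, some 2), (4, some 2), (5, some 2), (6, some 2), (7, some 2), (8, some 2), (9, some 2), (10, some 2), (12, none), (11, none), (13, some 1)],
   [(0, some 2), (1, some 2), (3, none), (2, none), (4, some 3), (5, some 3), (6, some 3), (7, some 3), (8, some 3), (9, some 3), (11, none), (10, none), (12, some 2), (13, some 2)],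
   [(0, some 3), (1, some 3), (2, some 3), (4, none), (3, none), (5, some 4), (6, some 4), (7, some 4), (8, some 4), (10, none), (9, none), (11, some 3), (12, some 3), (13, some 3)],
   [(0, some 4), (1, some 4), (2, some 4), (3, some 4), (5, none), (4, none), (6, some 5), (7, some 6), (9, none), (8, none), (10, some 4), (11, some 4), (12, some 4), (13, some 4)],
   [(0, some 5), (1, some 5), (2, some 5), (3, some 5), (4, some 5), (6, none), (5, none), (8, none), (7, none), (9, some 6), (10, some 6), (11, some 6), (12, some 6), (13, some 6)],
   [(0, some 6), (1, some 6), (2, some 6), (3, some 6), (4, some 6), (7, none), (8, none), (5, none), (6, none), (9, some 5), (10, some 5), (11, some 5), (12, some 5), (13, some 5)]]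

/-- The positive roots of the smaller subsystem. -/
def rjA6 : List (Fin 240) := [121, 123, 124, 126, 127, 128, 130, 131, 132, 133, 135, 136, 137, 138, 139, 141, 142, 143, 144, 145, 147, 148, 149, 150, 152, 153, 154, 156, 157, 159]

/-- Coset representatives. -/
def repsA7 : List (List ℕ) := [[], [7], [0, 7], [1, 0, 7], [2, 1, 0, 7], [3, 2, 1, 0, 7], [4, 3, 2, 1, 0, 7], [5, 4, 3, 2, 1, 0, 7], [6, 4, 3, 2, 1, 0, 7], [6, 5, 4, 3, 2, 1, 0, 7], [4, 6, 5, 4, 3, 2, 1, 0, 7], [3, 4, 6, 5, 4, 3, 2, 1, 0, 7], [2, 3, 4, 6, 5, 4, 3, 2, 1, 0, 7], [1, 2, 3, 4, 6, 5, 4, 3, 2, 1, 0, 7], [0, 1, 2, 3, 4, 6, 5, 4, 3, 2, 1, 0, 7], [7, 0, 1, 2, 3, 4, 6, 5, 4, 3, 2, 1, 0, 7]]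

/-- Left multiplication on the cosets. -/
def edgesA7 : List (List (ℕ × Option ℕ)) :=
  [[(0, some 0), (2, none), (1, none), (3, some 1), (4, some 1), (5, some 1), (6, some 1), (7, some 1), (8, some 1), (9, some 1), (10, some 1), (11, some 1), (12, some 1), (14, none), (13, none), (15, some 0)],
   [(0, some 1), (1, some 1), (3, none), (2, none), (4, some 2), (5, some 2), (6, some 2), (7, some 2), (8, some 2), (9, some 2), (10, some 2), (11, some 2), (13, none), (12, none), (14, some 1), (15, some 1)],
   [(0, some 2), (1, some 2), (2, some 2), (4, none), (3, none), (5, some 3), (6, some 3), (7, some 3), (8, some 3), (9, some 3), (10, some 3), (12, none), (11, none), (13, some 2), (14, some 2), (15, some 2)],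
   [(0, some 3), (1, some 3), (2, some 3), (3, some 3), (5, none), (4, none), (6, some 4), (7, some 4), (8, some 4), (9, some 4), (11, none), (10, none), (12, some 3), (13, some 3), (14, some 3), (15, some 3)],
   [(0, some 4), (1, some 4), (2, some 4), (3, some 4), (4, some 4), (6, none), (5, none), (7, some 5), (8, some 6), (10, none), (9, none), (11, some 4), (12, some 4), (13, some 4), (14, some 4), (15, some 4)],
   [(0, some 5), (1, some 5), (2, some 5), (3, some 5), (4, some 5), (5, some 5), (7, none), (6, none), (9, none), (8, none), (10, some 6), (11, some 6), (12, some 6), (13, some 6), (14, some 6), (15, some 6)],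
   [(0, some 6), (1, some 6), (2, some 6), (3, some 6), (4, some 6), (5, some 6), (8, none), (9, none), (6, none), (7, none), (10, some 5), (11, some 5), (12, some 5), (13, some 5), (14, some 5), (15, some 5)],
   [(1, none), (0, none), (2, some 0), (3, some 0), (4, some 0), (5, some 0), (6, some 0), (7, some 0), (8, some 0), (9, some 0), (10, some 0), (11, some 0), (12, some 0), (13, some 0), (15, none), (14, none)]]

/-- The positive roots of the smaller subsystem. -/
def rjA7 : List (Fin 240) := [120, 121, 122, 123, 124, 125, 126, 127, 128, 129, 130, 131, 132, 133, 134, 135, 136, 137, 138, 139, 140, 141, 142, 143, 144, 145, 146, 147, 148, 149, 150, 151, 152, 153, 154, 155, 156, 157, 158, 159, 160, 161]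

/-- The fundamental system of the roots with trivial sign. -/
def subB : SubData model where
  k := 8
  words := ([[7],
    [6],
    [5],
    [4],
    [3],
    [2],
    [0, 1, 2, 3, 2, 1, 0],
    [1, 3, 2, 4, 3, 1, 5, 4, 3, 2, 0, 6, 5, 4, 3, 1, 2, 3, 4, 5, 6, 7, 6, 5, 4, 3, 2, 1, 3, 4, 5, 6, 0, 2, 3, 4, 5, 1, 3, 4, 2, 3, 1]] : List (List (Fin 8)))
  tabs := [0xeeefedecebeae9e8e7e6e5e4e2e3e1e0dfdedddbdcdad9d8d6d7d5d4d2d3d1cfd0cdcecccbcac8c9c7c5c6c3c4c2c1bfc0bdbebcbabbb9b8b7b5b6b3b4b2b0b1afaeacadabaaa9a7a8a6a5a4a3a2a19fa09d9e9c9a9b999896979594939192908f8e8d8b8c8a898887858684838280817f7e7c7d7b797a7778757674727371706e6f6d6c6b696a6867666563646261605f5d5e5c5b5a5859575654555351524f504e4d4c4b4a494748464544424341403e3f3d3b3c393a38373634353331322f302e2d2b2c292a28262725242321221f201e1c1d1b1a181917161513141211100f0e0c0d0b0a09080706050403020001,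
    0xefedeeecebeae9e8e7e6e5e3e4e2e1e0dfdedcdddbdad9d7d8d6d5d3d4d2d0d1cfcecccdcbc9cac8c6c7c5c4c2c3c0c1bfbebcbdbbb9bab8b6b7b5b4b2b3b1afb0aeadabacaaa9a8a6a7a5a4a3a2a0a19f9e9c9d9b999a9897959694939290918f8e8d8c8a8b8988878684858382817f807e7d7b7c78767a757977737472716f706e6d6c6a6b696867666465636261605e5f5d5c5b595a5857555654525351504e4f4d4c4b4a4849474645434442413f403e3c3d3b3a383937353634323331302e2f2c2d2b2a282927252624222321201e1f1d1b1c1a191718161514121311100f0e0d0b0c0a09080706050403010200,
    0xefeeecedebeae9e8e7e6e4e5e3e2e1e0dfdddedcdbdad8d9d7d6d4d5d3d2d1cecdd0cfcccacbc9c8c7c4c3c6c5c2c1bebdc0bfbcbbbab8b9b7b4b3b6b5b2b1b0aeafadacaaaba9a8a7a5a6a4a3a2a19e9da09f9c9b9a9899979694959392918f908e8d8c8b898a8887868583848281807e7f7a79747d7c787773727b767570716f6e6d6b6c6a6968676566646362615f605e5d5c5a5b59585657555453504f52514e4d4c4b494a4847464445434240413f3e3d3a393c3b383637353433302f32312e2d2a292c2b282726242523201f22211e1d1c1a1b191816171514131112100f0e0d0c0a0b09080706050402030100,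
    0xefeeedebeceae9e8e7e5e6e4e3e2e1e0dedfdddcdbd9dad8d7d6d5d1d0cfd4d3d2cecdcccbc7c6c5cac9c8c4c3c2c1c0bfbbbab9bebdbcb8b7b6b5b1b0afb4b3b2aeadacaba9aaa8a7a6a4a5a3a2a1a09f9b9a999e9d9c9897969593949291908e8f8d8c8b8a88898786858482837d7c7b7181807f7a7978777675706f6e7e7473726c6d6b6a696866676564636260615f5e5d5b5c5a595857535251565554504f4e4d4c4a4b4948474546444342413d3c3b403f3e3a393837333231363534302f2e2d2c2b2726252a2928242322211d1c1b201f1e1a191817151614131210110f0e0d0c0b090a080706050304020100,
    0xefeeedeceaebe9e8e6e7e5e4e3e2e1dfe0dedddcdbdad5d4d3d2d9d8d7d6d1d0cfcecdcccbcac9c8c1c0bfbebdbcc7c6c5c4c3c2bbbab9b8b7b6b5b4b3b2adacabaab1b0afaea9a8a7a6a5a3a4a2a1a09f9e9d9c979695949b9a9998939291908f8d8e8c8b8a89878881807f7e6d868584837d7c7b7a79787776757473726c6b6a698271706f6e6768666564636162605f5e5d5c575655545b5a5958535251504f4e4d4b4c4a4948474641403f3e454443423d3c3b3a3938373635342d2c2b2a2928333231302f2e27262524232221201f1e191817161d1c1b1a15141312110f100e0d0c0b0a08090706040503020100,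
    0xefeeedecebe9eae7e8e6e5e4e3e2e1e0dad9d8d7d6dfdedddcdbd5d4d3d2d1d0cfcecdcccbcac9c8c7c6c5c4c3c2b7b6b5b4b3b2b1b0afaec1c0bfbebdbcbbbab9b8adacabaaa9a8a7a6a5a4a2a3a1a09f9e9d9c9b9a99989291908f8e97969594938d8685848382688c8b8a898881807f7e7d7c7b7a797877767574737271706f6e6766656463876d6c6b6a69625c5b5a595861605f5e5d57565554535251504f4e4c4d4b4a494847464544434237363534333231302f2e41403f3e3d3c3b3a39382d2c2b2a292827262524232221201f1e1d1c1b1a141312111019181716150f0e0d0c0b0a09070805060403020100,
    0xefeeedece0dfdae8e7e6cbcac9c8e1ebeadedddcdbe9d9d8d7d6d5d4d3d2a1a09f9e9d9ce5e4e3e2c7c6c5c4c3c2c1c0bfbebdbc8c8b8a89b7b6b5b4b3b28685848381807f7e46a8a7a6a562615cd1d0cfcecdcc9b9a9998979695944d9291908f4c4bbbbab9b88887b1b0afae82adacabaa7d7c7b7a7978777675747372454443426d41403f3e686737363534a4a3605f5e5da25b5a595857565554232221201f1e938e8d4a494847a971706f6e6c6b6a693d3c3b3a393866656463333231302f2e2d2c2b2a29280d0c0b0a535251504f4e1d1c1b1a19181716061413121105040e2726252409080715100f03020100,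
    0xa8a7a6a5a4a3a2e8e7e6e5e4e3e20e6261605f5e5d5c5b5a595857565554535251504f4ecbcac9c8c7c6c5c4c3c2c1c0bfbebdbcbbbab9b8b7b6b5b4b3b2b1b0afaeadacabaaa9efeeedecebeae9232221201f1e1d1c1b1a191817161514131211100f8c8b8a898887868584838281807f7e7d7c7b7a797877767574737271706f6e6d6c6b6a69686766656463e0dfdedddcdbdad9d8d7d6d5d4d3d2d1d0cfcecdcc06050403020100464544434241403f3e3d3c3b3a393837363534333231302f2e2d2c2b2a292827262524a1a09f9e9d9c9b9a999897969594939291908f8e8de10d0c0b0a0908074d4c4b4a494847]
  roots := ([120, 121, 123, 126, 130, 135, 169, 225] : List (Fin 240))
  coef := [[], [], [], [], [], [], [], [], [], [], [], [], [], [], [], [], [], [], [], [], [], [], [], [], [], [], [], [], [], [], [], [], [], [], [], [], [], [], [], [], [], [], [], [], [], [], [], [], [], [], [], [], [], [], [], [], [], [], [], [], [], [], [], [], [], [], [], [], [], [], [], [], [], [], [], [], [], [], [], [], [], [], [], [], [], [], [], [], [], [], [], [], [], [], [], [], [], [], [], [], [], [], [], [], [], [], [], [], [], [], [], [], [], [], [], [], [], [], [], [], [1, 0, 0, 0, 0, 0, 0, 0], [0, 1, 0, 0, 0, 0, 0, 0], [1, 1, 0, 0, 0, 0, 0, 0], [0, 0, 1, 0, 0, 0, 0, 0], [0, 1, 1, 0, 0, 0, 0, 0],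 [1, 1, 1, 0, 0, 0, 0, 0], [0, 0, 0, 1, 0, 0, 0, 0], [0, 0, 1, 1, 0, 0, 0, 0], [0, 1, 1, 1, 0, 0, 0, 0], [1, 1, 1, 1, 0, 0, 0, 0], [0, 0, 0, 0, 1, 0, 0, 0], [0, 0, 0, 1, 1, 0, 0, 0], [0, 0, 1, 1, 1, 0, 0, 0], [0, 1, 1, 1, 1, 0, 0, 0], [1, 1, 1, 1, 1, 0, 0, 0], [0, 0, 0, 0, 0, 1, 0, 0], [0, 0, 0, 0, 1, 1, 0, 0], [0, 0, 0, 1, 1, 1, 0, 0], [0, 0, 1, 1, 1, 1, 0, 0], [0, 1, 1, 1, 1, 1, 0, 0], [1, 1, 1, 1, 1, 1, 0, 0], [], [], [], [], [], [], [], [], [], [], [], [], [], [], [], [], [], [], [], [], [], [], [], [], [], [], [], [], [0, 0, 0, 0, 0, 0, 1, 0], [0, 0, 0, 1, 0, 0, 1, 0], [0, 0, 1, 1, 0, 0, 1, 0], [0, 1, 1, 1, 0, 0, 1, 0], [1, 1, 1, 1, 0, 0, 1, 0], [0, 0, 0, 1, 1, 0, 1, 0], [0, 0, 1, 1, 1, 0, 1, 0], [0, 1, 1, 1, 1, 0, 1, 0], [1, 1, 1, 1, 1, 0, 1, 0], [0, 0, 1, 2, 1, 0, 1, 0], [0, 1, 1, 2, 1, 0, 1, 0], [1, 1, 1, 2, 1, 0, 1, 0], [0, 1, 2, 2, 1, 0, 1, 0], [1, 1, 2, 2, 1, 0, 1, 0], [1, 2, 2, 2, 1, 0, 1, 0], [0, 0, 0, 1, 1, 1, 1, 0], [0, 0, 1, 1, 1, 1, 1, 0], [0, 1, 1, 1, 1, 1, 1, 0], [1, 1, 1, 1, 1, 1, 1, 0], [0, 0, 1, 2, 1, 1, 1, 0], [0, 1, 1, 2, 1, 1, 1, 0], [1, 1, 1, 2, 1, 1, 1, 0], [0, 1, 2, 2, 1, 1, 1, 0], [1, 1, 2, 2, 1, 1, 1, 0], [1, 2, 2, 2, 1, 1, 1, 0],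 [0, 0, 1, 2, 2, 1, 1, 0], [0, 1, 1, 2, 2, 1, 1, 0], [1, 1, 1, 2, 2, 1, 1, 0], [0, 1, 2, 2, 2, 1, 1, 0], [1, 1, 2, 2, 2, 1, 1, 0], [1, 2, 2, 2, 2, 1, 1, 0], [0, 1, 2, 3, 2, 1, 1, 0], [1, 1, 2, 3, 2, 1, 1, 0], [1, 2, 2, 3, 2, 1, 1, 0], [1, 2, 3, 3, 2, 1, 1, 0], [], [], [], [], [], [], [], [], [], [], [], [], [], [], [], [], [], [], [], [], [], [0, 0, 0, 0, 0, 0, 0, 1], [0, 1, 2, 3, 2, 1, 2, 0], [1, 1, 2, 3, 2, 1, 2, 0], [1, 2, 2, 3, 2, 1, 2, 0], [1, 2, 3, 3, 2, 1, 2, 0], [1, 2, 3, 4, 2, 1, 2, 0], [1, 2, 3, 4, 3, 1, 2, 0], [1, 2, 3, 4, 3, 2, 2, 0], [], [], [], [], [], [], []]
  adj := [[false, true, false, false, false, false, false, false],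
    [true, false, true, false, false, false, false, false],
    [false, true, false, true, false, false, false, false],
    [false, false, true, false, true, false, true, false],
    [false, false, false, true, false, true, false, false],
    [false, false, false, false, true, false, false, false],
    [false, false, false, true, false, false, false, false],
    [false, false, false, false, false, false, false, false]]
  N := 2
  phi := [14, -16, 2, 2, 2, 2, 2, 2]
  M := 2
  A := [[1, 2, 3, 4, 2, 0, 3, -1], [-1, -2, -3, -4, -4, -2, -1, 1], [0, 0, 0, 0, 0, 2, 0, 0], [0, 0, 0, 0, 2, 0, 0, 0], [0, 0, 0, 2, 0, 0, 0, 0], [0, 0, 2, 0, 0, 0, 0, 0], [0, 2, 0, 0, 0, 0, 0, 0], [2, 0, 0, 0, 0, 0, 0, 0]]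

/-- Coset representatives. -/
def repsB0 : List (List ℕ) := [[], [6]]

/-- Left multiplication on the cosets. -/
def edgesB0 : List (List (ℕ × Option ℕ)) :=
  [[(1, none), (0, none)]]

/-- The positive roots of the smaller subsystem. -/
def rjB0 : List (Fin 240) := []

/-- Coset representatives. -/
def repsB1 : List (List ℕ) := [[], [3], [6, 3]]

/-- Left multiplication on the cosets. -/
def edgesB1 : List (List (ℕ × Option ℕ)) :=
  [[(1, none), (0, none), (2, some 6)],
   [(0, some 6), (2, none), (1, none)]]

/-- The positive roots of the smaller subsystem. -/
def rjB1 : List (Fin 240) := [169]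

/-- Coset representatives. -/
def repsB2 : List (List ℕ) := [[], [4], [3, 4], [6, 3, 4]]

/-- Left multiplication on the cosets. -/
def edgesB2 : List (List (ℕ × Option ℕ)) :=
  [[(0, some 3), (2, none), (1, none), (3, some 6)],
   [(1, none), (0, none), (2, some 3), (3, some 3)],
   [(0, some 6), (1, some 6), (3, none), (2, none)]]

/-- The positive roots of the smaller subsystem. -/
def rjB2 : List (Fin 240) := [126, 169, 170]

/-- Coset representatives. -/
def repsB3 : List (List ℕ) := [[], [2], [3, 2], [4, 3, 2], [6, 3, 2], [6, 4, 3, 2], [3, 6, 4, 3, 2], [2, 3, 6, 4, 3, 2]]

/-- Left multiplication on the cosets. -/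
def edgesB3 : List (List (ℕ × Option ℕ)) :=
  [[(1, none), (0, none), (2, some 3), (3, some 3), (4, some 3), (5, some 3), (7, none), (6, none)],
   [(0, some 3), (2, none), (1, none), (3, some 4), (4, some 6), (6, none), (5, none), (7, some 3)],
   [(0, some 4), (1, some 4), (3, none), (2, none), (5, none), (4, none), (6, some 6), (7, some 6)],
   [(0, some 6), (1, some 6), (4, none), (5, none), (2, none), (3, none), (6, some 4), (7, some 4)]]

/-- The positive roots of the smaller subsystem. -/
def rjB3 : List (Fin 240) := [126, 130, 131, 169, 170, 174]

/-- Coset representatives. -/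
def repsB4 : List (List ℕ) := [[], [5], [4, 5], [3, 4, 5], [2, 3, 4, 5], [6, 3, 4, 5], [6, 2, 3, 4, 5], [3, 6, 2, 3, 4, 5], [4, 3, 6, 2, 3, 4, 5], [5, 4, 3, 6, 2, 3, 4, 5]]

/-- Left multiplication on the cosets. -/
def edgesB4 : List (List (ℕ × Option ℕ)) :=
  [[(0, some 2), (1, some 2), (2, some 2), (4, none), (3, none), (6, none), (5, none), (7, some 6), (8, some 6), (9, some 6)],
   [(0, some 3), (1, some 3), (3, none), (2, none), (4, some 2), (5, some 6), (7, none), (6, none), (8, some 3), (9, some 3)],
   [(0, some 4), (2, none), (1, none), (3, some 3), (4, some 3), (5, some 3), (6, some 3), (8, none), (7, none), (9, some 4)],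
   [(1, none), (0, none), (2, some 4), (3, some 4), (4, some 4), (5, some 4), (6, some 4), (7, some 4), (9, none), (8, none)],
   [(0, some 6), (1, some 6), (2, some 6), (5, none), (6, none), (3, none), (4, none), (7, some 2), (8, some 2), (9, some 2)]]

/-- The positive roots of the smaller subsystem. -/
def rjB4 : List (Fin 240) := [123, 126, 127, 130, 131, 132, 169, 170, 171, 174, 175, 178]

/-- Coset representatives. -/
def repsB5 : List (List ℕ) := [[], [1], [2, 1], [3, 2, 1], [4, 3, 2, 1], [6, 3, 2, 1], [5, 4, 3, 2, 1], [6, 4, 3, 2, 1], [6, 5, 4, 3, 2, 1], [3, 6, 4, 3, 2, 1], [3, 6, 5, 4, 3, 2, 1], [2, 3, 6, 4, 3, 2, 1], [2, 3, 6, 5, 4, 3, 2, 1], [4, 3, 6, 5, 4, 3, 2, 1], [1, 2, 3, 6, 4, 3, 2, 1], [1, 2, 3, 6, 5, 4, 3, 2, 1], [4, 2, 3, 6, 5, 4, 3, 2, 1], [4, 1, 2, 3, 6, 5, 4, 3, 2, 1], [3, 4, 2, 3, 6, 5, 4, 3, 2, 1], [3, 4, 1, 2, 3, 6, 5, 4, 3, 2, 1], [6, 3, 4, 2, 3, 6, 5, 4, 3, 2, 1], [2, 3, 4, 1, 2, 3, 6, 5, 4, 3, 2, 1], [6, 3, 4, 1, 2, 3, 6, 5, 4, 3, 2, 1], [6, 2, 3, 4, 1, 2, 3, 6, 5, 4, 3, 2, 1], [3, 6, 2, 3, 4, 1, 2, 3, 6, 5, 4, 3, 2, 1], [4, 3, 6, 2, 3, 4, 1, 2, 3, 6, 5, 4, 3, 2, 1], [5, 4, 3, 6, 2, 3, 4, 1, 2, 3, 6, 5, 4, 3, 2, 1]]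

/-- Left multiplication on the cosets. -/
def edgesB5 : List (List (ℕ × Option ℕ)) :=
  [[(1, none), (0, none), (2, some 2), (3, some 2), (4, some 2), (5, some 2), (6, some 2), (7, some 2), (8, some 2), (9, some 2), (10, some 2), (14, none), (15, none), (13, some 2), (11, none), (12, none), (17, none), (16, none), (19, none), (18, none), (22, none), (21, some 5), (20, none), (23, some 5), (24, some 5), (25, some 5), (26, some 5)],
   [(0, some 2), (2, none), (1, none), (3, some 3), (4, some 3), (5, some 3), (6, some 3), (7, some 3), (8, some 3), (11, none), (12, none), (9, none), (10, none), (16, none), (14, some 2), (15, some 2), (13, none), (17, some 2), (18, some 5), (21, none), (20, some 5), (19, none), (23, none), (22, none), (24, some 4), (25, some 4), (26, some 4)],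
   [(0, some 3), (1, some 3), (3, none), (2, none), (4, some 4), (5, some 6), (6, some 4), (9, none), (10, none), (7, none), (8, none), (11, some 3), (12, some 3), (13, some 5), (14, some 3), (15, some 3), (18, none), (19, none), (16, none), (17, none), (20, some 4), (21, some 2), (22, some 4), (24, none), (23, none), (25, some 3), (26, some 3)],
   [(0, some 4), (1, some 4), (2, some 4), (4, none), (3, none), (7, none), (6, some 5), (5, none), (8, some 5), (9, some 6), (13, none), (11, some 6), (16, none), (10, none), (14, some 6), (17, none), (12, none), (15, none), (18, some 3), (19, some 3), (20, some 3), (21, some 3), (22, some 3), (23, some 3), (25, none), (24, none), (26, some 6)],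
   [(0, some 5), (1, some 5), (2, some 5), (3, some 5), (6, none), (5, some 5), (4, none), (8, none), (7, none), (10, none), (9, none), (12, none), (11, none), (13, some 6), (15, none), (14, none), (16, some 6), (17, some 6), (18, some 6), (19, some 6), (20, some 6), (21, some 6), (22, some 6), (23, some 6), (24, some 6), (26, none), (25, none)],
   [(0, some 6), (1, some 6), (2, some 6), (5, none), (7, none), (3, none), (8, none), (4, none), (6, none), (9, some 4), (10, some 4), (11, some 4), (12, some 4), (13, some 4), (14, some 4), (15, some 4), (16, some 4), (17, some 4), (20, none), (22, none), (18, none), (23, none), (19, none), (21, none), (24, some 2), (25, some 2), (26, some 2)]]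

/-- The positive roots of the smaller subsystem. -/
def rjB5 : List (Fin 240) := [123, 126, 127, 130, 131, 132, 135, 136, 137, 138, 169, 170, 171, 174, 175, 178, 184, 185, 188, 194]

/-- Coset representatives. -/
def repsB6 : List (List ℕ) := [[], [0], [1, 0], [2, 1, 0], [3, 2, 1, 0], [4, 3, 2, 1, 0], [6, 3, 2, 1, 0], [5, 4, 3, 2, 1, 0], [6, 4, 3, 2, 1, 0], [6, 5, 4, 3, 2, 1, 0], [3, 6, 4, 3, 2, 1, 0], [3, 6, 5, 4, 3, 2, 1, 0], [2, 3, 6, 4, 3, 2, 1, 0], [2, 3, 6, 5, 4, 3, 2, 1, 0], [4, 3, 6, 5, 4, 3, 2, 1, 0], [1, 2, 3, 6, 4, 3, 2, 1, 0], [1, 2, 3, 6, 5, 4, 3, 2, 1, 0], [4, 2, 3, 6, 5, 4, 3, 2, 1, 0], [0, 1, 2, 3, 6, 4, 3, 2, 1, 0], [0, 1, 2, 3, 6, 5, 4, 3, 2, 1, 0], [4, 1, 2, 3, 6, 5, 4, 3, 2, 1, 0], [3, 4, 2, 3, 6, 5, 4, 3, 2, 1, 0], [4, 0, 1, 2, 3, 6, 5, 4, 3, 2, 1, 0], [3, 4, 1, 2, 3, 6, 5, 4, 3, 2, 1, 0], [6, 3, 4, 2, 3, 6, 5, 4, 3, 2, 1, 0], [3, 4, 0, 1, 2, 3, 6, 5, 4, 3, 2, 1, 0], [2, 3, 4, 1, 2, 3, 6, 5, 4, 3, 2, 1, 0], [6, 3, 4, 1, 2, 3, 6, 5, 4, 3, 2, 1, 0], [2, 3, 4, 0, 1, 2, 3, 6, 5, 4, 3, 2, 1, 0], [6, 3, 4, 0, 1, 2, 3, 6, 5, 4, 3, 2, 1, 0], [6, 2, 3, 4, 1, 2, 3, 6, 5, 4, 3, 2, 1, 0], [1, 2, 3, 4, 0, 1, 2, 3, 6, 5, 4, 3, 2, 1, 0], [6, 2, 3, 4, 0,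 1, 2, 3, 6, 5, 4, 3, 2, 1, 0], [3, 6, 2, 3, 4, 1, 2, 3, 6, 5, 4, 3, 2, 1, 0], [6, 1, 2, 3, 4, 0, 1, 2, 3, 6, 5, 4, 3, 2, 1, 0], [3, 6, 2, 3, 4, 0, 1, 2, 3, 6, 5, 4, 3, 2, 1, 0], [4, 3, 6, 2, 3, 4, 1, 2, 3, 6, 5, 4, 3, 2, 1, 0], [3, 6, 1, 2, 3, 4, 0, 1, 2, 3, 6, 5, 4, 3, 2, 1, 0], [4, 3, 6, 2, 3, 4, 0, 1, 2, 3, 6, 5, 4, 3, 2, 1, 0], [5, 4, 3, 6, 2, 3, 4, 1, 2, 3, 6, 5, 4, 3, 2, 1, 0], [2, 3, 6, 1, 2, 3, 4, 0, 1, 2, 3, 6, 5, 4, 3, 2, 1, 0], [4, 3, 6, 1, 2, 3, 4, 0, 1, 2, 3, 6, 5, 4, 3, 2, 1, 0], [5, 4, 3, 6, 2, 3, 4, 0, 1, 2, 3, 6, 5, 4, 3, 2, 1, 0], [4, 2, 3, 6, 1, 2, 3, 4, 0, 1, 2, 3, 6, 5, 4, 3, 2, 1, 0], [5, 4, 3, 6, 1, 2, 3, 4, 0, 1, 2, 3, 6, 5, 4, 3, 2, 1, 0], [3, 4, 2, 3, 6, 1, 2, 3, 4, 0, 1, 2, 3, 6, 5, 4, 3, 2, 1, 0], [5, 4, 2, 3, 6, 1, 2, 3, 4, 0, 1, 2, 3, 6, 5, 4, 3, 2, 1, 0], [5, 3, 4, 2, 3, 6, 1, 2, 3, 4, 0, 1, 2, 3, 6, 5, 4, 3, 2, 1, 0], [6, 3, 4, 2, 3, 6, 1, 2, 3, 4, 0, 1, 2, 3, 6, 5, 4, 3, 2, 1, 0], [4, 5, 3, 4, 2, 3, 6, 1, 2, 3, 4, 0, 1, 2, 3, 6, 5, 4, 3, 2, 1, 0], [6, 5, 3, 4, 2, 3, 6, 1, 2, 3, 4, 0, 1, 2, 3, 6, 5, 4, 3, 2, 1, 0], [6, 4, 5, 3, 4, 2, 3, 6, 1, 2, 3, 4, 0, 1, 2, 3, 6, 5, 4, 3, 2, 1, 0], [3, 6, 4, 5, 3, 4, 2, 3, 6, 1, 2, 3, 4, 0,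 1, 2, 3, 6, 5, 4, 3, 2, 1, 0], [2, 3, 6, 4, 5, 3, 4, 2, 3, 6, 1, 2, 3, 4, 0, 1, 2, 3, 6, 5, 4, 3, 2, 1, 0], [1, 2, 3, 6, 4, 5, 3, 4, 2, 3, 6, 1, 2, 3, 4, 0, 1, 2, 3, 6, 5, 4, 3, 2, 1, 0], [0, 1, 2, 3, 6, 4, 5, 3, 4, 2, 3, 6, 1, 2, 3, 4, 0, 1, 2, 3, 6, 5, 4, 3, 2, 1, 0]]

/-- Left multiplication on the cosets. -/
def edgesB6 : List (List (ℕ × Option ℕ)) :=
  [[(1, none), (0, none), (2, some 1), (3, some 1), (4, some 1), (5, some 1), (6, some 1), (7, some 1), (8, some 1), (9, some 1), (10, some 1), (11, some 1), (12, some 1), (13, some 1), (14, some 1), (18, none), (19, none), (17, some 1), (15, none), (16, none), (22, none), (21, some 1), (20, none), (25, none), (24, some 1), (23, none), (28, none), (29, none), (26, none), (27, none), (32, none), (31, some 5), (30, none), (35, none), (34, some 5), (33, none), (38, none), (37, some 5), (36, none), (42, none), (40, some 5), (41, some 5), (39, none), (43, some 5), (44, some 5), (45, some 5), (46, some 5), (47, some 5), (48, some 5), (49, some 5), (50, some 5), (51, some 5), (52, some 5), (53, some 5), (55, none), (54, none)],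
   [(0, some 1), (2, none), (1, none), (3, some 2), (4, some 2), (5, some 2), (6, some 2), (7, some 2), (8, some 2), (9, some 2), (10, some 2), (11, some 2), (15, none), (16, none), (14, some 2), (12, none), (13, none), (20, none), (18, some 1), (19, some 1), (17, none), (23, none), (22, some 1), (21, none), (27, none), (25, some 1), (26, some 5), (24, none), (31, none), (29, some 1), (30, some 5), (28, none), (34, none), (33, some 5), (32, none), (37, none), (36, some 5), (35, none), (41, none), (39, some 5), (40, some 4), (38, none), (44, none), (43, some 4), (42, none), (45, some 4), (46, some 4), (47, some 4), (48, some 4), (49, some 4), (50, some 4), (51, some 4), (52, some 4), (54, none), (53, none), (55, some 5)],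
   [(0, some 2), (1, some 2), (3, none), (2, none), (4, some 3), (5, some 3), (6, some 3), (7, some 3), (8, some 3), (9, some 3), (12, none), (13, none), (10, none), (11, none), (17, none), (15, some 2), (16, some 2), (14, none), (18, some 2), (19, some 2), (20, some 2), (21, some 5), (22, some 2), (26, none), (24, some 5), (28, none), (23, none), (30, none), (25, none), (32, none), (27, none), (31, some 1), (29, none), (33, some 4), (34, some 1), (35, some 4), (36, some 4), (40, none), (38, some 4), (39, some 4), (37, none), (43, none), (42, some 4), (41, none), (46, none), (45, some 3), (44, none), (47, some 3), (48, some 3), (49, some 3), (50, some 3), (51, some 3), (53, none), (52, none), (54, some 4), (55, some 4)],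
   [(0, some 3), (1, some 3), (2, some 3), (4, none), (3, none), (5, some 4), (6, some 6), (7, some 4), (10, none), (11, none), (8, none), (9, none), (12, some 3), (13, some 3), (14, some 5), (15, some 3), (16, some 3), (21, none), (18, some 3), (19, some 3), (23, none), (17, none), (25, none), (20, none), (24, some 4), (22, none), (26, some 2), (27, some 4), (28, some 2), (29, some 4), (33, none), (31, some 2), (35, none), (30, none), (37, none), (32, none), (36, some 3), (34, none), (38, some 3), (39, some 3), (40, some 1), (41, some 3), (42, some 3), (45, none), (44, some 3), (43, none), (47, none), (46, none), (48, some 2), (49, some 6), (50, some 2), (52, none), (51, none), (53, some 3), (54, some 3), (55, some 3)],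
   [(0, some 4), (1, some 4), (2, some 4), (3, some 4), (5, none), (4, none), (8, none), (7, some 5), (6, none), (9, some 5), (10, some 6), (14, none), (12, some 6), (17, none), (11, none), (15, some 6), (20, none), (13, none), (18, some 6), (22, none), (16, none), (21, some 3), (19, none), (23, some 3), (24, some 3), (25, some 3), (26, some 3), (27, some 3), (28, some 3), (29, some 3), (30, some 3), (31, some 3), (32, some 3), (36, none), (34, some 3), (38, none), (33, none), (41, none), (35, none), (39, some 6), (43, none), (37, none), (42, some 6), (40, none), (44, some 6), (45, some 1), (46, some 6), (49, none), (48, some 1), (47, none), (51, none), (50, none), (52, some 2), (53, some 2), (54, some 2), (55, some 2)],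
   [(0, some 5), (1, some 5), (2, some 5), (3, some 5), (4, some 5), (7, none), (6, some 5), (5, none), (9, none), (8, none), (11, none), (10, none), (13, none), (12, none), (14, some 6), (16, none), (15, none), (17, some 6), (19, none), (18, none), (20, some 6), (21, some 6), (22, some 6), (23, some 6), (24, some 6), (25, some 6), (26, some 6), (27, some 6), (28, some 6), (29, some 6), (30, some 6), (31, some 6), (32, some 6), (33, some 6), (34, some 6), (35, some 6), (39, none), (37, some 6), (42, none), (36, none), (40, some 6), (44, none), (38, none), (46, none), (41, none), (47, none), (43, none), (45, none), (50, none), (49, some 1), (48, none), (51, some 1), (52, some 1), (53, some 1), (54, some 1), (55, some 1)],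
   [(0, some 6), (1, some 6), (2, some 6), (3, some 6), (6, none), (8, none), (4, none), (9, none), (5, none), (7, none), (10, some 4), (11, some 4), (12, some 4), (13, some 4), (14, some 4), (15, some 4), (16, some 4), (17, some 4), (18, some 4), (19, some 4), (20, some 4), (24, none), (22, some 4), (27, none), (21, none), (29, none), (30, none), (23, none), (32, none), (25, none), (26, none), (34, none), (28, none), (33, some 2), (31, none), (35, some 2), (36, some 2), (37, some 2), (38, some 2), (39, some 2), (40, some 2), (41, some 2), (42, some 2), (43, some 2), (44, some 2), (48, none), (46, some 2), (50, none), (45, none), (51, none), (47, none), (49, none), (52, some 6), (53, some 6), (54, some 6), (55, some 6)]]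

/-- The positive roots of the smaller subsystem. -/
def rjB6 : List (Fin 240) := [121, 123, 124, 126, 127, 128, 130, 131, 132, 133, 135, 136, 137, 138, 139, 169, 170, 171, 172, 174, 175, 176, 178, 179, 181, 184, 185, 186, 188, 189, 191, 194, 195, 197, 200, 226]

/-- Coset representatives. -/
def repsB7 : List (List ℕ) := [[], [7]]

/-- Left multiplication on the cosets. -/
def edgesB7 : List (List (ℕ × Option ℕ)) :=
  [[(0, some 0), (1, some 0)],
   [(0, some 1), (1, some 1)],
   [(0, some 2), (1, some 2)],
   [(0, some 3), (1, some 3)],
   [(0, some 4), (1, some 4)],
   [(0, some 5), (1, some 5)],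
   [(0, some 6), (1, some 6)],
   [(1, none), (0, none)]]

/-- The positive roots of the smaller subsystem. -/
def rjB7 : List (Fin 240) := [120, 121, 122, 123, 124, 125, 126, 127, 128, 129, 130, 131, 132, 133, 134, 135, 136, 137, 138, 139, 140, 169, 170, 171, 172, 173, 174, 175, 176, 177, 178, 179, 180, 181, 182, 183, 184, 185, 186, 187, 188, 189, 190, 191, 192, 193, 194, 195, 196, 197, 198, 199, 200, 201, 202, 203, 226, 227, 228, 229, 230, 231, 232]

theorem odd_ok : oddB model = true := by decide +kernel

theorem red_ok : redB model = true := by decide +kernel

theorem orbit_ok : chainB model [epsA, epsB] orbitData = true := by decide +kernel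

theorem cover_ok : coverB model ([epsA, epsB] ++ orbitData.map Prod.fst) = true := by decide +kernel

theorem count_ne : (fixedR model epsA).length ≠ (fixedR model epsB).length := by decide +kernel

theorem okA : subA.okB epsA = true := by decide +kernel

theorem countA : ((List.finRange model.tab.n).countP fun r => inS model epsA r) = 56 := by decide +kernel

theorem stepA0 : subA.stepB epsA [] [6] rjA0 repsA0 edgesA0 = true := by decide +kernel

theorem stepA1 : subA.stepB epsA [6] [4, 6] rjA1 repsA1 edgesA1 = true := by decide +kernel

theorem stepA2 : subA.stepB epsA [4, 6] [4, 5, 6] rjA2 repsA2 edgesA2 = true := by decide +kernel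

theorem stepA3 : subA.stepB epsA [4, 5, 6] [3, 4, 5, 6] rjA3 repsA3 edgesA3 = true := by decide +kernel

theorem stepA4 : subA.stepB epsA [3, 4, 5, 6] [2, 3, 4, 5, 6] rjA4 repsA4 edgesA4 = true := by decide +kernel

theorem stepA5 : subA.stepB epsA [2, 3, 4, 5, 6] [1, 2, 3, 4, 5, 6] rjA5 repsA5 edgesA5 = true := by decide +kernel

theorem stepA6 : subA.stepB epsA [1, 2, 3, 4, 5, 6] [0, 1, 2, 3, 4, 5, 6] rjA6 repsA6 edgesA6 = true := by decide +kernel

theorem stepA7 : subA.stepB epsA [0, 1, 2, 3, 4, 5, 6] [0, 1, 2, 3, 4, 5, 6, 7] rjA7 repsA7 edgesA7 = true := by decide +kernel

theorem okB : subB.okB epsB = true := by decide +kernel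

theorem countB : ((List.finRange model.tab.n).countP fun r => inS model epsB r) = 64 := by decide +kernel

theorem stepB0 : subB.stepB epsB [] [6] rjB0 repsB0 edgesB0 = true := by decide +kernel

theorem stepB1 : subB.stepB epsB [6] [3, 6] rjB1 repsB1 edgesB1 = true := by decide +kernel

theorem stepB2 : subB.stepB epsB [3, 6] [3, 4, 6] rjB2 repsB2 edgesB2 = true := by decide +kernel

theorem stepB3 : subB.stepB epsB [3, 4, 6] [2, 3, 4, 6] rjB3 repsB3 edgesB3 = true := by decide +kernel

theorem stepB4 : subB.stepB epsB [2, 3, 4, 6] [2, 3, 4, 5, 6] rjB4 repsB4 edgesB4 = true := by decide +kernel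

theorem stepB5 : subB.stepB epsB [2, 3, 4, 5, 6] [1, 2, 3, 4, 5, 6] rjB5 repsB5 edgesB5 = true := by decide +kernel

theorem stepB6 : subB.stepB epsB [1, 2, 3, 4, 5, 6] [0, 1, 2, 3, 4, 5, 6] rjB6 repsB6 edgesB6 = true := by decide +kernel

theorem stepB7 : subB.stepB epsB [0, 1, 2, 3, 4, 5, 6] [0, 1, 2, 3, 4, 5, 6, 7] rjB7 repsB7 edgesB7 = true := by decide +kernel

end Cfsg.Agent.CG26.ChevInv.InvE8
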