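import Cfsg.Agent.CG26.ChevInv.Finish
import Cfsg.Agent.ChevGroup.Mat.F4

/-!
Certificates for the involutions of F4: sign vectors, the fundamental systems of the two centralisers, and
the chains of parabolic subgroups (generated).
-/

set_option autoImplicit false
set_option maxRecDepth 20000
set_option maxHeartbeats 2000000

namespace Cfsg.Agent.CG26.ChevInv.InvF4

open Cfsg.Lie Cfsg.Agent.ChevGroup
open Cfsg.Agent.ChevGroup.TypeF4 (model)

/-- A representative sign vector. -/
def epsA : List Bool := [true, false, false, false]

/-- A representative sign vector. -/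
def epsB : List Bool := [false, false, true, false]

/-- The orbits of the sign vectors. -/
def orbitData : List (List Bool × Fin 4 × List Bool) :=
  [([true, true, false, false], 0, [true, false, false, false]),
   ([false, true, false, false], 1, [true, true, false, false]),
   ([false, true, true, true], 2, [false, false, true, false]),
   ([true, true, true, true], 1, [false, true, true, true]),
   ([false, true, false, true], 3, [false, true, true, true]),
   ([true, false, true, true], 0, [true, true, true, true]),
   ([true, false, true, false], 2, [true, true, true, true]),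
   ([true, true, false, true], 3, [true, true, true, true]),
   ([true, true, true, false], 2, [true, false, true, true]),
   ([true, false, false, true], 3, [true, false, true, true]),
   ([false, true, true, false], 1, [true, true, true, false]),
   ([false, false, true, true], 2, [false, true, true, false]),
   ([false, false, false, true], 3, [false, false, true, true])]

/-- The fundamental system of the roots with trivial sign. -/
def subA : SubData model where
  k := 4
  words := ([[3],
    [2],
    [1],
    [0, 1, 2, 1, 0]] : List (List (Fin 4)))
  tabs := [0x2e2f2d2c2b292a2827252623242221201e1f1c1d1b191a1718151614121310110f0e0d0b0c090a080705060403020001,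
    0x2f2d2e2c2a2b2928262725242223211f201e1d1b1c18161a151917131412110f100e0c0d0b0a08090706040503010200,
    0x2f2e2b2c2d2a292728242326252122201a191d1c141f1e181711101b131216150f0d0e0a090c0b070806050203040100,
    0x2f201f1d1a18062827260e240d0c0a2e2d1e2c1c1b2b192a0516041413031102012523220b2109080729171512100f00]
  roots := ([24, 25, 27, 41] : List (Fin 48))
  coef := [[], [], [], [], [], [], [], [], [], [], [], [], [], [], [], [], [], [], [], [], [], [], [], [], [1, 0, 0, 0], [0, 1, 0, 0], [1, 1, 0, 0], [0, 0, 1, 0], [0, 1, 1, 0], [1, 1, 1, 0], [0, 1, 2, 0], [1, 1, 2, 0], [1, 2, 2, 0], [], [], [], [], [], [], [], [], [0, 0, 0, 1], [1, 0, 0, 1], [1, 1, 0, 1], [1, 1, 1, 1], [1, 1, 2, 1], [1, 2, 2, 1], [2, 2, 2, 1]]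
  adj := [[false, true, false, true],
    [true, false, true, false],
    [false, true, false, false],
    [true, false, false, false]]
  N := 2
  phi := [-2, 2, 2, 2]
  M := 2
  A := [[0, -1, -2, 1], [0, 0, 2, 0], [0, 2, 0, 0], [2, 0, 0, 0]]

/-- Coset representatives. -/
def repsA0 : List (List ℕ) := [[], [2]]

/-- Left multiplication on the cosets. -/
def edgesA0 : List (List (ℕ × Option ℕ)) :=
  [[(1, none), (0, none)]]

/-- The positive roots of the smaller subsystem. -/
def rjA0 : List (Fin 48) := []

/-- Coset representatives. -/
def repsA1 : List (List ℕ) := [[], [1], [2, 1], [1, 2, 1]]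

/-- Left multiplication on the cosets. -/
def edgesA1 : List (List (ℕ × Option ℕ)) :=
  [[(1, none), (0, none), (3, none), (2, none)],
   [(0, some 2), (2, none), (1, none), (3, some 2)]]

/-- The positive roots of the smaller subsystem. -/
def rjA1 : List (Fin 48) := [27]

/-- Coset representatives. -/
def repsA2 : List (List ℕ) := [[], [0], [1, 0], [2, 1, 0], [1, 2, 1, 0], [0, 1, 2, 1, 0]]

/-- Left multiplication on the cosets. -/
def edgesA2 : List (List (ℕ × Option ℕ)) :=
  [[(1, none), (0, none), (2, some 1), (3, some 1), (5, none), (4, none)],
   [(0, some 1), (2, none), (1, none), (4, none), (3, none), (5, some 1)],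
   [(0, some 2), (1, some 2), (3, none), (2, none), (4, some 2), (5, some 2)]]

/-- The positive roots of the smaller subsystem. -/
def rjA2 : List (Fin 48) := [25, 27, 28, 30]

/-- Coset representatives. -/
def repsA3 : List (List ℕ) := [[], [3], [0, 3], [1, 0, 3], [2, 1, 0, 3], [1, 2, 1, 0, 3], [0, 1, 2, 1, 0, 3], [3, 0, 1, 2, 1, 0, 3]]

/-- Left multiplication on the cosets. -/
def edgesA3 : List (List (ℕ × Option ℕ)) :=
  [[(0, some 0), (2, none), (1, none), (3, some 1), (4, some 1), (6, none), (5, none), (7, some 0)],
   [(0, some 1), (1, some 1), (3, none), (2, none), (5, none), (4, none), (6, some 1), (7, some 1)],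
   [(0, some 2), (1, some 2), (2, some 2), (4, none), (3, none), (5, some 2), (6, some 2), (7, some 2)],
   [(1, none), (0, none), (2, some 0), (3, some 0), (4, some 0), (5, some 0), (7, none), (6, none)]]

/-- The positive roots of the smaller subsystem. -/
def rjA3 : List (Fin 48) := [24, 25, 26, 27, 28, 29, 30, 31, 32]

/-- The fundamental system of the roots with trivial sign. -/
def subB : SubData model where
  k := 4
  words := ([[3],
    [1],
    [2, 1, 2, 3, 2, 1, 2],
    [0]] : List (List (Fin 4)))
  tabs := [0x2e2f2d2c2b292a2827252623242221201e1f1c1d1b191a1718151614121310110f0e0d0b0c090a080705060403020001,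
    0x2f2e2b2c2d2a292728242326252122201a191d1c141f1e181711101b131216150f0d0e0a090c0b070806050203040100,
    0x2a292d2c2b2f2e22212625242328270f161513121b111018171f1e141d1c1a192008070c0b0a090e0d01000403020605,
    0x2f2e2d28201f1e2c2726251d1c1b0e2b2a292423221a19181716150d0c0b060504211413120a09080311100f07020100]
  roots := ([24, 27, 32, 33] : List (Fin 48))
  coef := [[], [], [], [], [], [], [], [], [], [], [], [], [], [], [], [], [], [], [], [], [], [], [], [], [1, 0, 0, 0], [], [], [0, 1, 0, 0], [], [], [], [], [0, 0, 1, 0], [0, 0, 0, 1], [0, 1, 0, 1], [], [], [], [], [0, 0, 1, 1], [0, 1, 1, 1], [], [], [0, 0, 1, 2], [0, 1, 1, 2], [0, 2, 1, 2], [], []]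
  adj := [[false, false, false, false],
    [false, false, false, true],
    [false, false, false, true],
    [false, true, true, false]]
  N := 2
  phi := [2, 2, -2, 2]
  M := 2
  A := [[0, 0, 0, 2], [0, 2, 0, 0], [-1, -2, 1, 0], [2, 0, 0, 0]]

/-- Coset representatives. -/
def repsB0 : List (List ℕ) := [[], [3]]

/-- Left multiplication on the cosets. -/
def edgesB0 : List (List (ℕ × Option ℕ)) :=
  [[(1, none), (0, none)]]

/-- The positive roots of the smaller subsystem. -/
def rjB0 : List (Fin 48) := []

/-- Coset representatives. -/
def repsB1 : List (List ℕ) := [[], [2], [3, 2], [2, 3, 2]]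

/-- Left multiplication on the cosets. -/
def edgesB1 : List (List (ℕ × Option ℕ)) :=
  [[(1, none), (0, none), (3, none), (2, none)],
   [(0, some 3), (2, none), (1, none), (3, some 3)]]

/-- The positive roots of the smaller subsystem. -/
def rjB1 : List (Fin 48) := [33]

/-- Coset representatives. -/
def repsB2 : List (List ℕ) := [[], [1], [3, 1], [2, 3, 1], [3, 2, 3, 1], [1, 3, 2, 3, 1]]

/-- Left multiplication on the cosets. -/
def edgesB2 : List (List (ℕ × Option ℕ)) :=
  [[(1, none), (0, none), (2, some 3), (3, some 3), (5, none), (4, none)],
   [(0, some 2), (1, some 2), (3, none), (2, none), (4, some 2), (5, some 2)],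
   [(0, some 3), (2, none), (1, none), (4, none), (3, none), (5, some 3)]]

/-- The positive roots of the smaller subsystem. -/
def rjB2 : List (Fin 48) := [32, 33, 39, 43]

/-- Coset representatives. -/
def repsB3 : List (List ℕ) := [[], [0]]

/-- Left multiplication on the cosets. -/
def edgesB3 : List (List (ℕ × Option ℕ)) :=
  [[(1, none), (0, none)],
   [(0, some 1), (1, some 1)],
   [(0, some 2), (1, some 2)],
   [(0, some 3), (1, some 3)]]

/-- The positive roots of the smaller subsystem. -/
def rjB3 : List (Fin 48) := [27, 32, 33, 34, 39, 40, 43, 44, 45]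

theorem odd_ok : oddB model = true := by decide +kernel

theorem red_ok : redB model = true := by decide +kernel

theorem orbit_ok : chainB model [epsA, epsB] orbitData = true := by decide +kernel

theorem cover_ok : coverB model ([epsA, epsB] ++ orbitData.map Prod.fst) = true := by decide +kernel

theorem count_ne : (fixedR model epsA).length ≠ (fixedR model epsB).length := by decide +kernel

theorem okA : subA.okB epsA = true := by decide +kernel

theorem countA : ((List.finRange model.tab.n).countP fun r => inS model epsA r) = 16 := by decide +kernel

theorem stepA0 : subA.stepB epsA [] [2] rjA0 repsA0 edgesA0 = true := by decide +kernel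

theorem stepA1 : subA.stepB epsA [2] [1, 2] rjA1 repsA1 edgesA1 = true := by decide +kernel

theorem stepA2 : subA.stepB epsA [1, 2] [0, 1, 2] rjA2 repsA2 edgesA2 = true := by decide +kernel

theorem stepA3 : subA.stepB epsA [0, 1, 2] [0, 1, 2, 3] rjA3 repsA3 edgesA3 = true := by decide +kernel

theorem okB : subB.okB epsB = true := by decide +kernel

theorem countB : ((List.finRange model.tab.n).countP fun r => inS model epsB r) = 10 := by decide +kernel

theorem stepB0 : subB.stepB epsB [] [3] rjB0 repsB0 edgesB0 = true := by decide +kernel

theorem stepB1 : subB.stepB epsB [3] [2, 3] rjB1 repsB1 edgesB1 = true := by decide +kernel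

theorem stepB2 : subB.stepB epsB [2, 3] [1, 2, 3] rjB2 repsB2 edgesB2 = true := by decide +kernel

theorem stepB3 : subB.stepB epsB [1, 2, 3] [0, 1, 2, 3] rjB3 repsB3 edgesB3 = true := by decide +kernel

end Cfsg.Agent.CG26.ChevInv.InvF4
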