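import Cfsg.Agent.CG26.ChevInv.Poincare

/-!
The two classes of involutions and the orders of their centralisers, from the certificates.
-/

set_option autoImplicit false
set_option linter.unusedSectionVars false

namespace Cfsg.Agent.CG26.ChevInv

open Cfsg.Lie Cfsg.Agent.ChevGroup Cfsg.Agent.ChevCore Cfsg.Agent.ChevTori

universe u

variable {D : ChevalleyDatum} {T : Model D}

theorem two_ne_zero_of_odd {F : Type u} [Field F] [Fintype F] (hF : Odd (Fintype.card F)) : (2 : F) ≠ 0 := by
  intro h
  have hc : ringChar F = 2 := CharP.ringChar_of_prime_eq_zero Nat.prime_two (by exact_mod_cast h)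
  have := FiniteField.even_card_iff_char_two.1 hc
  rw [Nat.odd_iff] at hF
  omega

/-- A product of geometric sums from identities over `ℤ`. -/
theorem nat_eq_of_cast {a b : ℕ} (h : (a : ℤ) = b) : a = b := by exact_mod_cast h

/-- The classes of involutions. -/
theorem involution_data (hU : UGood D) {F : Type u} [Field F] [Fintype F] (hF : Odd (Fintype.card F))
    (hodd : oddB T = true) (hred : redB T = true) {wit : List (List (Fin T.tab.l) × Fin T.tab.l)}
    (hwit : T.witB wit = true) {w₀ : List (Fin T.tab.l)} (hlong : T.longestB w₀ = true)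
    (hspan : Mat.spanB D (T.posList.map Fin.val) = true)
    (hH : Nat.card ↥(D.diagonalSubgroup F) = (Fintype.card F - 1) ^ T.tab.l)
    {εa εb : List Bool} {data : List (List Bool × Fin T.tab.l × List Bool)}
    (hchain : chainB T [εa, εb] data = true) (hcover : coverB T ([εa, εb] ++ data.map Prod.fst) = true)
    {ja jb : Fin T.tab.l} (hja : εa.getD ja.val false = true) (hjb : εb.getD jb.val false = true)
    (hne : (fixedR T εa).length ≠ (fixedR T εb).length)
    {Wa Wb : SubData T} (hWa : Wa.okB εa = true) (hWb : Wb.okB εb = true)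
    {Na Nb : ℕ} (hNa : ((List.finRange T.tab.n).countP fun r => inS T εa r) = Na)
    (hNb : ((List.finRange T.tab.n).countP fun r => inS T εb r) = Nb) :
    ∃ s t : ↥(D.group F), orderOf s = 2 ∧ orderOf t = 2 ∧ ¬ IsConj s t ∧
      (∀ u : ↥(D.group F), orderOf u = 2 → IsConj u s ∨ IsConj u t) ∧
      Nat.card (Subgroup.centralizer ({s} : Set ↥(D.group F))) =
        Fintype.card F ^ Na * (Fintype.card F - 1) ^ T.tab.l *
          sumG εa Wa (Fintype.card F) (List.range Wa.k) ∧
      Nat.card (Subgroup.centralizer ({t} : Set ↥(D.group F))) =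
        Fintype.card F ^ Nb * (Fintype.card F - 1) ^ T.tab.l *
          sumG εb Wb (Fintype.card F) (List.range Wb.k) := by
  have h2 := two_ne_zero_of_odd hF
  have hinj : injB T = true := by
    simp only [redB, Bool.and_eq_true] at hred; exact hred.1
  have hcard : Nat.card ↥(rr (F := F) T hU).H = (Fintype.card F - 1) ^ T.tab.l := by
    rw [← T.card_H_eq (relsOfCommGood hU.toCommGood F), hH]
  obtain ⟨s, hs⟩ := exists_hasSign (T := T) (hU := hU) hcard εa
  obtain ⟨t, ht⟩ := exists_hasSign (T := T) (hU := hU) hcard εb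
  refine ⟨s, t, orderOf_eq_two h2 hs hja, orderOf_eq_two h2 ht hjb,
    fun hc => hne (length_fixedR_eq h2 hwit ⟨w₀, hlong⟩ hspan hs ht hc),
    fun u hu => classes h2 hodd hwit ⟨w₀, hlong⟩ hspan hred hchain hcover hs ht hu, ?_, ?_⟩
  · rw [card_centralizer T hU hwit hlong hspan hs.1, card_invFix hU hWa h2 hs hlong, hNa, hcard,
      sum_stabF hU hWa hwit hinj h2 hs]
  · rw [card_centralizer T hU hwit hlong hspan ht.1, card_invFix hU hWb h2 ht hlong, hNb, hcard,
      sum_stabF hU hWb hwit hinj h2 ht]

end Cfsg.Agent.CG26.ChevInv
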