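import Cfsg.Agent.CG26.ChevInv.Classes
import Cfsg.Agent.ChevFixed.Bruhat

/-!
The cosets of the Borel subgroup fixed by a diagonal element, cell by cell, and the order of the centraliser
of a diagonal element as a sum over the stabiliser of its character in the Weyl group.
-/

set_option autoImplicit false
set_option linter.unusedSectionVars false

namespace Cfsg.Agent.CG26.ChevInv

open Cfsg.Lie Cfsg.Agent.ChevGroup Cfsg.Agent.ChevCore Cfsg.Agent.ChevTori

universe u

variable {D : ChevalleyDatum} (T : Model D) (hU : UGood D) {F : Type u} [Field F]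

theorem red_of_decomp : ∀ w : List (Fin T.tab.l),
    (∀ v i u, w = v ++ i :: u → T.S.pos (T.S.actw u.reverse (T.S.simple i))) → T.S.Red w := by
  intro w
  induction w with
  | nil => intro _; trivial
  | cons i u ih => exact fun h => ⟨h [] i u rfl, ih fun v j x e => h (i :: v) j x (by rw [e]; rfl)⟩

theorem red_longest {w : List (Fin T.tab.l)} (hw : T.longestB w = true) : T.S.Red w := by
  refine red_of_decomp T w fun v i u he => ?_
  simp only [Model.longestB, Bool.and_eq_true, List.all_eq_true, List.mem_range] at hw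
  have := hw.1 v.length (by rw [he]; simp)
  rw [he, List.drop_left] at this
  simpa using this

theorem cell_ne_of_pos {i : Fin T.tab.l} {u : List (Fin T.tab.l)}
    (hspan : Mat.spanB D (T.posList.map Fin.val) = true)
    (hpos : T.S.pos (T.S.actw u.reverse (T.S.simple i))) :
    cell (rr (F := F) T hU).B (rr T hU).B ((rr T hU).nw u) ≠
      cell (rr T hU).B (rr T hU).B ((rr T hU).nw (i :: u)) := by
  intro h
  set K := relsOfCommGood hU.toCommGood F
  have hP : ∀ p ∈ (rr T hU).B, (T.shapeR K).Pres T.S.pos p := fun p hp =>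
    (T.shapeR K).pres_par (J := []) (fun r t hr => T.pres_posList K hspan r t hr)
      (fun j hj => by simp at hj) ((rr T hU).B_le_par _ hp)
  obtain ⟨s, hs, he⟩ := (T.shapeR K).image_of_cell_eq hP h.symm _ hpos
  rw [T.S.actw_cons, T.S.actw_reverse, T.S.refl_simple] at he
  have h2 : s = T.S.neg (T.S.actw u.reverse (T.S.simple i)) := by
    rw [← T.S.actw_neg, he, T.S.actw_reverse']
  exact T.S.not_pos_neg _ hpos (h2 ▸ hs)

/-- The positive roots inverted by `w⁻¹` with trivial character. -/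
noncomputable def invFix (h : ↥(D.group F)) (w : List (Fin T.tab.l)) : Finset (Fin T.tab.n) :=
  letI := Classical.decEq F
  (inv T w.reverse).filter fun r => chi T h r = 1

/-- The cosets in a cell fixed by an element. -/
noncomputable def fixCell (h : ↥(D.group F)) (w : List (Fin T.tab.l)) :
    Set (↥(D.group F) ⧸ (rr (F := F) T hU).B) :=
  {c | c ∈ cell (rr T hU).B (rr T hU).B ((rr T hU).nw w) ∧ h • c = c}

theorem invFix_cons {h h' : ↥(D.group F)} {i : Fin T.tab.l} {u : List (Fin T.tab.l)}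
    (hpos : T.S.pos (T.S.actw u.reverse (T.S.simple i)))
    (hchi : ∀ r, chi T h (T.S.refl i r) = chi T h' r) :
    (invFix T h (i :: u)).card =
      @ite ℕ (chi T h (T.S.simple i) = 1) (Classical.decEq F _ _) 1 0 + (invFix T h' u).card := by
  classical
  have e : (((inv T u.reverse).image (T.S.refl i)).filter fun r => chi T h r = 1) =
      ((inv T u.reverse).filter fun r => chi T h' r = 1).image (T.S.refl i) := by
    rw [Finset.filter_image]
    simp only [hchi]
  have hcard : (((inv T u.reverse).filter fun r => chi T h' r = 1).image (T.S.refl i)).card =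
      ((inv T u.reverse).filter fun r => chi T h' r = 1).card :=
    Finset.card_image_of_injective _ (Function.LeftInverse.injective (T.S.refl_refl i))
  have hnot : T.S.simple i ∉ ((inv T u.reverse).filter fun r => chi T h' r = 1).image (T.S.refl i) := fun hm =>
    notMem_image_inv T u.reverse i (Finset.image_subset_image (Finset.filter_subset _ _) hm)
  rw [invFix, List.reverse_cons, inv_append_of_pos T hpos]
  show _ = _ + ((inv T u.reverse).filter fun r => chi T h' r = 1).card
  by_cases hc : chi T h (T.S.simple i) = 1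
  · rw [if_pos hc, Finset.filter_insert, if_pos hc, e, Finset.card_insert_of_notMem hnot, hcard, add_comm]
  · rw [if_neg hc, Finset.filter_insert, if_neg hc, e, hcard, zero_add]

variable [Fintype F]

/-- The fixed cosets in a cell. -/
theorem fixCell_data (hspan : Mat.spanB D (T.posList.map Fin.val) = true) :
    ∀ (w : List (Fin T.tab.l)), T.S.Red w → ∀ {h : ↥(D.group F)}, h ∈ (rr T hU).H →
      Nat.card (fixCell T hU h w) = Fintype.card F ^ (invFix T h w).card ∧
      ∀ c ∈ fixCell T hU h w, ∃ g : ↥(D.group F), (g : ↥(D.group F) ⧸ (rr T hU).B) = c ∧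
        g⁻¹ * h * g = ((rr T hU).nw w)⁻¹ * h * (rr T hU).nw w := by
  classical
  set R := rr (F := F) T hU
  intro w
  induction w with
  | nil =>
    intro _ h hh
    have e : fixCell T hU h [] = {((1 : ↥(D.group F)) : ↥(D.group F) ⧸ R.B)} := by
      ext c
      show c ∈ cell R.B R.B (R.nw []) ∧ h • c = c ↔ _
      rw [R.nw_nil, cell_one (le_refl R.B) (one_mem _)]
      simp only [Set.mem_singleton_iff]
      refine ⟨fun hc => hc.1, fun hc => ⟨hc, ?_⟩⟩
      subst hc
      exact QuotientGroup.eq.2 (by simpa using inv_mem (R.H_le_B hh))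
    refine ⟨?_, fun c hc => ?_⟩
    · rw [e, Nat.card_coe_set_eq, Set.ncard_singleton]
      simp [invFix, inv]
    · rw [e] at hc
      exact ⟨1, hc.symm, by simp⟩
  | cons i u ih =>
    intro hred h hh
    have hpos := hred.1
    set h' := (R.n i)⁻¹ * h * R.n i with hh'def
    have hh' : h' ∈ R.H := R.n_inv_conj_mem_H i hh
    obtain ⟨ihcard, ihrep⟩ := ih hred.2 hh'
    have hchi : ∀ r, chi T h (T.S.refl i r) = chi T h' r := fun r => by
      have h1 := chi_conj T hU [i] hh' r
      rw [show R.nw [i] * h' * (R.nw [i])⁻¹ = h by simp [hh'def]; group, T.S.actw_cons, T.S.actw_nil] at h1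
      exact h1
    have hbij := cell_bijective (R.x (T.S.simple i)) (fun t => R.x_mem_B (T.S.simple_pos i) t)
      (fun b hb => R.B_mul_n i hb) (fun s t hst => R.x_n_sep i hst) (R.up_of_pos hpos)
      (cell_ne_of_pos T hU hspan hpos)
    have hmove : ∀ (t : F) (c : ↥(D.group F) ⧸ R.B), h • (R.x (T.S.simple i) t * R.n i) • c =
        (R.x (T.S.simple i) (chi T h (T.S.simple i) * t) * R.n i) • (h' • c) := fun t c => by
      rw [← mul_smul, ← mul_smul, ← conj_x T hU hh]
      congr 1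
      simp only [hh'def, R]; group
    set Fs : Set F := {t | chi T h (T.S.simple i) * t = t}
    have hbij2 : Set.BijOn (fun p : F × (↥(D.group F) ⧸ R.B) => (R.x (T.S.simple i) p.1 * R.n i) • p.2)
        (Fs ×ˢ fixCell T hU h' u) (fixCell T hU h (i :: u)) := by
      refine ⟨?_, hbij.injOn.mono (Set.prod_mono (Set.subset_univ _) fun c hc => hc.1), ?_⟩
      · rintro ⟨t, c⟩ ⟨ht, hc⟩
        refine ⟨hbij.mapsTo ⟨trivial, hc.1⟩, ?_⟩
        show h • (R.x (T.S.simple i) t * R.n i) • c = (R.x (T.S.simple i) t * R.n i) • c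
        rw [hmove, hc.2, show chi T h (T.S.simple i) * t = t from ht]
      · intro c hc
        obtain ⟨⟨t, d⟩, ⟨-, hd⟩, rfl⟩ := hbij.surjOn hc.1
        have h1 := hc.2
        simp only at h1
        rw [hmove] at h1
        have h2 := hbij.injOn (show (chi T h (T.S.simple i) * t, h' • d) ∈ _ from
          ⟨trivial, smul_mem_cell (R.H_le_B hh') hd⟩) (show (t, d) ∈ _ from ⟨trivial, hd⟩) h1
        exact ⟨(t, d), ⟨(Prod.mk.inj h2).1, hd, (Prod.mk.inj h2).2⟩, rfl⟩
    refine ⟨?_, fun c hc => ?_⟩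
    · rw [← Nat.card_congr (hbij2.equiv _), Nat.card_congr (Equiv.Set.prod _ _), Nat.card_prod, ihcard,
        invFix_cons T hpos hchi, pow_add]
      congr 1
      by_cases hc : chi T h (T.S.simple i) = 1
      · rw [if_pos hc, pow_one, show Fs = Set.univ by ext t; simp [Fs, hc],
          Nat.card_congr (Equiv.Set.univ F), Nat.card_eq_fintype_card]
      · rw [if_neg hc, pow_zero, show Fs = {0} by
          ext t
          simp only [Fs, Set.mem_setOf_eq, Set.mem_singleton_iff]
          exact ⟨fun e => by_contra fun ht => hc ((mul_eq_right₀ ht).1 e), fun e => by simp [e]⟩,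
          Nat.card_coe_set_eq, Set.ncard_singleton]
    · obtain ⟨⟨t, d⟩, ⟨ht, hd⟩, rfl⟩ := hbij2.surjOn hc
      obtain ⟨g, rfl, hg⟩ := ihrep d hd
      refine ⟨R.x (T.S.simple i) t * R.n i * g, rfl, ?_⟩
      have hx : (R.x (T.S.simple i) t)⁻¹ * h * R.x (T.S.simple i) t = h := by
        have e1 := conj_x T hU hh (T.S.simple i) t
        rw [show chi T h (T.S.simple i) * t = t from ht, mul_inv_eq_iff_eq_mul] at e1
        rw [mul_assoc, e1, inv_mul_cancel_left]
      rw [show (R.x (T.S.simple i) t * R.n i * g)⁻¹ * h * (R.x (T.S.simple i) t * R.n i * g) =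
        g⁻¹ * ((R.n i)⁻¹ * ((R.x (T.S.simple i) t)⁻¹ * h * R.x (T.S.simple i) t) * R.n i) * g by group,
        hx, hg, R.nw_cons, hh'def]
      simp only [R]
      group

/-- The stabiliser of a character in the Weyl group. -/
noncomputable def stabF (h : ↥(D.group F)) : Finset (Equiv.Perm (Fin T.tab.n)) :=
  letI := Classical.decPred fun γ : Equiv.Perm (Fin T.tab.n) =>
    γ ∈ weyl T ∧ ∀ r, chi T h (γ r) = chi T h r
  Finset.univ.filter fun γ => γ ∈ weyl T ∧ ∀ r, chi T h (γ r) = chi T h r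

theorem mem_stabF {h : ↥(D.group F)} {γ : Equiv.Perm (Fin T.tab.n)} :
    γ ∈ stabF T h ↔ γ ∈ weyl T ∧ ∀ r, chi T h (γ r) = chi T h r := by simp [stabF]

/-- The positive roots with trivial character sent to negative ones. -/
noncomputable def invP (h : ↥(D.group F)) (γ : Equiv.Perm (Fin T.tab.n)) : Finset (Fin T.tab.n) :=
  letI := Classical.decEq F
  Finset.univ.filter fun r => T.S.pos r ∧ chi T h r = 1 ∧ ¬ T.S.pos (γ r)

theorem exists_red_word (hU : UGood D) (F : Type u) [Field F] (γ : Equiv.Perm (Fin T.tab.n))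
    (hγ : γ ∈ weyl T) :
    ∃ w, T.S.Red w ∧ pw T w = γ := by
  obtain ⟨w, rfl⟩ := exists_word_of_mem T hγ
  set R := rr (F := F) T hU
  obtain ⟨v, hv, -, -, h', hh', e⟩ := R.exists_red w
  refine ⟨v, hv, Equiv.ext fun r => ?_⟩
  rw [pw_apply, prod_reflPerm]
  obtain ⟨l, hl, e2⟩ := nw_inv_eq R v
  have hB : R.nw (w ++ v.reverse) ∈ R.B := by
    rw [R.nw_append, e, show h' * R.nw v * R.nw v.reverse = h' * (R.nw v * l⁻¹ * (R.nw v)⁻¹) by
      rw [e2]; group]
    exact R.H_le_B (mul_mem hh' (nw_conj_mem_H R v (inv_mem hl)))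
  have h1 := actw_eq_self_of_H (T.shapeR _) (fun r t => T.x_ne _ r t) hB (T.S.actw v r)
  rw [T.S.actw_append, T.S.actw_reverse'] at h1
  exact h1.symm

theorem mem_centralizer_iff' {h g : ↥(D.group F)} :
    g ∈ Subgroup.centralizer ({h} : Set ↥(D.group F)) ↔ g * h = h * g :=
  Subgroup.mem_centralizer_singleton_iff

variable {wit : List (List (Fin T.tab.l) × Fin T.tab.l)}

/-- The cosets met by the centraliser. -/
theorem card_cosets (hwit : T.witB wit = true) {w₀ : List (Fin T.tab.l)} (hlong : T.longestB w₀ = true)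
    (hspan : Mat.spanB D (T.posList.map Fin.val) = true) {h : ↥(D.group F)} (hh : h ∈ (rr T hU).H) :
    Nat.card {c : ↥(D.group F) ⧸ (rr (F := F) T hU).B // ∃ g ∈ Subgroup.centralizer ({h} : Set ↥(D.group F)),
      (g : ↥(D.group F) ⧸ (rr (F := F) T hU).B) = c} =
      ∑ γ ∈ stabF T h, Fintype.card F ^ (invP T h γ).card := by
  classical
  set R := rr (F := F) T hU
  set K := relsOfCommGood hU.toCommGood F
  have hword : ∀ γ : stabF T h, ∃ w, T.S.Red w ∧ pw T w = γ.1 := fun γ =>
    exists_red_word T hU F γ.1 ((mem_stabF T).1 γ.2).1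
  choose word hred hpw using hword
  have hfix : ∀ γ : stabF T h, (R.nw (word γ))⁻¹ * h * R.nw (word γ) = h := fun γ => by
    have hmem := R.nw_inv_conj_mem_H (word γ) hh
    refine congrArg Subtype.val (psi_injective T hU (a₁ := ⟨_, hmem⟩) (a₂ := ⟨h, hh⟩)
      (funext fun j => Units.ext ?_))
    rw [val_psi, val_psi]
    have h1 := chi_conj T hU (word γ) hmem (T.S.simple j)
    rw [show R.nw (word γ) * ((R.nw (word γ))⁻¹ * h * R.nw (word γ)) * (R.nw (word γ))⁻¹ = h by group,
      ← pw_apply, hpw, ((mem_stabF T).1 γ.2).2] at h1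
    exact h1.symm
  have hP : ∀ p ∈ R.B, (T.shapeR K).Pres T.S.pos p := fun p hp =>
    (T.shapeR K).pres_par (J := []) (fun r t hr => T.pres_posList K hspan r t hr)
      (fun j hj => by simp at hj) (R.B_le_par _ hp)
  have hset : {c : ↥(D.group F) ⧸ R.B | ∃ g ∈ Subgroup.centralizer ({h} : Set ↥(D.group F)),
      (g : ↥(D.group F) ⧸ R.B) = c} = ⋃ γ : stabF T h, fixCell T hU h (word γ) := by
    ext c
    constructor
    · rintro ⟨g, hg, rfl⟩
      rw [mem_centralizer_iff'] at hg
      obtain ⟨b₁, hb₁, w, hw, b₂, hb₂, rfl⟩ := R.exists_bruhat (g := g)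
        ((T.group_top K hwit).symm ▸ Subgroup.mem_top g)
      have hk := conj_key T hU hlong hspan w hh hh hb₁ hb₂ hg
      have hγ : pw T w ∈ stabF T h := (mem_stabF T).2 ⟨prod_mem_weyl T w, fun r => by
        have h1 := chi_conj T hU w hh r
        rw [hk, ← pw_apply] at h1
        exact h1⟩
      refine Set.mem_iUnion.2 ⟨⟨_, hγ⟩, ?_, ?_⟩
      · have hH := (T.shapeR K).nw_mem_H (fun r t => T.x_ne _ r t)
          (w := w ++ (word ⟨_, hγ⟩).reverse) fun r => by
            rw [T.S.actw_append, ← pw_apply T w, ← congrFun (congrArg DFunLike.coe (hpw ⟨_, hγ⟩)),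
              pw_apply, T.S.actw_reverse]
        obtain ⟨l, hl, e2⟩ := nw_inv_eq R (word ⟨_, hγ⟩)
        have hmem : R.nw w * (R.nw (word ⟨_, hγ⟩))⁻¹ ∈ R.H := by
          rw [R.nw_append] at hH
          rw [e2, show R.nw w * (l * R.nw (word ⟨_, hγ⟩).reverse) =
            (R.nw w * l * (R.nw w)⁻¹) * (R.nw w * R.nw (word ⟨_, hγ⟩).reverse) by group]
          exact mul_mem (nw_conj_mem_H R w hl) hH
        refine mem_cell.2 ⟨b₁ * (R.nw w * (R.nw (word ⟨_, hγ⟩))⁻¹), mul_mem hb₁ (R.H_le_B hmem),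
          QuotientGroup.eq.2 ?_⟩
        rw [show (b₁ * (R.nw w * (R.nw (word ⟨_, hγ⟩))⁻¹) * R.nw (word ⟨_, hγ⟩))⁻¹ *
          (b₁ * R.nw w * b₂) = b₂ by group]
        exact hb₂
      · show ((h * (b₁ * R.nw w * b₂) : ↥(D.group F)) : ↥(D.group F) ⧸ R.B) = _
        rw [← hg]
        exact QuotientGroup.eq.2 (by simpa [mul_assoc] using inv_mem (R.H_le_B hh))
    · intro hc
      obtain ⟨γ, hc⟩ := Set.mem_iUnion.1 hc
      obtain ⟨g, rfl, hg⟩ := (fixCell_data T hU hspan _ (hred γ) hh).2 c hc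
      refine ⟨g, mem_centralizer_iff'.2 ?_, rfl⟩
      rw [hfix] at hg
      calc g * h = g * (g⁻¹ * h * g) := by rw [hg]
        _ = h * g := by group
  have hdisj : Pairwise (Function.onFun Disjoint fun γ : stabF T h => fixCell T hU h (word γ)) := by
    intro γ δ hne
    refine Set.disjoint_left.2 fun c hc hc' => hne ?_
    have e : cell R.B R.B (R.nw (word δ)) = cell R.B R.B (R.nw (word γ)) :=
      (MulAction.orbit_eq_iff.2 hc'.1).symm.trans (MulAction.orbit_eq_iff.2 hc.1)
    refine Subtype.ext ?_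
    rw [← hpw γ, ← hpw δ]
    refine Equiv.ext fun r => ?_
    rw [pw_apply, pw_apply]
    have h2 := actw_eq_of_pos T hU F (w := (word γ).reverse ++ word δ) (fun s hs => by
      obtain ⟨s', hs', he⟩ := (T.shapeR K).image_of_cell_eq hP e s hs
      rwa [T.S.actw_append, he, T.S.actw_reverse']) r
    conv_lhs => rw [← h2, T.S.actw_append, T.S.actw_reverse]
  haveI : Finite (↥(D.group F) ⧸ R.B) := inferInstance
  rw [show Nat.card {c : ↥(D.group F) ⧸ R.B // ∃ g ∈ Subgroup.centralizer ({h} : Set ↥(D.group F)),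
    (g : ↥(D.group F) ⧸ R.B) = c} = Nat.card ↥(⋃ γ : stabF T h, fixCell T hU h (word γ)) from
      Nat.card_congr (Equiv.setCongr hset)]
  rw [Nat.card_coe_set_eq, Set.ncard_iUnion_of_finite (fun γ => Set.toFinite _) hdisj, finsum_eq_sum_of_fintype]
  simp only [← Nat.card_coe_set_eq, fun γ => (fixCell_data T hU hspan _ (hred γ) hh).1]
  rw [Finset.sum_coe_sort (s := stabF T h) (f := fun γ : Equiv.Perm (Fin T.tab.n) =>
    Fintype.card F ^ (invP T h γ).card) |>.symm]
  have hinvmem : ∀ γ : stabF T h, γ.1⁻¹ ∈ stabF T h := fun γ =>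
    (mem_stabF T).2 ⟨inv_mem ((mem_stabF T).1 γ.2).1, fun r => by
      conv_rhs => rw [← Equiv.apply_symm_apply γ.1 r, ((mem_stabF T).1 γ.2).2]
      rfl⟩
  refine Fintype.sum_equiv ⟨fun γ => ⟨γ.1⁻¹, hinvmem γ⟩, fun γ => ⟨γ.1⁻¹, hinvmem γ⟩,
    fun γ => Subtype.ext (inv_inv γ.1), fun γ => Subtype.ext (inv_inv γ.1)⟩ _ _ fun γ => ?_
  · congr 2
    ext r
    simp only [invFix, invP, Finset.mem_filter, mem_inv, Finset.mem_univ, true_and, Equiv.coe_fn_mk]
    have hsym : T.S.actw (word γ).reverse r = (γ.1⁻¹) r := by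
      conv_lhs => rw [← Equiv.apply_symm_apply γ.1 r]
      rw [← congrFun (congrArg DFunLike.coe (hpw γ)), pw_apply, T.S.actw_reverse']
      rfl
    rw [hsym]
    tauto

/-- The diagonal part of the centraliser in the Borel subgroup. -/
theorem card_centralizer_inf {w₀ : List (Fin T.tab.l)} (hlong : T.longestB w₀ = true)
    (hspan : Mat.spanB D (T.posList.map Fin.val) = true) {h : ↥(D.group F)} (hh : h ∈ (rr T hU).H) :
    Nat.card ↥(Subgroup.centralizer ({h} : Set ↥(D.group F)) ⊓ (rr (F := F) T hU).B) =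
      Fintype.card F ^ (invFix T h w₀).card * Nat.card ↥(rr (F := F) T hU).H := by
  classical
  set R := rr (F := F) T hU
  set K := relsOfCommGood hU.toCommGood F
  set n := R.nw w₀
  have hUconj : ∀ u ∈ R.U, h * u * h⁻¹ ∈ R.U := fun u hu =>
    (Subgroup.mem_normalizer_iff.1 (R.H_le_normalizer_U hh) u).1 hu
  let f : R.U → cell R.B R.B n := fun u =>
    ⟨((u.1 * n : ↥(D.group F)) : ↥(D.group F) ⧸ R.B), mem_cell.2 ⟨u.1, R.U_le_B u.2, rfl⟩⟩
  have hsurj : Function.Surjective f := by
    rintro ⟨c, hc⟩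
    obtain ⟨b, hb, rfl⟩ := mem_cell.1 hc
    obtain ⟨u, hu, k, hk, rfl⟩ := R.mem_B_iff.1 hb
    refine ⟨⟨u, hu⟩, Subtype.ext (QuotientGroup.eq.2 ?_)⟩
    have := R.H_le_B (R.nw_inv_conj_mem_H w₀ hk)
    simpa [mul_assoc, n] using this
  have hT := fun r t (hr : T.S.pos r) => T.pres_posList K hspan r t hr
  have hdec : ∀ v i u, w₀ = v ++ i :: u → T.S.pos (T.S.actw u.reverse (T.S.simple i)) := by
    intro v i u he
    have hlong' := hlong
    simp only [Model.longestB, Bool.and_eq_true, List.all_eq_true, List.mem_range] at hlong'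
    have := hlong'.1 v.length (by rw [he]; simp)
    rw [he, List.drop_left] at this
    simpa using this
  have hinj : Function.Injective f :=
    ((Nat.bijective_iff_surjective_and_card f).2 ⟨hsurj, by
      rw [(T.shapeR K).card_U hT w₀ hdec (fun r hr => T.longest_neg hlong r hr),
        (T.shapeR K).card_cell_word hT w₀ hdec]⟩).1
  have key : Nat.card {u : R.U // u.1 * h = h * u.1} = Fintype.card F ^ (invFix T h w₀).card := by
    rw [← (fixCell_data T hU hspan w₀ (red_longest T hlong) hh).1]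
    have heq : ∀ u : R.U, h • (f u).1 = (f ⟨h * u.1 * h⁻¹, hUconj u.1 u.2⟩).1 := fun u => by
      refine QuotientGroup.eq.2 ?_
      show (h * (u.1 * n))⁻¹ * (h * u.1 * h⁻¹ * n) ∈ R.B
      rw [show (h * (u.1 * n))⁻¹ * (h * u.1 * h⁻¹ * n) = n⁻¹ * h⁻¹ * n by group]
      exact R.H_le_B (R.nw_inv_conj_mem_H w₀ (inv_mem hh))
    refine Nat.card_congr (Equiv.ofBijective (fun u => ⟨(f u.1).1, (f u.1).2, ?_⟩) ⟨?_, ?_⟩)
    · rw [heq]
      refine congrArg (fun u => (f u).1) (Subtype.ext ?_)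
      show h * u.1.1 * h⁻¹ = u.1.1
      rw [← u.2, mul_inv_cancel_right]
    · intro a b e
      have e1 := congrArg Subtype.val e
      exact Subtype.ext (hinj (Subtype.ext e1))
    · rintro ⟨c, hc, hfix⟩
      obtain ⟨u, hu⟩ := hsurj ⟨c, hc⟩
      have h1 : f ⟨h * u.1 * h⁻¹, hUconj u.1 u.2⟩ = f u := Subtype.ext (by
        rw [← heq, hu, hfix])
      have e1 := congrArg Subtype.val hu
      refine ⟨⟨u, ?_⟩, Subtype.ext e1⟩
      have h2 : h * u.1 * h⁻¹ = u.1 := congrArg Subtype.val (hinj h1)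
      rw [mul_inv_eq_iff_eq_mul] at h2
      exact h2.symm
  rw [← key, ← Nat.card_prod]
  refine (Nat.card_congr (Equiv.ofBijective (fun p : {u : R.U // u.1 * h = h * u.1} × R.H =>
    (⟨p.1.1.1 * p.2.1, ?_, mul_mem (R.U_le_B p.1.1.2) (R.H_le_B p.2.2)⟩ :
      ↥(Subgroup.centralizer ({h} : Set ↥(D.group F)) ⊓ R.B))) ⟨?_, ?_⟩)).symm
  · refine Subgroup.mem_centralizer_singleton_iff.2 ?_
    rw [mul_assoc, H_commute T hU p.2.2 hh, ← mul_assoc, p.1.2, mul_assoc]
  · rintro ⟨⟨u, hu⟩, k⟩ ⟨⟨u', hu'⟩, k'⟩ e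
    have e0 : u.1 * k.1 = u'.1 * k'.1 := congrArg Subtype.val e
    have e1 : u'.1⁻¹ * u.1 = k'.1 * k.1⁻¹ := by
      rw [eq_mul_inv_iff_mul_eq, mul_assoc, e0, inv_mul_cancel_left]
    have e2 := inv_mul_eq_one.1 ((T.shapeR K).U_inter_H (mul_mem (inv_mem u'.2) u.2)
      (e1 ▸ mul_mem k'.2 (inv_mem k.2)))
    have e3 : k.1 = k'.1 := mul_left_cancel (a := u.1) (by rw [e0, e2])
    exact Prod.ext (Subtype.ext (Subtype.ext e2.symm)) (Subtype.ext e3)
  · rintro ⟨g, hg, hgB⟩
    obtain ⟨u, hu, k, hk, rfl⟩ := R.mem_B_iff.1 hgB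
    refine ⟨⟨⟨⟨u, hu⟩, ?_⟩, ⟨k, hk⟩⟩, rfl⟩
    have h1 : u * k * h = h * (u * k) := Subgroup.mem_centralizer_singleton_iff.1 hg
    rw [mul_assoc, H_commute T hU hk hh, ← mul_assoc, ← mul_assoc] at h1
    exact mul_right_cancel h1

/-- The order of the centraliser of a diagonal element. -/
theorem card_centralizer (hwit : T.witB wit = true) {w₀ : List (Fin T.tab.l)}
    (hlong : T.longestB w₀ = true) (hspan : Mat.spanB D (T.posList.map Fin.val) = true)
    {h : ↥(D.group F)} (hh : h ∈ (rr T hU).H) :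
    Nat.card (Subgroup.centralizer ({h} : Set ↥(D.group F))) =
      Fintype.card F ^ (invFix T h w₀).card * Nat.card ↥(rr (F := F) T hU).H *
        ∑ γ ∈ stabF T h, Fintype.card F ^ (invP T h γ).card := by
  set C := Subgroup.centralizer ({h} : Set ↥(D.group F))
  set B := (rr (F := F) T hU).B
  rw [← Subgroup.card_mul_index (B.subgroupOf C), ← card_centralizer_inf T hU hlong hspan hh,
    ← card_cosets T hU hwit hlong hspan hh]
  congr 1
  · refine Nat.card_congr ⟨fun x => ⟨x.1.1, x.1.2, x.2⟩, fun x => ⟨⟨x.1, x.2.1⟩, x.2.2⟩,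
      fun _ => rfl, fun _ => rfl⟩
  · rw [Subgroup.index_eq_card]
    refine Nat.card_congr (Equiv.ofBijective (Quotient.lift (fun g : C =>
      (⟨(g.1 : ↥(D.group F) ⧸ B), g.1, g.2, rfl⟩ : {c // ∃ g ∈ C, (g : ↥(D.group F) ⧸ B) = c}))
      fun a b hab => Subtype.ext (QuotientGroup.eq.2 ?_)) ⟨?_, ?_⟩)
    · have := QuotientGroup.leftRel_apply.1 hab
      simpa [Subgroup.mem_subgroupOf] using this
    · rintro ⟨a⟩ ⟨b⟩ e
      exact QuotientGroup.eq.2 (by
        simpa [Subgroup.mem_subgroupOf] using QuotientGroup.eq.1 (congrArg Subtype.val e))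
    · rintro ⟨_, g, hg, rfl⟩
      exact ⟨QuotientGroup.mk ⟨g, hg⟩, rfl⟩

end Cfsg.Agent.CG26.ChevInv
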