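import Cfsg.Agent.ChevTori.Group
import Cfsg.Agent.Lib.Coprime.SchurZassenhaus
import Cfsg.Agent.ChevGroup.Mat.Order
import Mathlib.GroupTheory.Perm.Cycle.Type

/-!
An involution of a Chevalley group in odd characteristic normalises a conjugate of the diagonal subgroup.
-/

set_option autoImplicit false
set_option linter.unusedSectionVars false

namespace Cfsg.Agent.CG26.ChevInv

open Cfsg.Lie Cfsg.Agent.ChevGroup Cfsg.Agent.ChevCore Cfsg.Agent.ChevTori

universe u

/-- A diagonal involution of the sign lattice for every root. -/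
def oddB {D : ChevalleyDatum} (T : Model D) : Bool :=
  (List.finRange T.tab.n).all fun r => (List.finRange T.tab.l).any fun i =>
    decide (D.pairing (T.S.simple i).val r.val % 2 ≠ 0)

variable {D : ChevalleyDatum} (T : Model D) (hU : UGood D) {F : Type u} [Field F]

theorem val_hr (r : Fin T.tab.n) (c : F) :
    (((rr T hU).hr r c : ↥(D.group F)) : GL D.Idx F) = hg D F r.val c := by
  show ((hOf T.S.neg (rr T hU).x r c : ↥(D.group F)) : GL D.Idx F) = _
  simp [hOf, nOf, hg, ng, val_x, T.neg_eq]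

theorem chi_hr (r s : Fin T.tab.n) {c : F} (hc : c ≠ 0) :
    chi T ((rr T hU).hr r c) s = c ^ D.pairing r.val s.val := by
  have h1 := conj_x T hU ((rr T hU).hr_mem_H (r := r) hc) s 1
  have h2 : (rr T hU).hr r c * (rr T hU).x s 1 * ((rr T hU).hr r c)⁻¹ =
      (rr T hU).x s (c ^ D.pairing r.val s.val * 1) := by
    apply Subtype.ext
    rw [Subgroup.coe_mul, Subgroup.coe_mul, Subgroup.coe_inv, val_hr, val_x, val_x,
      hU.toCommGood.toGood.hg_conj_x (T.lt r) (T.lt s) hc]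
  rw [h1, mul_one, mul_one] at h2
  exact x_inj T hU s h2

variable [Fintype F]

theorem exists_chi_ne_one (h2 : (2 : F) ≠ 0) (hodd : oddB T = true) (r : Fin T.tab.n) :
    ∃ h ∈ (rr (F := F) T hU).H, chi T h r ≠ 1 := by
  simp only [oddB, List.all_eq_true, List.any_eq_true, decide_eq_true_eq] at hodd
  obtain ⟨i, -, hi⟩ := hodd r (List.mem_finRange r)
  have h1 : (-1 : F) ≠ 0 := neg_ne_zero.2 one_ne_zero
  refine ⟨_, (rr T hU).hr_mem_H (r := T.S.simple i) h1, ?_⟩
  rw [chi_hr T hU _ _ h1, Odd.neg_one_zpow (Int.odd_iff.2 (by omega))]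
  intro e
  exact h2 (by linear_combination -e)

/-- A unipotent element centralising the diagonal subgroup is trivial. -/
theorem eq_one_of_centralizes_H (h2 : (2 : F) ≠ 0) (hodd : oddB T = true) {u : ↥(D.group F)}
    (hu : u ∈ (rr T hU).U) (e : ∀ h ∈ (rr T hU).H, h * u = u * h) : u = 1 := by
  have huP : (u : GL D.Idx F) ∈ D.posUnipotent F :=
    T.U_map (relsOfCommGood hU.toCommGood F) ▸ ⟨u, hu, rfl⟩
  obtain ⟨τ, ⟨hτ0, hτ⟩, huniq⟩ := hU.exists_coords huP
  have h5 : ∀ r, τ r = 0 := by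
    intro r
    by_cases hr : r < D.nroots
    swap
    · exact hτ0 r fun h => hr h.1
    obtain ⟨h, hh, hne⟩ := exists_chi_ne_one T hU h2 hodd ⟨r, T.n_eq.symm ▸ hr⟩
    obtain ⟨c, hc⟩ := exists_tau T hU hh
    let τ' : ℕ → F := fun r =>
      if hr : r < D.nroots then (tauW D F c (Sum.inr ⟨r, hr⟩) : F) * τ r else τ r
    have h3 : MulAut.conj (tau D F c) (prodL D F D.posRoots τ) = prodL D F D.posRoots τ' := by
      rw [prodL, map_list_prod, List.map_map, prodL]
      congr 1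
      refine List.map_congr_left fun r hr => ?_
      have hlt : r < D.nroots := (hU.toCommGood.toGood.mem_posRoots.1 hr).1
      simp only [Function.comp_apply, MulAut.conj_apply, τ', dif_pos hlt]
      exact hU.toCommGood.toGood.tau_conj_x c hlt _
    have h4 := huniq τ' ⟨fun r hr => by
      simp only [τ', hτ0 r hr, mul_zero]
      split <;> rfl, by
      rw [← h3, hτ, MulAut.conj_apply, ← hc, ← Subgroup.coe_mul, e h hh, Subgroup.coe_mul,
        mul_inv_cancel_right]⟩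
    have h6 := congrFun h4 r
    simp only [τ', dif_pos hr] at h6
    by_contra hz
    exact hne ((chi_tau T hc _).trans ((mul_eq_right₀ hz).1 h6))
  refine Subtype.ext ?_
  rw [← hτ, prodL, List.prod_eq_one]
  · rfl
  · intro x hx
    obtain ⟨r, -, rfl⟩ := List.mem_map.1 hx
    rw [h5, hU.toCommGood.toGood.xg_zero]

theorem coprime_U_H (hlong : ∃ w₀, T.longestB w₀ = true)
    (hspan : Mat.spanB D (T.posList.map Fin.val) = true) :
    (Nat.card ↥(rr (F := F) T hU).H).Coprime (Nat.card ↥(rr (F := F) T hU).U) := by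
  classical
  obtain ⟨w₀, hw₀⟩ := hlong
  have hUc : Nat.card ↥(rr (F := F) T hU).U = Fintype.card F ^ w₀.length := by
    rw [← T.card_U_eq (relsOfCommGood hU.toCommGood F),
      T.card_posUnipotent (relsOfCommGood hU.toCommGood F) hw₀ hspan, Nat.card_eq_fintype_card]
  have hHc : Nat.card ↥(rr (F := F) T hU).H ∣ (Fintype.card F - 1) ^ T.tab.l := by
    refine (Subgroup.card_dvd_of_injective (psi T hU) (psi_injective T hU)).trans ?_
    rw [Nat.card_fun, Nat.card_units, Nat.card_eq_fintype_card, Nat.card_eq_fintype_card, Fintype.card_fin]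
  rw [hUc]
  refine Nat.Coprime.pow_right _ (Nat.Coprime.coprime_dvd_left hHc (Nat.Coprime.pow_left _ ?_))
  have h1 : 1 ≤ Fintype.card F := Fintype.card_pos
  exact (Nat.coprime_self_sub_left h1).2 (Nat.coprime_one_left _)

theorem odd_card_U (h2 : (2 : F) ≠ 0) (hlong : ∃ w₀, T.longestB w₀ = true)
    (hspan : Mat.spanB D (T.posList.map Fin.val) = true) :
    Odd (Nat.card ↥(rr (F := F) T hU).U) := by
  obtain ⟨w₀, hw₀⟩ := hlong
  rw [← T.card_U_eq (relsOfCommGood hU.toCommGood F),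
    T.card_posUnipotent (relsOfCommGood hU.toCommGood F) hw₀ hspan, Nat.card_eq_fintype_card]
  refine Odd.pow ?_
  rw [Nat.odd_iff]
  refine FiniteField.odd_card_of_char_ne_two fun h => h2 ?_
  have := ringChar.Nat.cast_ringChar (R := F)
  rw [h] at this
  exact_mod_cast this

variable {wit : List (List (Fin T.tab.l) × Fin T.tab.l)}

/-- Every involution is conjugate to an element of the monomial subgroup. -/
theorem exists_conj_mem_engN (h2 : (2 : F) ≠ 0) (hodd : oddB T = true) (hwit : T.witB wit = true)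
    (hlong : ∃ w₀, T.longestB w₀ = true) (hspan : Mat.spanB D (T.posList.map Fin.val) = true)
    {t : ↥(D.group F)} (ht : t * t = 1) :
    ∃ g, g * t * g⁻¹ ∈ engN (rr (F := F) T hU) := by
  classical
  set R := rr (F := F) T hU
  obtain ⟨b₁, hb₁, w, -, b₂, hb₂, rfl⟩ := R.exists_bruhat (g := t)
    ((T.group_top (relsOfCommGood hU.toCommGood F) hwit).symm ▸ Subgroup.mem_top t)
  set n := R.nw w
  set b := b₂ * b₁
  have hb : b ∈ R.B := mul_mem hb₂ hb₁
  set t' := n * b
  have ht' : t' * t' = 1 := by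
    have h : b₁⁻¹ * (b₁ * n * b₂ * (b₁ * n * b₂)) * b₁ = 1 := by rw [ht]; group
    rw [← h]; simp only [t', b]; group
  have hinv : t'⁻¹ = t' := inv_eq_of_mul_eq_one_right ht'
  set E : Subgroup ↥(D.group F) := R.B ⊓ R.B.map (MulAut.conj n).toMonoidHom with hE
  have hEmem : ∀ x, x ∈ E ↔ x ∈ R.B ∧ n⁻¹ * x * n ∈ R.B := fun x => by
    rw [hE, Subgroup.mem_inf, Subgroup.map_equiv_eq_comap_symm', Subgroup.mem_comap]
    simp [MulAut.conj_symm_apply]
  have hEt : ∀ x ∈ E, t' * x * t' ∈ E := by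
    intro x hx
    obtain ⟨hx1, hx2⟩ := (hEmem x).1 hx
    refine (hEmem _).2 ⟨?_, ?_⟩
    · have : t' * x * t' = b⁻¹ * (n⁻¹ * x * n) * b := by
        nth_rewrite 1 [← hinv]
        simp only [t']; group
      rw [this]
      exact mul_mem (mul_mem (inv_mem hb) hx2) hb
    · have : n⁻¹ * (t' * x * t') * n = b * x * b⁻¹ := by
        nth_rewrite 2 [← hinv]
        simp only [t']; group
      rw [this]
      exact mul_mem (mul_mem hb hx1) (inv_mem hb)
  have hHE : R.H ≤ E := fun h hh =>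
    (hEmem h).2 ⟨R.H_le_B hh, R.H_le_B (R.nw_inv_conj_mem_H w hh)⟩
  set Ru : Subgroup ↥(D.group F) := R.U ⊓ E
  have hnormU : R.B ≤ Subgroup.normalizer (R.U : Set ↥(D.group F)) :=
    sup_le Subgroup.le_normalizer R.H_le_normalizer_U
  have hnorm : E ≤ Subgroup.normalizer (Ru : Set ↥(D.group F)) := fun e he =>
    Subgroup.mem_normalizer_iff.2 fun x => by
      have h1 := Subgroup.mem_normalizer_iff.1 (hnormU ((hEmem e).1 he).1) x
      have h2 : x ∈ E ↔ e * x * e⁻¹ ∈ E := ⟨fun hx => mul_mem (mul_mem he hx) (inv_mem he),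
        fun hx => by
          have := mul_mem (mul_mem (inv_mem he) hx) he
          rwa [show e⁻¹ * (e * x * e⁻¹) * e = x by group] at this⟩
      simp only [Ru, Subgroup.mem_inf, SetLike.mem_coe]
      exact and_congr h1 h2
  have hdec : ∀ x ∈ E, ∃ u ∈ Ru, ∃ h ∈ R.H, x = u * h := by
    intro x hx
    obtain ⟨u, hu, h, hh, rfl⟩ := R.mem_B_iff.1 ((hEmem x).1 hx).1
    exact ⟨u, ⟨hu, by simpa using mul_mem hx (inv_mem (hHE hh))⟩, h, hh, rfl⟩
  set H' : Subgroup ↥(D.group F) := R.H.map (MulAut.conj t').toMonoidHom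
  have hH'E : H' ≤ E := by
    rintro _ ⟨h, hh, rfl⟩
    show t' * h * t'⁻¹ ∈ E
    rw [hinv]; exact hEt h (hHE hh)
  have hle : H' ≤ Ru ⊔ R.H := fun x hx => by
    obtain ⟨u, hu, h, hh, rfl⟩ := hdec x (hH'E hx)
    exact Subgroup.mul_mem_sup hu hh
  have hcop : (Nat.card ↥R.H).Coprime (Nat.card ↥Ru) :=
    Nat.Coprime.coprime_dvd_right (Subgroup.card_dvd_of_le inf_le_left) (coprime_U_H T hU hlong hspan)
  have hcard : Nat.card ↥H' = Nat.card ↥R.H :=
    Subgroup.card_map_of_injective (MulAut.conj t').injective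
  haveI : IsMulCommutative ↥R.H := ⟨⟨fun a b => Subtype.ext (H_commute T hU a.2 b.2)⟩⟩
  have hsolv : Group.IsSolvable ↥H' := by
    haveI : IsMulCommutative ↥H' := ⟨⟨fun a b => Subtype.ext (by
      obtain ⟨x, hx, ha⟩ := a.2
      obtain ⟨y, hy, hb⟩ := b.2
      show a.1 * b.1 = b.1 * a.1
      rw [← ha, ← hb, ← map_mul, ← map_mul, H_commute T hU hx hy])⟩⟩
    exact Group.isSolvable_of_comm fun a b => mul_comm' a b
  obtain ⟨m, hm, hmH⟩ := Coprime.exists_conj_le Ru H' R.H (hH'E.trans hnorm) (hHE.trans hnorm) hle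
    (hcard.symm ▸ hcop) hcop (Or.inl hsolv)
  -- `s` normalises `H`
  set s := m * t'
  set N := Subgroup.normalizer (R.H : Set ↥(D.group F))
  have hsN : s ∈ N := by
    have hsub : R.H.map (MulAut.conj s).toMonoidHom ≤ R.H := by
      rintro _ ⟨h, hh, rfl⟩
      have := hmH _ ⟨h, hh, rfl⟩
      rw [MulEquiv.coe_toMonoidHom, MulAut.conj_apply] at this ⊢
      rw [show s * h * s⁻¹ = m * (t' * h * t'⁻¹) * m⁻¹ by simp only [s]; group]
      exact this
    have heq := Subgroup.eq_of_le_of_card_ge hsub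
      (Subgroup.card_map_of_injective (MulAut.conj s).injective).ge
    refine Subgroup.mem_normalizer_iff.2 fun x => ?_
    constructor
    · intro hx; exact hsub ⟨x, hx, rfl⟩
    · intro hx
      rw [← SetLike.mem_coe, SetLike.mem_coe, ← heq] at hx
      obtain ⟨y, hy, e⟩ := hx
      rwa [← (MulAut.conj s).injective e]
  have hme : m ∈ E := hm.2
  set M := N.subgroupOf E
  have hf : ∀ x : ↥E, t' * x * s⁻¹ ∈ E := fun x => by
    rw [show t' * x * s⁻¹ = t' * x * t'⁻¹ * m⁻¹ by simp only [s]; group, hinv]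
    exact mul_mem (hEt x x.2) (inv_mem hme)
  let f : ↥E ⧸ M → ↥E ⧸ M := Quotient.map' (fun x => ⟨_, hf x⟩) fun x y hxy => by
    rw [QuotientGroup.leftRel_apply] at hxy ⊢
    simp only [M, Subgroup.mem_subgroupOf, Subgroup.coe_mul, Subgroup.coe_inv] at hxy ⊢
    rw [show (t' * x * s⁻¹)⁻¹ * (t' * y * s⁻¹) = s * ((x : ↥(D.group F))⁻¹ * y) * s⁻¹ by group]
    exact mul_mem (mul_mem hsN hxy) (inv_mem hsN)
  have hff : Function.Involutive f := fun c => by
    obtain ⟨x, rfl⟩ := QuotientGroup.mk_surjective c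
    refine QuotientGroup.eq.2 ?_
    simp only [M, Subgroup.mem_subgroupOf, Subgroup.coe_mul, Subgroup.coe_inv]
    rw [show (t' * (t' * x * s⁻¹) * s⁻¹)⁻¹ * x = (t' * t' * x * (s * s)⁻¹)⁻¹ * (x : ↥(D.group F)) by group,
      ht', show (1 * (x : ↥(D.group F)) * (s * s)⁻¹)⁻¹ * x = s * s by
        rw [one_mul, mul_inv_rev, inv_inv, inv_mul_cancel_right]]
    exact mul_mem hsN hsN
  haveI : Fintype (↥E ⧸ M) := Fintype.ofFinite _
  have hoddX : ¬ 2 ∣ Fintype.card (↥E ⧸ M) := by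
    have h1 : Fintype.card (↥E ⧸ M) ∣ Nat.card ↥(rr (F := F) T hU).U := by
      rw [← Nat.card_eq_fintype_card, ← Subgroup.index_eq_card]
      have hsup : Ru.subgroupOf E ⊔ M = ⊤ := eq_top_iff.2 fun x _ => by
        obtain ⟨u, hu, h, hh, e⟩ := hdec x x.2
        rw [show x = ⟨u, hu.2⟩ * ⟨h, hHE hh⟩ from Subtype.ext e]
        exact Subgroup.mul_mem_sup (show (⟨u, hu.2⟩ : ↥E) ∈ Ru.subgroupOf E from hu)
          (show (⟨h, hHE hh⟩ : ↥E) ∈ M from Subgroup.le_normalizer hh)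
      have hH1 : R.H.subgroupOf E ≤ M := fun x hx => Subgroup.le_normalizer hx
      refine (Subgroup.index_dvd_of_le hH1).trans (Dvd.dvd.trans (dvd_of_eq ?_)
        (Subgroup.card_dvd_of_le (inf_le_left : Ru ≤ R.U)))
      show R.H.relIndex E = _
      refine (Nat.card_eq_of_bijective (fun u : ↥Ru =>
        (QuotientGroup.mk (⟨u, u.2.2⟩ : ↥E) : ↥E ⧸ R.H.subgroupOf E)) ⟨?_, ?_⟩).symm
      · intro a c hac
        have h3' : (⟨a, a.2.2⟩ : ↥E)⁻¹ * ⟨c, c.2.2⟩ ∈ R.H.subgroupOf E := QuotientGroup.eq.1 hac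
        have h3 : (a : ↥(D.group F))⁻¹ * c ∈ R.H := h3'
        exact Subtype.ext (inv_mul_eq_one.1 ((T.shapeR (relsOfCommGood hU.toCommGood F)).U_inter_H
          (mul_mem (inv_mem a.2.1) c.2.1) h3))
      · rintro ⟨⟨x, hx⟩⟩
        obtain ⟨u, hu, h, hh, rfl⟩ := hdec x hx
        refine ⟨⟨u, hu⟩, QuotientGroup.eq.2 ?_⟩
        simpa [Subgroup.mem_subgroupOf] using hh
    exact fun h => (odd_card_U T hU h2 hlong hspan).not_two_dvd_nat (h.trans h1)
  haveI : Fact (Nat.Prime 2) := ⟨Nat.prime_two⟩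
  obtain ⟨c, hc⟩ := Equiv.Perm.exists_fixed_point_of_prime (p := 2) (n := 1) hoddX
    (σ := hff.toPerm f) (Equiv.ext fun c => by
      rw [pow_one, pow_two]; exact hff c)
  obtain ⟨⟨e, heE⟩, rfl⟩ := QuotientGroup.mk_surjective c
  have hN2 : e⁻¹ * t' * e ∈ N := by
    have h3 : (⟨_, hf ⟨e, heE⟩⟩ : ↥E)⁻¹ * ⟨e, heE⟩ ∈ M := QuotientGroup.eq.1 hc
    simp only [M, Subgroup.mem_subgroupOf, Subgroup.coe_mul, Subgroup.coe_inv] at h3
    rw [show (t' * e * s⁻¹)⁻¹ * e = s * (e⁻¹ * t'⁻¹ * e) by group, hinv] at h3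
    simpa using mul_mem (inv_mem hsN) h3
  refine ⟨e⁻¹ * b₁⁻¹, ?_⟩
  have hgoal : e⁻¹ * b₁⁻¹ * (b₁ * n * b₂) * (e⁻¹ * b₁⁻¹)⁻¹ = n * (n⁻¹ * e⁻¹ * n * b * e) := by
    simp only [b]; group
  rw [hgoal]
  refine mul_mem (nw_mem_engN R w) ?_
  set v := n⁻¹ * e⁻¹ * n * b * e
  have hvB : v ∈ R.B := by
    refine mul_mem (mul_mem ?_ hb) ((hEmem e).1 heE).1
    exact ((hEmem _).1 (inv_mem heE)).2
  have hvN : v ∈ N := by
    have hnN : n ∈ N := Subgroup.mem_normalizer_iff.2 fun x => ⟨nw_conj_mem_H R w, fun hx => by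
      have := R.nw_inv_conj_mem_H w hx
      rwa [show n⁻¹ * (n * x * n⁻¹) * n = x by group] at this⟩
    have : v = n⁻¹ * (e⁻¹ * t' * e) := by simp only [v, t']; group
    rw [this]; exact mul_mem (inv_mem hnN) hN2
  obtain ⟨u, hu, k, hk, huk⟩ := R.mem_B_iff.1 hvB
  have hu1 : u = 1 := by
    refine eq_one_of_centralizes_H T hU h2 hodd hu fun h hh => ?_
    have huN : u ∈ N := by
      rw [show u = v * k⁻¹ by rw [← huk]; group]
      exact mul_mem hvN (inv_mem (Subgroup.le_normalizer hk))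
    have hH1 : u * h * u⁻¹ * h⁻¹ ∈ R.H :=
      mul_mem ((Subgroup.mem_normalizer_iff.1 huN h).1 hh) (inv_mem hh)
    have hU1 : u * h * u⁻¹ * h⁻¹ ∈ R.U := by
      rw [show u * h * u⁻¹ * h⁻¹ = u * (h * u⁻¹ * h⁻¹) by group]
      exact mul_mem hu ((Subgroup.mem_normalizer_iff.1 (R.H_le_normalizer_U hh) _).1 (inv_mem hu))
    have := (T.shapeR (relsOfCommGood hU.toCommGood F)).U_inter_H hU1 hH1
    rw [mul_inv_eq_one, mul_inv_eq_iff_eq_mul] at this
    exact this.symm
  rw [← huk, hu1, one_mul]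
  exact H_le_engN R hk

end Cfsg.Agent.CG26.ChevInv
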