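import Cfsg.Agent.CG26.ChevInv.Weyl

/-!
The Poincare sum of the stabiliser of a sign vector along a chain of parabolic subgroups, and the order of
the centraliser of an involution of the diagonal subgroup.
-/

set_option autoImplicit false
set_option linter.unusedSectionVars false

namespace Cfsg.Agent.CG26.ChevInv

open Cfsg.Lie Cfsg.Agent.ChevGroup Cfsg.Agent.ChevCore Cfsg.Agent.ChevTori

universe u

variable {D : ChevalleyDatum} {T : Model D} (ε : List Bool) (W : SubData T)

open scoped Classical in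
/-- The Poincare sum of the subgroup of some letters. -/
noncomputable def sumG (q : ℕ) (J : List ℕ) : ℕ :=
  ∑ γ ∈ Finset.univ.filter (· ∈ W.G J), q ^ (invQ T ε γ).card

variable {ε W}

theorem perm_append (c d : List ℕ) : W.perm (c ++ d) = W.perm c * W.perm d := by
  simp [SubData.perm]

theorem perm_singleton (j : ℕ) : W.perm [j] = W.s j := by simp [SubData.perm]

theorem sumG_nil (q : ℕ) : sumG ε W q [] = 1 := by
  classical
  have e : W.G [] = ⊥ := Subgroup.closure_eq_bot_iff.2 fun g ⟨j, hj, _⟩ => by simp at hj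
  have h : (Finset.univ.filter (· ∈ W.G [])) = {1} := by ext g; simp [e, Subgroup.mem_bot]
  rw [sumG, h, Finset.sum_singleton, show invQ T ε 1 = ∅ by
    ext r
    simp only [mem_invQ, Finset.notMem_empty, iff_false, not_and, not_not, Equiv.Perm.one_apply]
    exact fun hr => (inS_iff.1 hr).1]
  simp

variable (hU : UGood D) (hok : W.okB ε = true)
  {wit : List (List (Fin T.tab.l) × Fin T.tab.l)} (hwit : T.witB wit = true) (hinj : injB T = true)

include hU hok

theorem perm_apply {c : List ℕ} (hc : ∀ i ∈ c, i < W.k) (r : Fin T.tab.n) : W.perm c r = W.actL c r := by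
  induction c with
  | nil => rfl
  | cons i c ih =>
    show W.s i (W.perm c r) = _
    rw [ih fun j hj => hc j (List.mem_cons_of_mem _ hj), (refl_facts hU hok (hc i List.mem_cons_self)).2.1]
    rfl

theorem G_le {J : List ℕ} (hJ : ∀ j ∈ J, j < W.k) : W.G J ≤ stabS T ε :=
  (Subgroup.closure_le _).2 fun g ⟨j, hj, e⟩ => e ▸ (refl_facts hU hok (hJ j hj)).2.2.2.1

theorem perm_mem_G {K c : List ℕ} (hc : ∀ i ∈ c, i ∈ K) : W.perm c ∈ W.G K :=
  list_prod_mem fun x hx => by
    obtain ⟨i, hi, rfl⟩ := List.mem_map.1 hx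
    exact Subgroup.subset_closure ⟨i, hc i hi, rfl⟩

omit hok in
theorem card_invQ_split (S : Finset (Fin T.tab.n)) (γ : Equiv.Perm (Fin T.tab.n)) :
    (invQ T ε γ).card = ((invQ T ε γ).filter (· ∈ S)).card + ((invQ T ε γ).filter (· ∉ S)).card :=
  (Finset.card_filter_add_card_filter_not _).symm

/-- What one step of the chain checks. -/
theorem step_facts {J K : List ℕ} {RJ : List (Fin T.tab.n)} {reps : List (List ℕ)}
    {edges : List (List (ℕ × Option ℕ))} (h : W.stepB ε J K RJ reps edges = true) :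
    (∀ j ∈ J, j ∈ K) ∧ (∀ i ∈ K, i < W.k) ∧ (∀ r ∈ RJ, inS T ε r = true) ∧
      (∀ j ∈ J, W.β j ∈ RJ ∧ (∀ r ∈ RJ, r ≠ W.β j → W.s j r ∈ RJ) ∧
        ∀ r, inS T ε r = true → r ∉ RJ → inS T ε (W.s j r) = true ∧ W.s j r ∉ RJ) ∧
      [] ∈ reps ∧
      (∀ c ∈ reps, (∀ i ∈ c, i ∈ K) ∧ (∀ r ∈ RJ, T.S.pos (W.perm c r)) ∧
        (invQ T ε (W.perm c)).card = c.length) ∧
      (∀ a b : Fin reps.length, W.perm reps[a] = W.perm reps[b] → a = b) ∧
      ∀ i ∈ K, ∀ c ∈ reps, ∃ d ∈ reps, (∀ m, W.perm (i :: c) (T.S.simple m) = W.perm d (T.S.simple m)) ∨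
        ∃ j ∈ J, ∀ m, W.perm (i :: c) (T.S.simple m) = W.perm (d ++ [j]) (T.S.simple m) := by
  classical
  simp only [SubData.stepB, Bool.and_eq_true, List.all_eq_true, decide_eq_true_eq, Bool.or_eq_true,
    Bool.not_eq_true', decide_eq_false_iff_not, List.mem_finRange, forall_const, List.mem_range] at h
  obtain ⟨⟨⟨⟨⟨⟨hJ, hK⟩, hRJ⟩, hhead⟩, hreps⟩, hnd⟩, hedge⟩ := h
  have hJK : ∀ j ∈ J, j ∈ K := fun j hj => (hJ j hj).1.1.1
  have hrep_lt : ∀ c ∈ reps, ∀ i ∈ c, i < W.k := fun c hc i hi => hK i ((hreps c hc).1.1 i hi)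
  refine ⟨hJK, hK, hRJ, fun j hj => ?_, List.mem_of_head? hhead, fun c hc => ?_, fun a b e => ?_, ?_⟩
  · obtain ⟨⟨⟨-, hb⟩, hin⟩, hout⟩ := hJ j hj
    have hact := (refl_facts hU hok (hK j (hJK j hj))).2.1
    refine ⟨hb, fun r hr hne => ?_, fun r hr hn => ?_⟩
    · rw [hact]; exact (hin r hr).resolve_left hne
    · rw [hact]
      exact (hout r).resolve_left (by rw [not_or]; exact ⟨by simp [hr], hn⟩)
  · obtain ⟨⟨h1, h2⟩, h3⟩ := hreps c hc
    have hp := perm_apply hU hok (hrep_lt c hc)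
    refine ⟨h1, fun r hr => by rw [hp]; exact h2 r hr, ?_⟩
    rw [← h3, List.countP_eq_length_filter, ← List.toFinset_card_of_nodup ((List.nodup_finRange _).filter _)]
    congr 1
    ext r
    simp [invQ, hp]
  · refine Fin.ext ((List.Nodup.getElem_inj_iff hnd (hi := by simp) (hj := by simp)).1 ?_)
    rw [List.getElem_map, List.getElem_map]
    refine List.map_congr_left fun j _ => ?_
    rw [← perm_apply hU hok (hrep_lt _ (List.getElem_mem _)), ← perm_apply hU hok (hrep_lt _ (List.getElem_mem _))]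
    exact congrArg (fun x : Equiv.Perm (Fin T.tab.n) => (x (T.S.simple j)).val) e
  · intro i hi c hc
    obtain ⟨a, ha, rfl⟩ := List.getElem_of_mem hi
    obtain ⟨b, hb, rfl⟩ := List.getElem_of_mem hc
    have he := hedge a ha b hb
    rw [List.getD_eq_getElem (d := 0) _ ha, List.getD_eq_getElem (d := []) _ hb] at he
    have hlt : ∀ x ∈ K[a] :: reps[b], x < W.k := fun x hx => by
      rcases List.mem_cons.1 hx with rfl | hx
      · exact hK _ (List.getElem_mem _)
      · exact hrep_lt _ (List.getElem_mem _) x hx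
    generalize (edges.getD a []).getD b (0, none) = p at he
    obtain ⟨d, o⟩ := p
    cases o with
    | none =>
      simp only [Bool.and_eq_true, List.all_eq_true, decide_eq_true_eq, List.mem_finRange, forall_const] at he
      refine ⟨reps[d]'he.1, List.getElem_mem _, Or.inl fun m => ?_⟩
      rw [perm_apply hU hok hlt, perm_apply hU hok (hrep_lt _ (List.getElem_mem _)), he.2 m]
      exact congrArg (fun c => W.actL c _) (List.getD_eq_getElem _ _ he.1)
    | some j =>
      simp only [Bool.and_eq_true, List.all_eq_true, decide_eq_true_eq, List.mem_finRange, forall_const] at he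
      obtain ⟨⟨hd, hj⟩, he⟩ := he
      refine ⟨reps[d]'hd, List.getElem_mem _, Or.inr ⟨j, hj, fun m => ?_⟩⟩
      rw [perm_apply hU hok hlt, perm_apply hU hok fun x hx => ?_, he m, List.getD_eq_getElem _ _ hd]
      rcases List.mem_append.1 hx with hx | hx
      · exact hrep_lt _ (List.getElem_mem _) x hx
      · rw [List.mem_singleton] at hx; exact hx ▸ hK j (hJK j hj)

include hwit hinj

/-- One step of the chain. -/
theorem sumG_step (F : Type u) [Field F] (q : ℕ) {J K : List ℕ} {RJ : List (Fin T.tab.n)} {reps : List (List ℕ)}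
    {edges : List (List (ℕ × Option ℕ))} (h : W.stepB ε J K RJ reps edges = true) :
    sumG ε W q K = (reps.map fun c => q ^ c.length).sum * sumG ε W q J := by
  classical
  obtain ⟨hJK, hK, hRJ, hsj, hnil, hreps, hdist, hedge⟩ := step_facts hU hok h
  have hJlt : ∀ j ∈ J, j < W.k := fun j hj => hK j (hJK j hj)
  have hrlt : ∀ c ∈ reps, ∀ i ∈ c, i < W.k := fun c hc i hi => hK i ((hreps c hc).1 i hi)
  set R := RJ.toFinset
  -- elements of the smaller group
  have hA : ∀ x ∈ W.G J, ∀ r, inS T ε r = true → r ∉ RJ → inS T ε (x r) = true ∧ x r ∉ RJ := by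
    intro x hx
    induction hx using Subgroup.closure_induction'' with
    | mem x hx => obtain ⟨j, hj, rfl⟩ := hx; exact (hsj j hj).2.2
    | inv_mem x hx =>
      obtain ⟨j, hj, rfl⟩ := hx
      rw [(refl_facts hU hok (hJlt j hj)).2.2.2.2.1]
      exact (hsj j hj).2.2
    | one => exact fun r hr hn => ⟨hr, hn⟩
    | mul a b _ _ ha hb => exact fun r hr hn => ha _ (hb r hr hn).1 (hb r hr hn).2
  have hout : ∀ x ∈ W.G J, ∀ r, inS T ε r = true → r ∉ RJ → r ∉ invQ T ε x := fun x hx r hr hn hm =>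
    (mem_invQ.1 hm).2 (inS_iff.1 (hA x hx r hr hn).1).1
  have hin : ∀ x ∈ W.G J, ∀ r ∈ RJ, x r ∈ RJ ∨ T.S.neg (x r) ∈ RJ := by
    intro x hx r hr
    have hxs := mem_stabS.1 (G_le hU hok hJlt hx)
    have hP : sgnB T ε (x r) = false := (hxs.2 r).trans (inS_iff.1 (hRJ r hr)).2
    rcases T.S.pos_or_neg (x r) with hp | hp
    · refine Or.inl (by_contra fun hn => ?_)
      have h1 := hA x⁻¹ (inv_mem hx) (x r) (inS_iff.2 ⟨hp, hP⟩) hn
      rw [Equiv.Perm.inv_def, Equiv.symm_apply_apply] at h1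
      exact h1.2 hr
    · refine Or.inr (by_contra fun hn => ?_)
      have h1 := hA x⁻¹ (inv_mem hx) (T.S.neg (x r))
        (inS_iff.2 ⟨hp, (sgnB_neg ε hU _).trans hP⟩) hn
      rw [weyl_neg hU (mem_stabS.1 (G_le hU hok hJlt (inv_mem hx))).1, Equiv.Perm.inv_def,
        Equiv.symm_apply_apply] at h1
      exact T.S.not_pos_neg _ (inS_iff.1 (hRJ r hr)).1 (inS_iff.1 h1.1).1
  have hadd : ∀ (w : Equiv.Perm (Fin T.tab.n)), w ∈ stabS T ε → (∀ r ∈ RJ, T.S.pos (w r)) → ∀ x ∈ W.G J,
      (invQ T ε (w * x)).card = (invQ T ε w).card + (invQ T ε x).card := by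
    intro w hw hwpos x hx
    rw [card_invQ_split hU R (w * x), add_comm]
    congr 1
    · refine Finset.card_bij (fun r _ => x r) (fun r hr => ?_) (fun a _ b _ e => x.injective e) fun s hs => ?_
      · simp only [Finset.mem_filter, mem_invQ, R, List.mem_toFinset, Equiv.Perm.mul_apply] at hr
        exact mem_invQ.2 ⟨(hA x hx r hr.1.1 hr.2).1, hr.1.2⟩
      · obtain ⟨hs1, hs2⟩ := mem_invQ.1 hs
        have hsn : s ∉ RJ := fun hmem => hs2 (hwpos s hmem)
        obtain ⟨h1, h2⟩ := hA x⁻¹ (inv_mem hx) s hs1 hsn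
        refine ⟨x⁻¹ s, ?_, Equiv.apply_symm_apply x s⟩
        simp only [Finset.mem_filter, mem_invQ, R, List.mem_toFinset, Equiv.Perm.mul_apply]
        exact ⟨⟨h1, by rwa [Equiv.Perm.inv_def, Equiv.apply_symm_apply]⟩, h2⟩
    · congr 1
      ext r
      simp only [Finset.mem_filter, mem_invQ, R, List.mem_toFinset, Equiv.Perm.mul_apply]
      constructor
      · rintro ⟨⟨hr, hn⟩, hm⟩
        refine ⟨hr, fun hp => hn ?_⟩
        rcases hin x hx r hm with h1 | h1
        · exact hwpos _ h1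
        · exact absurd (inS_iff.1 (hRJ _ h1)).1 (T.S.not_pos_neg _ hp)
      · rintro ⟨hr, hn⟩
        have hm : r ∈ RJ := by_contra fun hm => hout x hx r hr hm (mem_invQ.2 ⟨hr, hn⟩)
        refine ⟨⟨hr, fun hp => ?_⟩, hm⟩
        rcases hin x hx r hm with h1 | h1
        · exact hn (inS_iff.1 (hRJ _ h1)).1
        · have := hwpos _ h1
          rw [weyl_neg hU (mem_stabS.1 hw).1] at this
          exact T.S.not_pos_neg _ hp this
  have hrepS : ∀ c ∈ reps, W.perm c ∈ stabS T ε := fun c hc => G_le hU hok hK (perm_mem_G hU hok (hreps c hc).1)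
  have hcover : ∀ g ∈ W.G K, ∃ c ∈ reps, ∃ x ∈ W.G J, g = W.perm c * x := by
    have hone : ∀ i ∈ K, ∀ g, (∃ c ∈ reps, ∃ x ∈ W.G J, g = W.perm c * x) →
        ∃ c ∈ reps, ∃ x ∈ W.G J, W.s i * g = W.perm c * x := by
      rintro i hi g ⟨c, hc, x, hx, rfl⟩
      obtain ⟨d, hd, hcase⟩ := hedge i hi c hc
      have hm1 : W.perm (i :: c) ∈ stabS T ε := G_le hU hok hK (perm_mem_G hU hok fun k hk => by
        rcases List.mem_cons.1 hk with rfl | hk
        · exact hi
        · exact (hreps c hc).1 k hk)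
      rw [← mul_assoc, show W.s i * W.perm c = W.perm (i :: c) from rfl]
      rcases hcase with he | ⟨j, hj, he⟩
      · exact ⟨d, hd, x, hx, by rw [eq_of_simple hU F (mem_stabS.1 hm1).1 (mem_stabS.1 (hrepS d hd)).1 he]⟩
      · refine ⟨d, hd, W.s j * x, mul_mem (Subgroup.subset_closure ⟨j, hj, rfl⟩) hx, ?_⟩
        rw [eq_of_simple hU F (mem_stabS.1 hm1).1 (mem_stabS.1 (G_le hU hok hK (perm_mem_G hU hok ?_))).1 he,
          perm_append, perm_singleton, mul_assoc]
        intro k hk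
        rcases List.mem_append.1 hk with hk | hk
        · exact (hreps d hd).1 k hk
        · rw [List.mem_singleton] at hk; exact hk ▸ hJK j hj
    intro g hg
    induction hg using Subgroup.closure_induction_left with
    | one => exact ⟨[], hnil, 1, one_mem _, by simp [SubData.perm]⟩
    | mul_left x hx y _ ih => obtain ⟨i, hi, rfl⟩ := hx; exact hone i hi y ih
    | inv_mul_cancel x hx y _ ih =>
      obtain ⟨i, hi, rfl⟩ := hx
      rw [(refl_facts hU hok (hK i hi)).2.2.2.2.1]
      exact hone i hi y ih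
  have hmem : ∀ c ∈ reps, ∀ x ∈ W.G J, W.perm c * x ∈ W.G K := fun c hc x hx =>
    mul_mem (perm_mem_G hU hok (hreps c hc).1)
      (Subgroup.closure_mono (show {g | ∃ j ∈ J, g = W.s j} ⊆ {g | ∃ j ∈ K, g = W.s j} from
        fun g ⟨j, hj, e⟩ => ⟨j, hJK j hj, e⟩) hx)
  have hinj' : ∀ a b : Fin reps.length, ∀ x ∈ W.G J, ∀ y ∈ W.G J,
      W.perm reps[a] * x = W.perm reps[b] * y → a = b ∧ x = y := by
    intro a b x hx y hy e
    have hz : W.perm reps[a] = W.perm reps[b] * (y * x⁻¹) := by rw [← mul_assoc, ← e, mul_inv_cancel_right]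
    have hz' : W.perm reps[b] = W.perm reps[a] * (x * y⁻¹) := by rw [← mul_assoc, e, mul_inv_cancel_right]
    simp only [Fin.getElem_fin] at hz hz'
    have h1 := hadd _ (hrepS _ (List.getElem_mem _)) (hreps _ (List.getElem_mem b.2)).2.1 _ (mul_mem hy (inv_mem hx))
    have h2 := hadd _ (hrepS _ (List.getElem_mem _)) (hreps _ (List.getElem_mem a.2)).2.1 _ (mul_mem hx (inv_mem hy))
    rw [← hz] at h1
    rw [← hz'] at h2
    have h0 : invQ T ε (y * x⁻¹) = ∅ := Finset.card_eq_zero.1 (by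
      omega)
    have hyx := eq_one_of_inv hU F hwit hinj hok (G_le hU hok hJlt (mul_mem hy (inv_mem hx))) h0
    have hab := hdist a b (by simp only [Fin.getElem_fin]; rw [hz, hyx, mul_one])
    exact ⟨hab, (mul_inv_eq_one.1 hyx).symm⟩
  have hsum : (reps.map fun c => q ^ c.length).sum = ∑ a : Fin reps.length, q ^ (reps[a]).length := by
    conv_lhs => rw [← List.ofFn_getElem (xs := reps), List.map_ofFn, List.sum_ofFn]
    rfl
  rw [hsum, sumG, sumG, Finset.sum_mul]
  simp only [Finset.mul_sum]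
  rw [← Finset.sum_product']
  symm
  refine Finset.sum_bij (fun p _ => W.perm reps[p.1] * p.2) (fun p hp => ?_) (fun p hp p' hp' e => ?_)
    (fun g hg => ?_) (fun p hp => ?_)
  · exact Finset.mem_filter.2 ⟨Finset.mem_univ _,
      hmem _ (List.getElem_mem _) _ (Finset.mem_filter.1 (Finset.mem_product.1 hp).2).2⟩
  · obtain ⟨h1, h2⟩ := hinj' p.1 p'.1 p.2 (Finset.mem_filter.1 (Finset.mem_product.1 hp).2).2 p'.2
      (Finset.mem_filter.1 (Finset.mem_product.1 hp').2).2 e
    exact Prod.ext h1 h2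
  · obtain ⟨c, hc, x, hx, rfl⟩ := hcover g (Finset.mem_filter.1 hg).2
    obtain ⟨a, ha, rfl⟩ := List.getElem_of_mem hc
    exact ⟨(⟨a, ha⟩, x), Finset.mem_product.2 ⟨Finset.mem_univ _, Finset.mem_filter.2 ⟨Finset.mem_univ _, hx⟩⟩, rfl⟩
  · simp only [Fin.getElem_fin]
    rw [hadd _ (hrepS _ (List.getElem_mem _)) (hreps _ (List.getElem_mem p.1.2)).2.1 _
      (Finset.mem_filter.1 (Finset.mem_product.1 hp).2).2, ← pow_add]
    simp only [(hreps _ (List.getElem_mem p.1.2)).2.2]

/-- The stabiliser is generated by the fundamental reflections of the subsystem. -/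
theorem mem_G_of_stab (F : Type u) [Field F] {γ : Equiv.Perm (Fin T.tab.n)} (hγ : γ ∈ stabS T ε) : γ ∈ W.G (List.range W.k) := by
  classical
  induction hn : (invQ T ε γ).card using Nat.strong_induction_on generalizing γ with
  | _ n IH =>
    by_cases h0 : invQ T ε γ = ∅
    · rw [eq_one_of_inv hU F hwit hinj hok hγ h0]
      exact one_mem _
    obtain ⟨i, hi, hneg⟩ : ∃ i < W.k, ¬ T.S.pos (γ (W.β i)) := by
      by_contra hcon
      push Not at hcon
      refine h0 (Finset.eq_empty_iff_forall_notMem.2 fun r hr => ?_)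
      exact (mem_invQ.1 hr).2 (pos_of_pos_beta hU hok (mem_stabS.1 hγ).1 hcon (mem_invQ.1 hr).1)
    obtain ⟨hb, -, hsb, hsS, hsinv, hperm⟩ := refl_facts hU hok hi
    have hsub : invQ T ε (γ * W.s i) ⊆ ((invQ T ε γ).erase (W.β i)).image (W.s i) := by
      intro r hr
      obtain ⟨hr1, hr2⟩ := mem_invQ.1 hr
      rw [Equiv.Perm.mul_apply] at hr2
      have hne : r ≠ W.β i := by
        rintro rfl
        rw [hsb, weyl_neg hU (mem_stabS.1 hγ).1] at hr2
        exact hr2 (pos_neg_of_not T hneg)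
      have hinvo : W.s i (W.s i r) = r := by
        conv_lhs => arg 1; rw [← hsinv]
        exact Equiv.symm_apply_apply _ _
      refine Finset.mem_image.2 ⟨W.s i r, Finset.mem_erase.2 ⟨fun e => ?_, mem_invQ.2
        ⟨hperm r hr1 hne, hr2⟩⟩, hinvo⟩
      rw [e, hsb] at hinvo
      exact T.S.not_pos_neg _ (inS_iff.1 hb).1 (hinvo ▸ (inS_iff.1 hr1).1)
    have hlt : (invQ T ε (γ * W.s i)).card < n := by
      subst hn
      exact lt_of_le_of_lt ((Finset.card_le_card hsub).trans Finset.card_image_le)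
        (Finset.card_erase_lt_of_mem (mem_invQ.2 ⟨hb, hneg⟩))
    have h1 := IH _ hlt (mul_mem hγ hsS) rfl
    have h2 := mul_mem h1 (Subgroup.subset_closure (k := {g | ∃ j ∈ List.range W.k, g = W.s j})
      ⟨i, List.mem_range.2 hi, rfl⟩)
    rwa [show γ * W.s i * W.s i = γ by
      rw [mul_assoc]; nth_rw 1 [← hsinv]; rw [inv_mul_cancel, mul_one]] at h2

/-- The sum over the stabiliser of the character of an involution. -/
theorem sum_stabF {F : Type u} [Field F] [Fintype F] (h2 : (2 : F) ≠ 0) {h : ↥(D.group F)}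
    (hs : HasSign T hU h ε) (q : ℕ) :
    ∑ γ ∈ stabF T h, q ^ (invP T h γ).card = sumG ε W q (List.range W.k) := by
  classical
  have hchi : ∀ r s : Fin T.tab.n, chi T h r = chi T h s ↔ sgnB T ε r = sgnB T ε s := fun r s => by
    rw [hs.chi_eq r, hs.chi_eq s]
    have : (-1 : F) ≠ 1 := fun e => h2 (by linear_combination -e)
    cases sgnB T ε r <;> cases sgnB T ε s <;> simp [this, this.symm]
  have hmemG : ∀ γ, γ ∈ W.G (List.range W.k) ↔ γ ∈ stabS T ε := fun γ =>
    ⟨fun hg => G_le hU hok (fun j hj => List.mem_range.1 hj) hg,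
      fun hg => mem_G_of_stab hU hok hwit hinj F hg⟩
  refine Finset.sum_congr ?_ fun γ _ => ?_
  · ext γ
    simp only [mem_stabF, Finset.mem_filter, Finset.mem_univ, true_and, hmemG, mem_stabS, hchi]
  · congr 2
    ext r
    simp only [invP, invQ, Finset.mem_filter, Finset.mem_univ, true_and, inS_iff,
      sgnB_eq_false_iff h2 hs]
    tauto

omit hwit hinj in
theorem card_invFix {F : Type u} [Field F] [Fintype F] (h2 : (2 : F) ≠ 0) {h : ↥(D.group F)}
    (hs : HasSign T hU h ε) {w₀ : List (Fin T.tab.l)} (hlong : T.longestB w₀ = true) :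
    (invFix T h w₀).card = ((List.finRange T.tab.n).countP fun r => inS T ε r) := by
  classical
  rw [List.countP_eq_length_filter, ← List.toFinset_card_of_nodup ((List.nodup_finRange _).filter _)]
  congr 1
  ext r
  simp only [invFix, Finset.mem_filter, mem_inv, List.mem_toFinset, List.mem_filter, List.mem_finRange,
    true_and, inS_iff, sgnB_eq_false_iff h2 hs]
  exact ⟨fun hr => ⟨hr.1.1, hr.2⟩, fun hr => ⟨⟨hr.1, fun hp =>
    T.S.not_pos_neg _ hp (T.longest_neg hlong r hr.1)⟩, hr.2⟩⟩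

end Cfsg.Agent.CG26.ChevInv
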