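import Cfsg.Agent.CG26.ChevInv.Root

/-!
Every involution of a Chevalley group in odd characteristic is conjugate into the diagonal subgroup, from a
Boolean certificate on the sets of fundamental roots sent to their negatives.
-/

set_option autoImplicit false
set_option linter.unusedSectionVars false

namespace Cfsg.Agent.CG26.ChevInv

open Cfsg.Lie Cfsg.Agent.ChevGroup Cfsg.Agent.ChevCore Cfsg.Agent.ChevTori

universe u

variable {D : ChevalleyDatum} (T : Model D)

/-- The positive roots sent to negative ones. -/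
def inv (w : List (Fin T.tab.l)) : Finset (Fin T.tab.n) :=
  Finset.univ.filter fun r => T.S.pos r ∧ ¬ T.S.pos (T.S.actw w r)

/-- The number of positive roots sent to negative ones. -/
def mu (w : List (Fin T.tab.l)) : ℕ := (inv T w).card

theorem mem_inv {w : List (Fin T.tab.l)} {r : Fin T.tab.n} :
    r ∈ inv T w ↔ T.S.pos r ∧ ¬ T.S.pos (T.S.actw w r) := by simp [inv]

theorem mu_congr {w v : List (Fin T.tab.l)} (h : ∀ r, T.S.actw w r = T.S.actw v r) :
    mu T w = mu T v := by simp [mu, inv, h]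

theorem pos_neg_of_not {r : Fin T.tab.n} (h : ¬ T.S.pos r) : T.S.pos (T.S.neg r) :=
  (T.S.pos_or_neg r).resolve_left h

theorem actw_injective (w : List (Fin T.tab.l)) : Function.Injective (T.S.actw w) := fun a b h => by
  simpa [T.S.actw_reverse'] using congrArg (T.S.actw w.reverse) h

theorem inv_append_of_pos {w : List (Fin T.tab.l)} {i : Fin T.tab.l}
    (h : T.S.pos (T.S.actw w (T.S.simple i))) :
    inv T (w ++ [i]) = insert (T.S.simple i) ((inv T w).image (T.S.refl i)) := by
  ext r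
  simp only [Finset.mem_insert, Finset.mem_image, mem_inv, T.S.actw_append, T.S.actw_cons, T.S.actw_nil]
  constructor
  · rintro ⟨hr, hn⟩
    by_cases hi : r = T.S.simple i
    · exact Or.inl hi
    · exact Or.inr ⟨_, ⟨T.S.refl_pos i r hr hi, hn⟩, T.S.refl_refl i r⟩
  · rintro (rfl | ⟨s, ⟨hs, hn⟩, rfl⟩)
    · refine ⟨T.S.simple_pos i, ?_⟩
      rw [T.S.refl_simple, T.S.actw_neg]
      exact T.S.not_pos_neg _ h
    · refine ⟨T.S.refl_pos i s hs fun e => hn (e ▸ h), ?_⟩
      rwa [T.S.refl_refl]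

theorem notMem_image_inv (w : List (Fin T.tab.l)) (i : Fin T.tab.l) :
    T.S.simple i ∉ (inv T w).image (T.S.refl i) := by
  simp only [Finset.mem_image, mem_inv, not_exists, not_and]
  intro s hs e
  have : s = T.S.neg (T.S.simple i) := by rw [← T.S.refl_simple, ← e, T.S.refl_refl]
  exact T.S.not_pos_neg _ (T.S.simple_pos i) (this ▸ hs.1)

theorem mu_append_of_pos {w : List (Fin T.tab.l)} {i : Fin T.tab.l}
    (h : T.S.pos (T.S.actw w (T.S.simple i))) : mu T (w ++ [i]) = mu T w + 1 := by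
  rw [mu, inv_append_of_pos T h, Finset.card_insert_of_notMem (notMem_image_inv T w i),
    Finset.card_image_of_injective _ (Function.LeftInverse.injective (T.S.refl_refl i))]
  rfl

theorem mu_append_of_neg {w : List (Fin T.tab.l)} {i : Fin T.tab.l}
    (h : ¬ T.S.pos (T.S.actw w (T.S.simple i))) : mu T (w ++ [i]) + 1 = mu T w := by
  rw [← mu_append_of_pos T (w := w ++ [i]) (i := i) ?_]
  · refine mu_congr T fun r => ?_
    simp [T.S.actw_append, T.S.refl_refl]
  · rw [T.S.actw_append, T.S.actw_cons, T.S.actw_nil, T.S.refl_simple, T.S.actw_neg]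
    exact pos_neg_of_not T h

theorem mu_reverse (w : List (Fin T.tab.l)) : mu T w.reverse = mu T w := by
  have key : ∀ v : List (Fin T.tab.l), mu T v ≤ mu T v.reverse := fun v =>
    Finset.card_le_card_of_injOn (fun r => T.S.neg (T.S.actw v r))
      (fun r hr => by
        obtain ⟨hp, hn⟩ := (mem_inv T).1 hr
        refine (mem_inv T).2 ⟨pos_neg_of_not T hn, ?_⟩
        rw [T.S.actw_neg, T.S.actw_reverse']
        exact T.S.not_pos_neg _ hp)
      (fun a _ b _ h => actw_injective T v (by simpa [T.S.neg_neg] using congrArg T.S.neg h))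
  refine le_antisymm ?_ (key w)
  simpa using key w.reverse

theorem mu_cons_of_neg {w : List (Fin T.tab.l)} {i : Fin T.tab.l}
    (h : ¬ T.S.pos (T.S.actw w.reverse (T.S.simple i))) : mu T (i :: w) + 1 = mu T w := by
  rw [← mu_reverse T (i :: w), List.reverse_cons, mu_append_of_neg T h, mu_reverse]

theorem mu_cons_of_pos {w : List (Fin T.tab.l)} {i : Fin T.tab.l}
    (h : T.S.pos (T.S.actw w.reverse (T.S.simple i))) : mu T (i :: w) = mu T w + 1 := by
  rw [← mu_reverse T (i :: w), List.reverse_cons, mu_append_of_pos T h, mu_reverse]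

theorem actw_reverse_of_involutive {w : List (Fin T.tab.l)}
    (h : ∀ r, T.S.actw w (T.S.actw w r) = r) (r : Fin T.tab.n) :
    T.S.actw w.reverse r = T.S.actw w r := by
  conv_lhs => rw [← h r]
  rw [T.S.actw_reverse']

/-- Roots are determined by their coordinates, as far as the fundamental ones are concerned. -/
noncomputable def injB : Bool :=
  (List.finRange T.tab.l).all fun i => (List.finRange T.tab.n).all fun r =>
    decide (r = T.S.simple i) ||
      (List.finRange T.tab.l).any fun j => decide (cf T r j ≠ if j = i then 1 else 0)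

variable (hU : UGood D)

include hU

theorem cf_actw (w : List (Fin T.tab.l)) (s : Fin T.tab.n) (k : Fin T.tab.l) :
    cf T (T.S.actw w s) k = ∑ j, cf T s j * cf T (T.S.actw w (T.S.simple j)) k := by
  have := cf_weyl hU.toCommGood.toGood (prod_mem_weyl T w) s k
  simpa only [prod_reflPerm] using this

theorem cf_nonneg {s : Fin T.tab.n} (hs : T.S.pos s) (j : Fin T.tab.l) : 0 ≤ cf T s j :=
  hU.toCommGood.toGood.coef_nonneg (T.lt s)
    ((hU.toCommGood.toGood.isPosRoot_iff (T.lt s)).1 ((T.pos_val s).1 hs)) (T.lt_l j)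

theorem cf_nonpos {s : Fin T.tab.n} (hs : ¬ T.S.pos s) (j : Fin T.tab.l) : cf T s j ≤ 0 := by
  have := cf_nonneg T hU (pos_neg_of_not T hs) j
  rw [cf_neg hU.toCommGood.toGood] at this
  omega

theorem exists_cf_ne (s : Fin T.tab.n) : ∃ j, cf T s j ≠ 0 := by
  by_contra hcon
  push Not at hcon
  have hG := hU.toCommGood.toGood
  have h1 := hG.ht_ne_zero (T.lt s)
  rw [hG.ht_eq (T.lt s), ← T.l_eq, Finset.sum_range] at h1
  exact h1 (Finset.sum_eq_zero fun j _ => hcon j)

theorem cf_ext {wit : List (List (Fin T.tab.l) × Fin T.tab.l)} (hwit : T.witB wit = true)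
    (hinj : injB T = true) {r s : Fin T.tab.n} (h : ∀ j, cf T r j = cf T s j) : r = s := by
  obtain ⟨w, i, rfl⟩ := T.witness hwit r
  have hsimp : T.S.actw w.reverse s = T.S.simple i := by
    simp only [injB, List.all_eq_true, List.any_eq_true, Bool.or_eq_true, decide_eq_true_eq] at hinj
    refine (hinj i (List.mem_finRange i) _ (List.mem_finRange _)).resolve_right ?_
    rintro ⟨j, -, hj⟩
    refine hj ?_
    have h1 : cf T (T.S.actw w.reverse s) j =
        cf T (T.S.actw w.reverse (T.S.actw w (T.S.simple i))) j := by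
      rw [cf_actw T hU, cf_actw T hU w.reverse (T.S.actw w _)]
      simp only [h]
    rw [h1, T.S.actw_reverse', cf_simple hU.toCommGood.toGood]
  rw [← hsimp, T.S.actw_reverse]

/-- Two fundamental roots in the list with odd Cartan integers. -/
def pairB (L : List (Fin T.tab.l)) : Bool :=
  L.any fun i => L.any fun j => decide (i ≠ j) &&
    decide (D.pairing (T.S.simple i).val (T.S.neg (T.S.simple j)).val % 2 ≠ 0) &&
    decide (D.pairing (T.S.simple i).val (T.S.neg (T.S.refl i (T.S.simple j))).val % 2 ≠ 0)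

omit hU in
/-- An orthogonal list with a root detecting squares. -/
noncomputable def orthB (L : List (Fin T.tab.l)) : Bool :=
  ((List.finRange T.tab.n).all fun v => !decide (T.S.pos v) ||
    !((List.finRange T.tab.l).all fun k => decide (k ∈ L) || decide (cf T v k = 0)) ||
      decide (v ∈ L.map T.S.simple)) &&
  (L.all fun j => decide (T.S.actw L (T.S.simple j) = T.S.neg (T.S.simple j))) &&
  ((List.finRange T.tab.n).all fun v => decide (T.S.actw L (T.S.actw L v) = v) &&
    (!decide (T.S.pos v) || decide (T.S.pos (T.S.actw L v)) || decide (v ∈ L.map T.S.simple))) &&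
  L.any fun i => (List.finRange T.tab.n).any fun v =>
    decide (T.S.actw (i :: L) v = v) && decide (D.pairing (T.S.simple i).val v.val % 2 ≠ 0)

omit hU in
/-- The certificate for the reduction of involutions. -/
noncomputable def redB : Bool :=
  injB T && (List.finRange T.tab.l).sublists.all fun L => L.isEmpty || pairB T L || orthB T L

variable {F : Type u} [Field F]

omit hU in
theorem scal_symm {r r' : Fin T.tab.n} {hU : UGood D} {t : ↥(D.group F)} (hsq : t * t = 1) {d : F}
    (hd0 : d ≠ 0) (hd : ∀ u : F, t * (rr T hU).x r u * t⁻¹ = (rr T hU).x r' (d * u)) (u : F) :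
    t * (rr T hU).x r' u * t⁻¹ = (rr T hU).x r (d⁻¹ * u) := by
  have h1 := hd (d⁻¹ * u)
  rw [mul_inv_cancel_left₀ hd0] at h1
  have hinv : t⁻¹ = t := inv_eq_of_mul_eq_one_right hsq
  rw [← h1, show t * (t * (rr T hU).x r (d⁻¹ * u) * t⁻¹) * t⁻¹ =
    t * t * (rr T hU).x r (d⁻¹ * u) * (t * t)⁻¹ by group, hsq, inv_one, one_mul, mul_one]

theorem conj_n {t : ↥(D.group F)} (hsq : t * t = 1) {i : Fin T.tab.l} {d : F} (hd0 : d ≠ 0)
    (hd : ∀ u : F, t * (rr T hU).x (T.S.simple i) u * t⁻¹ =
      (rr T hU).x (T.S.neg (T.S.simple i)) (d * u)) :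
    t * (rr T hU).n i * t⁻¹ = (rr T hU).hr (T.S.simple i) (-d⁻¹) * (rr T hU).n i := by
  have h2 := (pairRel (F := F) T hU (T.S.simple i)).pn_eq' (-d⁻¹) (neg_ne_zero.2 (inv_ne_zero hd0))
  have e : -(-d⁻¹)⁻¹ = d := by rw [inv_neg, neg_neg, inv_inv]
  rw [e] at h2
  refine Eq.trans ?_ ((rr (F := F) T hU).nr_eq (T.S.simple i) (-d⁻¹))
  refine Eq.trans ?_ h2.symm
  show t * ((rr T hU).x (T.S.simple i) 1 * (rr T hU).x (T.S.neg (T.S.simple i)) (-(1 : F)⁻¹) *
    (rr T hU).x (T.S.simple i) 1) * t⁻¹ = _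
  rw [show ∀ a b c : ↥(D.group F), t * (a * b * c) * t⁻¹ = t * a * t⁻¹ * (t * b * t⁻¹) * (t * c * t⁻¹)
    from fun a b c => by group, hd, scal_symm T hsq hd0 hd, mul_one, inv_one, mul_neg, mul_one]

variable [Fintype F]

theorem isSquare_mul_of_not {a b : F} (ha : ¬ IsSquare a) (hb : ¬ IsSquare b) : IsSquare (a * b) := by
  classical
  have ha0 : a ≠ 0 := fun e => ha (e ▸ IsSquare.zero)
  have hb0 : b ≠ 0 := fun e => hb (e ▸ IsSquare.zero)
  refine (quadraticChar_one_iff_isSquare (mul_ne_zero ha0 hb0)).1 ?_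
  rw [map_mul, quadraticChar_neg_one_iff_not_isSquare.2 ha, quadraticChar_neg_one_iff_not_isSquare.2 hb]
  norm_num

omit hU in
theorem exists_eq_two_mul {p : ℤ} (hp : p % 2 ≠ 0) : ∃ m, p = 2 * m + 1 := ⟨p / 2, by omega⟩

variable {wit : List (List (Fin T.tab.l) × Fin T.tab.l)}

/-- A pair of fundamental roots removes a letter. -/
theorem exists_pair (h2 : (2 : F) ≠ 0) (hwit : T.witB wit = true) (hinj : injB T = true)
    {t : ↥(D.group F)} {w : List (Fin T.tab.l)} (ht : Mon T hU t w) (hsq : t * t = 1)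
    {i j : Fin T.tab.l} (hij : i ≠ j)
    (hi : T.S.actw w (T.S.simple i) = T.S.neg (T.S.simple i))
    (hj : T.S.actw w (T.S.simple j) = T.S.neg (T.S.simple j))
    (hp₁ : D.pairing (T.S.simple i).val (T.S.neg (T.S.simple j)).val % 2 ≠ 0)
    (hp₂ : D.pairing (T.S.simple i).val (T.S.neg (T.S.refl i (T.S.simple j))).val % 2 ≠ 0) :
    ∃ t' w', IsConj t t' ∧ Mon T hU t' w' ∧ mu T w' < mu T w := by
  set R := rr (F := F) T hU
  set a := T.S.simple i
  set b := T.S.simple j
  have hrev := actw_reverse_of_involutive T (ht.actw_involutive hsq)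
  have finish : ∀ (t₁ : ↥(D.group F)) (w₁ : List (Fin T.tab.l)) (k : Fin T.tab.l), IsConj t t₁ →
      Mon T hU t₁ w₁ → mu T w₁ = mu T w →
      T.S.actw w₁ (T.S.simple k) = T.S.neg (T.S.simple k) →
      (∀ d : F, (∀ u : F, t₁ * R.x (T.S.simple k) u * t₁⁻¹ =
        R.x (T.S.neg (T.S.simple k)) (d * u)) → IsSquare d) →
      ∃ t' w', IsConj t t' ∧ Mon T hU t' w' ∧ mu T w' < mu T w := by
    intro t₁ w₁ k hc hm hmu hk hsquare
    have hsq₁ : t₁ * t₁ = 1 := by
      obtain ⟨g, rfl⟩ := isConj_iff.1 hc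
      rw [show g * t * g⁻¹ * (g * t * g⁻¹) = g * (t * t) * g⁻¹ by group, hsq, mul_one, mul_inv_cancel]
    obtain ⟨t', hc', hm'⟩ := exists_split T hU h2 hm hsq₁ hk hsquare
    refine ⟨t', _, hc.trans hc', hm', ?_⟩
    have h3 := mu_cons_of_neg T (w := w₁) (i := k) (by
      rw [actw_reverse_of_involutive T (hm.actw_involutive hsq₁), hk]
      exact T.S.not_pos_neg _ (T.S.simple_pos k))
    omega
  obtain ⟨di, hdi0, hdi⟩ := ht.scal a
  obtain ⟨dj, hdj0, hdj⟩ := ht.scal b
  rw [hi] at hdi
  rw [hj] at hdj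
  have uniq : ∀ {r : Fin T.tab.n} {d d' : F} {s : ↥(D.group F)} {r' : Fin T.tab.n},
      (∀ u : F, s * R.x r u * s⁻¹ = R.x r' (d * u)) →
      (∀ u : F, s * R.x r u * s⁻¹ = R.x r' (d' * u)) → d = d' := fun h h' => by
    have := x_inj T hU _ ((h 1).symm.trans (h' 1))
    simpa using this
  by_cases hsi : IsSquare di
  · exact finish t w i (IsConj.refl t) ht rfl hi fun d hd => uniq hdi hd ▸ hsi
  by_cases hsj : IsSquare dj
  · exact finish t w j (IsConj.refl t) ht rfl hj fun d hd => uniq hdj hd ▸ hsj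
  by_cases hm1 : IsSquare (-1 : F)
  swap
  · -- change the sign at `i`
    have hh := R.hr_mem_H (r := a) (c := (-1 : F)) (neg_ne_zero.2 one_ne_zero)
    refine finish (R.hr a (-1) * t) w j (exists_flip T hU h2 ht hsq hi)
      (by simpa using (Mon.of_H hh).mul ht) rfl hj fun d hd => ?_
    have h1 : ∀ u : F, R.hr a (-1) * t * R.x b u * (R.hr a (-1) * t)⁻¹ =
        R.x (T.S.neg b) (-dj * u) := fun u => by
      rw [show R.hr a (-1) * t * R.x b u * (R.hr a (-1) * t)⁻¹ =
        R.hr a (-1) * (t * R.x b u * t⁻¹) * (R.hr a (-1))⁻¹ by group, hdj, conj_x T hU hh,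
        chi_hr T hU _ _ (neg_ne_zero.2 one_ne_zero), Odd.neg_one_zpow (Int.odd_iff.2 (by omega))]
      congr 1
      ring
    rw [← uniq h1 hd, show -dj = -1 * dj by ring]
    exact isSquare_mul_of_not hU hm1 hsj
  · -- conjugate by the fundamental reflection
    set c : F := -di⁻¹ with hc
    have hc0 : c ≠ 0 := neg_ne_zero.2 (inv_ne_zero hdi0)
    have hn := conj_n T hU hsq hdi0 hdi
    set s' := T.S.refl i b with hs'
    set cp : F := c ^ D.pairing a.val (T.S.neg s').val
    have hs'x : ∀ v : F, t * R.x s' v * t⁻¹ = R.x (T.S.neg s') (cp * dj * v) := fun v => by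
      have e1 : R.x s' v = R.n i * R.x b (R.sgn i b * v) * (R.n i)⁻¹ := by
        rw [R.n_conj', ← mul_assoc, R.sgn_sq, one_mul]
      rw [e1, show t * (R.n i * R.x b (R.sgn i b * v) * (R.n i)⁻¹) * t⁻¹ =
        (t * R.n i * t⁻¹) * (t * R.x b (R.sgn i b * v) * t⁻¹) * (t * R.n i * t⁻¹)⁻¹ by group, hn, hdj,
        show ∀ h n x : ↥(D.group F), h * n * x * (h * n)⁻¹ = h * (n * x * n⁻¹) * h⁻¹ from
          fun h n x => by group, R.n_conj', T.S.refl_neg, R.sgn_neg,
        conj_x T hU (R.hr_mem_H hc0), chi_hr T hU _ _ hc0]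
      congr 1
      linear_combination cp * dj * v * R.sgn_sq i b
    have hm : Mon T hU (R.n i * t * (R.n i)⁻¹) ([i] ++ w ++ [i]) :=
      ((Mon.n i).mul ht).mul (by simpa using (Mon.n (F := F) (T := T) (hU := hU) i).inv)
    have hws : T.S.actw w s' = T.S.neg s' := by
      refine cf_ext T hU hwit hinj fun k => ?_
      rw [cf_actw T hU, cf_neg hU.toCommGood.toGood]
      have h0 : ∀ m, cf T s' m * cf T (T.S.actw w (T.S.simple m)) k =
          cf T s' m * -(if k = m then 1 else 0) := by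
        intro m
        by_cases hm' : m = i ∨ m = j
        · rcases hm' with rfl | rfl
          · rw [hi, cf_neg hU.toCommGood.toGood, cf_simple hU.toCommGood.toGood]
          · rw [hj, cf_neg hU.toCommGood.toGood, cf_simple hU.toCommGood.toGood]
        · push Not at hm'
          have : cf T s' m = 0 := by
            rw [hs', cf_refl hU.toCommGood.toGood, cf_simple hU.toCommGood.toGood,
              if_neg hm'.1, if_neg hm'.2, sub_zero]
          rw [this, zero_mul, zero_mul]
      rw [Finset.sum_congr rfl fun m _ => h0 m]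
      simp
    refine finish _ _ j (isConj_iff.2 ⟨R.n i, rfl⟩) hm ?_ ?_ fun d hd => ?_
    · have hna : ¬ T.S.pos (T.S.actw w a) := hi ▸ T.S.not_pos_neg _ (T.S.simple_pos i)
      have h3 := mu_append_of_neg T hna
      have h4 : mu T (i :: (w ++ [i])) = mu T (w ++ [i]) + 1 := by
        refine mu_cons_of_pos T ?_
        rw [List.reverse_append, List.reverse_singleton, T.S.actw_append, hrev, hi, T.S.actw_cons,
          T.S.actw_nil, T.S.refl_neg, T.S.refl_simple, T.S.neg_neg]
        exact T.S.simple_pos i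
      show mu T (i :: (w ++ [i])) = mu T w
      omega
    · rw [T.S.actw_append, T.S.actw_append]
      show T.S.refl i (T.S.actw w s') = _
      rw [hws, T.S.refl_neg, hs', T.S.refl_refl]
    · have h1 : ∀ u : F, R.n i * t * (R.n i)⁻¹ * R.x b u * (R.n i * t * (R.n i)⁻¹)⁻¹ =
          R.x (T.S.neg b) (cp * dj * u) := fun u => by
        have e1 : R.x b u = R.n i * R.x s' (R.sgn i s' * u) * (R.n i)⁻¹ := by
          rw [R.n_conj', ← mul_assoc, R.sgn_sq, one_mul, hs', T.S.refl_refl]
        rw [e1, show R.n i * t * (R.n i)⁻¹ * (R.n i * R.x s' (R.sgn i s' * u) * (R.n i)⁻¹) *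
          (R.n i * t * (R.n i)⁻¹)⁻¹ = R.n i * (t * R.x s' (R.sgn i s' * u) * t⁻¹) * (R.n i)⁻¹ by group,
          hs'x, R.n_conj', T.S.refl_neg, R.sgn_neg]
        rw [show T.S.refl i s' = b from T.S.refl_refl i b]
        congr 1
        linear_combination cp * dj * u * R.sgn_sq i s'
      rw [← uniq h1 hd]
      refine isSquare_mul_of_not hU (fun hcp => hsi ?_) hsj
      obtain ⟨m, hm'⟩ := exists_eq_two_mul hp₂
      have e : cp = c * (c ^ m) ^ 2 := by
        show c ^ _ = _
        rw [hm', zpow_add₀ hc0, zpow_one, mul_comm 2 m, zpow_mul, zpow_two, ← pow_two, mul_comm]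
      have hcs : IsSquare c := by
        have : c = cp / (c ^ m) ^ 2 := by
          rw [e, mul_div_assoc, div_self (pow_ne_zero 2 (zpow_ne_zero m hc0)), mul_one]
        rw [this]
        exact hcp.div ⟨_, pow_two _⟩
      have : di = -1 * c⁻¹ := by rw [hc, inv_neg, inv_inv]; ring
      rw [this]
      exact hm1.mul hcs.inv

omit [Fintype F] in
/-- For an orthogonal list the scalar is a square. -/
theorem isSquare_orth {t : ↥(D.group F)} {w : List (Fin T.tab.l)} (ht : Mon T hU t w) (hsq : t * t = 1)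
    {i : Fin T.tab.l} {d : F} (hd0 : d ≠ 0)
    (hd : ∀ u : F, t * (rr T hU).x (T.S.simple i) u * t⁻¹ =
      (rr T hU).x (T.S.neg (T.S.simple i)) (d * u))
    {v : Fin T.tab.n} (hv : T.S.refl i (T.S.actw w v) = v)
    (hp : D.pairing (T.S.simple i).val v.val % 2 ≠ 0) : IsSquare d := by
  set R := rr (F := F) T hU
  obtain ⟨m, hm⟩ := exists_eq_two_mul hp
  have hwv : T.S.actw w v = T.S.refl i v := by
    conv_rhs => rw [← hv, T.S.refl_refl]
  obtain ⟨e, he0, he⟩ := ht.scal v
  rw [hwv] at he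
  set s' := T.S.refl i v
  have hn := conj_n T hU hsq hd0 hd
  have hc0 : -d⁻¹ ≠ 0 := neg_ne_zero.2 (inv_ne_zero hd0)
  have key := scal_symm T hsq he0 he 1
  have e1 : R.x s' 1 = R.n i * R.x v (R.sgn i v) * (R.n i)⁻¹ := by
    rw [R.n_conj', R.sgn_sq]
  rw [e1, show t * (R.n i * R.x v (R.sgn i v) * (R.n i)⁻¹) * t⁻¹ =
    (t * R.n i * t⁻¹) * (t * R.x v (R.sgn i v) * t⁻¹) * (t * R.n i * t⁻¹)⁻¹ by group, hn, he,
    show ∀ h n x : ↥(D.group F), h * n * x * (h * n)⁻¹ = h * (n * x * n⁻¹) * h⁻¹ from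
      fun h n x => by group, R.n_conj', show T.S.refl i s' = v from T.S.refl_refl i v,
    conj_x T hU (R.hr_mem_H hc0), chi_hr T hU _ _ hc0] at key
  have key' := x_inj T hU _ key
  have hsig : R.sgn i s' * R.sgn i v = -1 := by
    have h1 : R.hr (T.S.simple i) (-1) = (R.n i * R.n i)⁻¹ := by
      show R.nr _ (-1) * R.nr _ (-1) = _
      rw [← R.nr_inv]; simp [RootRel.n]
    have h2 : R.x v (R.sgn i s' * R.sgn i v) = (R.n i * R.n i) * R.x v 1 * (R.n i * R.n i)⁻¹ := by
      rw [show R.n i * R.n i * R.x v 1 * (R.n i * R.n i)⁻¹ =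
        R.n i * (R.n i * R.x v 1 * (R.n i)⁻¹) * (R.n i)⁻¹ by group, R.n_conj', R.n_conj',
        T.S.refl_refl, mul_one]
    have h3 : R.hr (T.S.simple i) (-1) * R.x v (R.sgn i s' * R.sgn i v) * (R.hr (T.S.simple i) (-1))⁻¹ =
        R.x v 1 := by rw [h2, h1]; group
    rw [conj_x T hU (R.hr_mem_H (neg_ne_zero.2 one_ne_zero)), chi_hr T hU _ _ (neg_ne_zero.2 one_ne_zero),
      hm, Odd.neg_one_zpow ⟨m, rfl⟩] at h3
    have := x_inj T hU _ h3
    linear_combination -this
  rw [mul_one, hm, Odd.neg_zpow ⟨m, rfl⟩, inv_zpow, zpow_add₀ hd0, zpow_one, mul_comm 2 m, zpow_mul,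
    zpow_two] at key'
  refine ⟨e / d ^ m, ?_⟩
  have hdm := zpow_ne_zero m hd0
  field_simp at key' ⊢
  linear_combination -key' - e ^ 2 * hsig

/-- An involution outside the diagonal subgroup has a conjugate with fewer inversions. -/
theorem exists_smaller (h2 : (2 : F) ≠ 0) (hwit : T.witB wit = true) (hred : redB T = true)
    {t : ↥(D.group F)} {w : List (Fin T.tab.l)} (ht : Mon T hU t w) (hsq : t * t = 1)
    (hmu : mu T w ≠ 0) :
    ∃ t' w', IsConj t t' ∧ Mon T hU t' w' ∧ mu T w' < mu T w := by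
  have hinv := ht.actw_involutive hsq
  have hrev := actw_reverse_of_involutive T hinv
  have hG := hU.toCommGood.toGood
  by_cases hcase : ∃ i, ¬ T.S.pos (T.S.actw w (T.S.simple i)) ∧
      T.S.actw w (T.S.simple i) ≠ T.S.neg (T.S.simple i)
  · obtain ⟨i, hn, hne⟩ := hcase
    refine ⟨(rr T hU).n i * t * ((rr T hU).n i)⁻¹, [i] ++ w ++ [i], isConj_iff.2 ⟨_, rfl⟩,
      ((Mon.n i).mul ht).mul (by simpa using (Mon.n (F := F) (T := T) (hU := hU) i).inv), ?_⟩
    have h3 := mu_append_of_neg T hn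
    have h4 : mu T (i :: (w ++ [i])) + 1 = mu T (w ++ [i]) := by
      refine mu_cons_of_neg T ?_
      rw [List.reverse_append, List.reverse_singleton, T.S.actw_append, hrev, T.S.actw_cons, T.S.actw_nil]
      intro hp
      have := T.S.refl_pos i (T.S.neg (T.S.actw w (T.S.simple i))) (pos_neg_of_not T hn)
        fun e => hne (by simpa [T.S.neg_neg] using congrArg T.S.neg e)
      rw [T.S.refl_neg] at this
      exact T.S.not_pos_neg _ hp this
    show mu T (i :: (w ++ [i])) < mu T w
    omega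
  push Not at hcase
  set L := (List.finRange T.tab.l).filter fun i =>
    decide (T.S.actw w (T.S.simple i) = T.S.neg (T.S.simple i)) with hL
  have hmem : ∀ {i}, i ∈ L ↔ T.S.actw w (T.S.simple i) = T.S.neg (T.S.simple i) := by
    intro i; simp [L]
  have hpos : ∀ {i}, i ∉ L → T.S.pos (T.S.actw w (T.S.simple i)) := fun {i} hi => by
    by_contra h; exact hi (hmem.2 (hcase i h))
  -- positive roots made negative lie on the list
  have hsupp : ∀ v, T.S.pos v → ¬ T.S.pos (T.S.actw w v) → ∀ j, j ∉ L → cf T v j = 0 := by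
    intro v hv hn j hj
    by_contra hne
    have hvj : 0 < cf T v j := lt_of_le_of_ne (cf_nonneg T hU hv j) (Ne.symm hne)
    obtain ⟨k, hk, hkpos⟩ : ∃ k, k ∉ L ∧ 0 < cf T (T.S.actw w (T.S.simple j)) k := by
      by_contra hcon
      push Not at hcon
      have hz : ∀ k, k ∉ L → cf T (T.S.actw w (T.S.simple j)) k = 0 := fun k hk =>
        le_antisymm (hcon k hk) (cf_nonneg T hU (hpos hj) k)
      have h1 := cf_actw T hU w (T.S.actw w (T.S.simple j)) j
      rw [hinv, cf_simple hG, if_pos rfl, Finset.sum_eq_zero fun m _ => ?_] at h1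
      · exact one_ne_zero h1
      by_cases hm : m ∈ L
      · have hmj : j ≠ m := fun e => hj (e ▸ hm)
        rw [hmem.1 hm, cf_neg hG, cf_simple hG, if_neg hmj, neg_zero, mul_zero]
      · rw [hz m hm, zero_mul]
    have h1 := cf_nonpos T hU hn k
    rw [cf_actw T hU] at h1
    have h2 : 0 < ∑ m, cf T v m * cf T (T.S.actw w (T.S.simple m)) k := by
      refine Finset.sum_pos' (fun m _ => ?_) ⟨j, Finset.mem_univ j, mul_pos hvj hkpos⟩
      by_cases hm : m ∈ L
      · rw [hmem.1 hm, cf_neg hG, cf_simple hG, if_neg (fun e : k = m => hk (e ▸ hm)), neg_zero, mul_zero]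
      · exact mul_nonneg (cf_nonneg T hU hv m) (cf_nonneg T hU (hpos hm) k)
    omega
  simp only [redB, Bool.and_eq_true, List.all_eq_true, Bool.or_eq_true] at hred
  obtain ⟨hinj, hred⟩ := hred
  rcases hred L (List.mem_sublists.2 List.filter_sublist) with (hemp | hp) | ho
  · obtain ⟨v, hv⟩ := Finset.card_pos.1 (Nat.pos_of_ne_zero hmu)
    obtain ⟨hv1, hv2⟩ := (mem_inv T).1 hv
    obtain ⟨j, hj⟩ := exists_cf_ne T hU v
    exact absurd (hsupp v hv1 hv2 j (by rw [List.isEmpty_iff.1 hemp]; simp)) hj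
  · simp only [pairB, List.any_eq_true, Bool.and_eq_true, decide_eq_true_eq] at hp
    obtain ⟨i, hi, j, hj, ⟨hij, hp₁⟩, hp₂⟩ := hp
    exact exists_pair T hU h2 hwit hinj ht hsq hij (hmem.1 hi) (hmem.1 hj) hp₁ hp₂
  · simp only [orthB, List.any_eq_true, List.all_eq_true, Bool.and_eq_true, Bool.or_eq_true,
      Bool.not_eq_true', decide_eq_false_iff_not, decide_eq_true_eq, List.mem_finRange,
      forall_const, true_and] at ho
    obtain ⟨⟨⟨hspt, hneg⟩, hinv'⟩, i, hi, v, hv, hpar⟩ := ho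
    have honL : ∀ r, T.S.pos r → ¬ T.S.pos (T.S.actw w r) → r ∈ L.map T.S.simple := by
      intro r hr hn
      rcases hspt r with (h | h) | h
      · exact absurd hr h
      · exfalso
        rw [List.all_eq_false] at h
        obtain ⟨k, -, hk⟩ := h
        simp only [Bool.or_eq_true, decide_eq_true_eq, not_or] at hk
        exact hk.2 (hsupp r hr hn k hk.1)
      · exact h
    have hwL : ∀ r, T.S.actw w r = T.S.actw L r := by
      intro r
      have hfix := actw_eq_of_pos T hU F (w := w ++ L) (fun s hs => by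
        rw [T.S.actw_append]
        by_cases hsL : s ∈ L.map T.S.simple
        · obtain ⟨k, hk, rfl⟩ := List.mem_map.1 hsL
          rw [hneg k hk, T.S.actw_neg, hmem.1 hk, T.S.neg_neg]
          exact T.S.simple_pos k
        · have hps : T.S.pos (T.S.actw L s) :=
            ((hinv' s).2.resolve_right hsL).resolve_left (not_not.2 hs)
          by_contra hn
          obtain ⟨k, hk, hks⟩ := List.mem_map.1 (honL _ hps hn)
          have : s = T.S.neg (T.S.simple k) := by rw [← hneg k hk, hks, (hinv' s).1]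
          exact T.S.not_pos_neg _ (T.S.simple_pos k) (this ▸ hs)) (T.S.actw L r)
      rwa [T.S.actw_append, (hinv' r).1] at hfix
    obtain ⟨d, hd0, hd⟩ := ht.scal (T.S.simple i)
    rw [hmem.1 hi] at hd
    have hsqd : IsSquare d := isSquare_orth T hU ht hsq hd0 hd (v := v) (by
      rw [hwL]; exact hv) hpar
    obtain ⟨t', hc, hm⟩ := exists_split T hU h2 ht hsq (hmem.1 hi) fun d' hd' => by
      have h5 := x_inj T hU _ ((hd' 1).symm.trans (hd 1))
      rw [mul_one, mul_one] at h5
      rwa [h5]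
    refine ⟨t', _, hc, hm, ?_⟩
    have := mu_cons_of_neg T (w := w) (i := i) (by
      rw [hrev, hmem.1 hi]; exact T.S.not_pos_neg _ (T.S.simple_pos i))
    omega

/-- Every involution is conjugate into the diagonal subgroup. -/
theorem exists_conj_mem_H (h2 : (2 : F) ≠ 0) (hodd : oddB T = true) (hwit : T.witB wit = true)
    (hlong : ∃ w₀, T.longestB w₀ = true) (hspan : Mat.spanB D (T.posList.map Fin.val) = true)
    (hred : redB T = true) {t : ↥(D.group F)} (hsq : t * t = 1) :
    ∃ t', IsConj t t' ∧ t' ∈ (rr T hU).H := by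
  obtain ⟨g, hg⟩ := exists_conj_mem_engN T hU h2 hodd hwit hlong hspan hsq
  obtain ⟨w, hw⟩ := exists_mon hg
  suffices h : ∀ (m : ℕ) (s : ↥(D.group F)) (w : List (Fin T.tab.l)), s * s = 1 → Mon T hU s w →
      mu T w = m → ∃ t', IsConj s t' ∧ t' ∈ (rr T hU).H by
    obtain ⟨t', hc, ht'⟩ := h _ _ w (by
      rw [show g * t * g⁻¹ * (g * t * g⁻¹) = g * (t * t) * g⁻¹ by group, hsq, mul_one, mul_inv_cancel])
      hw rfl
    exact ⟨t', (isConj_iff.2 ⟨g, rfl⟩ : IsConj t (g * t * g⁻¹)).trans hc, ht'⟩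
  intro m
  induction m using Nat.strong_induction_on with
  | _ m IH =>
    intro s w hs hmon hm
    by_cases h0 : mu T w = 0
    · refine ⟨s, IsConj.refl s, hmon.mem_H fun r => actw_eq_of_pos T hU F (fun r hr => ?_) r⟩
      by_contra hn
      rw [mu, Finset.card_eq_zero] at h0
      exact absurd ((mem_inv T).2 ⟨hr, hn⟩) (by simp [h0])
    · obtain ⟨s', w', hc, hm', hlt⟩ := exists_smaller T hU h2 hwit hred hmon hs h0
      have hs' : s' * s' = 1 := by
        obtain ⟨g', rfl⟩ := isConj_iff.1 hc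
        rw [show g' * s * g'⁻¹ * (g' * s * g'⁻¹) = g' * (s * s) * g'⁻¹ by group, hs, mul_one,
          mul_inv_cancel]
      obtain ⟨t', hc', ht'⟩ := IH _ (hm ▸ hlt) s' w' hs' hm' rfl
      exact ⟨t', hc.trans hc', ht'⟩

end Cfsg.Agent.CG26.ChevInv
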