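import Cfsg.Agent.CG26.ChevInv.Normal
import Cfsg.Agent.CG26.G2Inv.Classes

/-!
Monomial elements and the conjugations inside the copies of `SL₂` attached to roots.
-/

set_option autoImplicit false
set_option linter.unusedSectionVars false

namespace Cfsg.Agent.CG26.ChevInv

open Cfsg.Lie Cfsg.Agent.ChevGroup Cfsg.Agent.ChevCore Cfsg.Agent.ChevTori
open Cfsg.Agent.CG26.G2Inv (dconj coe_dconj hom_ext_sl exists_companion neg_one_eq)
open scoped MatrixGroups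

universe u

variable {D : ChevalleyDatum} (T : Model D) (hU : UGood D) {F : Type u} [Field F]

include hU in
theorem pairRel (r : Fin T.tab.n) :
    PairRel ((rr (F := F) T hU).x r) ((rr T hU).x (T.S.neg r)) := by
  have hP := hU.toCommGood.toGood.pairRel_root (F := F) (T.lt r)
  have hn : ∀ c, (((pn ((rr (F := F) T hU).x r) ((rr T hU).x (T.S.neg r)) c : ↥(D.group F))) :
      GL D.Idx F) = pn (fun t : F => xg D F r.val t) (fun t : F => xg D F (D.neg r.val) t) c := by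
    intro c
    simp [pn, val_x, T.neg_eq]
  refine ⟨fun a b => (rr T hU).x_add r a b, fun a b => (rr T hU).x_add _ a b, fun a b ha hb => ?_,
    fun a t ha => ?_, fun a t ha => ?_, fun t => ?_⟩ <;> apply Subtype.ext
  · simpa [ph, hn] using hP.h_mul a b ha hb
  · simpa [ph, hn, val_x] using hP.h_x a t ha
  · simpa [ph, hn, val_x, T.neg_eq] using hP.h_y a t ha
  · simpa [hn, val_x, T.neg_eq] using hP.n_x t

/-- The homomorphism from `SL₂` attached to a root. -/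
noncomputable def phi (r : Fin T.tab.n) : SL(2, F) →* ↥(D.group F) :=
  Classical.choose (exists_sl_hom (pairRel (F := F) T hU r))

theorem phi_U (r : Fin T.tab.n) (t : F) : phi T hU r (slU t) = (rr T hU).x r t :=
  (Classical.choose_spec (exists_sl_hom (pairRel (F := F) T hU r))).1 t

theorem phi_L (r : Fin T.tab.n) (t : F) : phi T hU r (slL t) = (rr T hU).x (T.S.neg r) t :=
  (Classical.choose_spec (exists_sl_hom (pairRel (F := F) T hU r))).2.1 t

theorem phi_pn (r : Fin T.tab.n) (c : F) : phi T hU r (pn slU slL c) = (rr T hU).nr r c := by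
  simp only [pn, map_mul, phi_U, phi_L]
  rfl

theorem phi_ph (r : Fin T.tab.n) (c : F) : phi T hU r (ph slU slL c) = (rr T hU).hr r c := by
  simp only [ph, map_mul, phi_pn]
  rfl

/-- `g` is a diagonal element times the word `w`. -/
def Mon (g : ↥(D.group F)) (w : List (Fin T.tab.l)) : Prop :=
  ∃ h ∈ (rr T hU).H, g = h * (rr T hU).nw w

variable {T hU}

theorem exists_mon {g : ↥(D.group F)} (hg : g ∈ engN (rr T hU)) : ∃ w, Mon T hU g w := by
  obtain ⟨h, hh, w, rfl⟩ := mem_engN _ hg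
  exact ⟨w, h, hh, rfl⟩

theorem Mon.of_H {g : ↥(D.group F)} (hg : g ∈ (rr T hU).H) : Mon T hU g [] := ⟨g, hg, by simp⟩

theorem Mon.nw (w : List (Fin T.tab.l)) : Mon T hU ((rr (F := F) T hU).nw w) w :=
  ⟨1, one_mem _, (one_mul _).symm⟩

theorem Mon.n (i : Fin T.tab.l) : Mon T hU ((rr (F := F) T hU).n i) [i] :=
  ⟨1, one_mem _, by simp⟩

theorem Mon.mul {g g' : ↥(D.group F)} {w v : List (Fin T.tab.l)} (hg : Mon T hU g w)
    (hg' : Mon T hU g' v) : Mon T hU (g * g') (w ++ v) := by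
  obtain ⟨h, hh, rfl⟩ := hg
  obtain ⟨k, hk, rfl⟩ := hg'
  refine ⟨h * ((rr T hU).nw w * k * ((rr T hU).nw w)⁻¹), mul_mem hh (nw_conj_mem_H _ w hk), ?_⟩
  rw [(rr T hU).nw_append]; group

theorem Mon.inv {g : ↥(D.group F)} {w : List (Fin T.tab.l)} (hg : Mon T hU g w) :
    Mon T hU g⁻¹ w.reverse := by
  obtain ⟨h, hh, rfl⟩ := hg
  obtain ⟨k, hk, e⟩ := nw_inv_eq (rr (F := F) T hU) w
  rw [mul_inv_rev, e]
  have h1 : Mon T hU (k * (rr (F := F) T hU).nw w.reverse) w.reverse := ⟨k, hk, rfl⟩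
  simpa using h1.mul (Mon.of_H (inv_mem hh))

theorem Mon.act_eq_self {g : ↥(D.group F)} {w : List (Fin T.tab.l)} (hg : Mon T hU g w)
    (hH : g ∈ (rr T hU).H) (r : Fin T.tab.n) : T.S.actw w r = r := by
  obtain ⟨h, hh, rfl⟩ := hg
  refine actw_eq_self_of_H (T.shapeR (relsOfCommGood hU.toCommGood F)) (fun r t => T.x_ne _ r t)
    ((rr T hU).H_le_B ?_) r
  simpa using mul_mem (inv_mem hh) hH

theorem Mon.mem_H {g : ↥(D.group F)} {w : List (Fin T.tab.l)} (hg : Mon T hU g w)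
    (hw : ∀ r, T.S.actw w r = r) : g ∈ (rr T hU).H := by
  obtain ⟨h, hh, rfl⟩ := hg
  exact mul_mem hh ((T.shapeR (relsOfCommGood hU.toCommGood F)).nw_mem_H (fun r t => T.x_ne _ r t) hw)

theorem Mon.actw_involutive {t : ↥(D.group F)} {w : List (Fin T.tab.l)} (ht : Mon T hU t w)
    (hsq : t * t = 1) (r : Fin T.tab.n) : T.S.actw w (T.S.actw w r) = r := by
  rw [← T.S.actw_append]
  exact (ht.mul ht).act_eq_self (hsq ▸ one_mem _) r

theorem Mon.scal {g : ↥(D.group F)} {w : List (Fin T.tab.l)} (hg : Mon T hU g w) (r : Fin T.tab.n) :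
    ∃ d : F, d ≠ 0 ∧ ∀ u, g * (rr T hU).x r u * g⁻¹ = (rr T hU).x (T.S.actw w r) (d * u) := by
  obtain ⟨h, hh, rfl⟩ := hg
  obtain ⟨e, he, hx⟩ := (rr (F := F) T hU).nw_conj w r
  refine ⟨chi T h (T.S.actw w r) * e, mul_ne_zero (chi_ne_zero T hU hh _) (left_ne_zero_of_mul_eq_one he),
    fun u => ?_⟩
  rw [mul_assoc _ e u, ← conj_x T hU hh, ← hx]
  group

/-- Conjugate twisted trace-zero elements of `SL₂`. -/
theorem conj_twisted [Fintype F] (h2 : (2 : F) ≠ 0) (u : Fˣ) {g g' : SL(2, F)}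
    (hg : (g : Matrix (Fin 2) (Fin 2) F) 1 1 = -((g : Matrix (Fin 2) (Fin 2) F) 0 0 * u))
    (hg' : (g' : Matrix (Fin 2) (Fin 2) F) 1 1 = -((g' : Matrix (Fin 2) (Fin 2) F) 0 0 * u)) :
    ∃ P : SL(2, F), P * g * dconj u P⁻¹ = g' := by
  set E : Matrix (Fin 2) (Fin 2) F := !![(u : F), 0; 0, 1]
  have hE : ∀ A : SL(2, F), E * (A : Matrix (Fin 2) (Fin 2) F) =
      (dconj u A : Matrix (Fin 2) (Fin 2) F) * E := fun A => by
    rw [coe_dconj]
    ext i j
    fin_cases i <;> fin_cases j <;> simp [E, Matrix.mul_apply, Fin.sum_univ_two] <;> field_simp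
  have aux : ∀ a : SL(2, F), (a : Matrix (Fin 2) (Fin 2) F) 1 1 =
      -((a : Matrix (Fin 2) (Fin 2) F) 0 0 * u) →
      ((a : Matrix (Fin 2) (Fin 2) F) * E) 1 1 = -((a : Matrix (Fin 2) (Fin 2) F) * E) 0 0 ∧
        ((a : Matrix (Fin 2) (Fin 2) F) * E).det = u := fun a ha => by
    refine ⟨?_, ?_⟩
    · simp [E, Matrix.mul_apply, Fin.sum_univ_two, ha]
    · simp [E, Matrix.det_mul, a.det_coe, Matrix.det_fin_two]
  obtain ⟨P₁, hP₁⟩ := exists_companion h2 (aux g hg).1 (aux g hg).2 u.ne_zero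
  obtain ⟨P₂, hP₂⟩ := exists_companion h2 (aux g' hg').1 (aux g' hg').2 u.ne_zero
  obtain ⟨P, hP⟩ : ∃ P, P = P₂⁻¹ * P₁ := ⟨_, rfl⟩
  have key : (P : Matrix (Fin 2) (Fin 2) F) * ((g : Matrix (Fin 2) (Fin 2) F) * E) =
      ((g' : Matrix (Fin 2) (Fin 2) F) * E) * (P : Matrix (Fin 2) (Fin 2) F) := by
    have hinv : ((P₂⁻¹ : SL(2, F)) : Matrix (Fin 2) (Fin 2) F) * (P₂ : Matrix (Fin 2) (Fin 2) F) = 1 := by
      rw [← Matrix.SpecialLinearGroup.coe_mul, inv_mul_cancel, Matrix.SpecialLinearGroup.coe_one]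
    have hinv' : (P₂ : Matrix (Fin 2) (Fin 2) F) * ((P₂⁻¹ : SL(2, F)) : Matrix (Fin 2) (Fin 2) F) = 1 := by
      rw [← Matrix.SpecialLinearGroup.coe_mul, mul_inv_cancel, Matrix.SpecialLinearGroup.coe_one]
    have h3 : ((P₂⁻¹ : SL(2, F)) : Matrix (Fin 2) (Fin 2) F) * !![0, 1; -(u : F), 0] =
        ((g' : Matrix (Fin 2) (Fin 2) F) * E) * ((P₂⁻¹ : SL(2, F)) : Matrix (Fin 2) (Fin 2) F) := by
      calc _ = ((P₂⁻¹ : SL(2, F)) : Matrix (Fin 2) (Fin 2) F) *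
          (!![0, 1; -(u : F), 0] * (P₂ : Matrix (Fin 2) (Fin 2) F)) *
            ((P₂⁻¹ : SL(2, F)) : Matrix (Fin 2) (Fin 2) F) := by
            rw [← Matrix.mul_assoc, Matrix.mul_assoc _ _ ((P₂⁻¹ : SL(2, F)) : Matrix (Fin 2) (Fin 2) F),
              hinv', Matrix.mul_one]
        _ = _ := by rw [← hP₂, ← Matrix.mul_assoc _ _ ((g' : Matrix (Fin 2) (Fin 2) F) * E), hinv, Matrix.one_mul]
    rw [show (P : Matrix (Fin 2) (Fin 2) F) = ((P₂⁻¹ : SL(2, F)) : Matrix (Fin 2) (Fin 2) F) *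
      (P₁ : Matrix (Fin 2) (Fin 2) F) by rw [hP, Matrix.SpecialLinearGroup.coe_mul], Matrix.mul_assoc, hP₁,
      ← Matrix.mul_assoc, h3, Matrix.mul_assoc ((g' : Matrix (Fin 2) (Fin 2) F) * E)]
  refine ⟨P, ?_⟩
  rw [map_inv, mul_inv_eq_iff_eq_mul]
  refine Subtype.ext ?_
  have e1 : ((P * g : SL(2, F)) : Matrix (Fin 2) (Fin 2) F) * E =
      ((g' * dconj u P : SL(2, F)) : Matrix (Fin 2) (Fin 2) F) * E := by
    rw [Matrix.SpecialLinearGroup.coe_mul, Matrix.SpecialLinearGroup.coe_mul, Matrix.mul_assoc, key,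
      Matrix.mul_assoc, hE, ← Matrix.mul_assoc]
  have hEinv : E * !![(u : F)⁻¹, 0; 0, 1] = 1 := by
    ext i j; fin_cases i <;> fin_cases j <;> simp [E, Matrix.mul_apply, Fin.sum_univ_two]
  have := congrArg (· * !![(u : F)⁻¹, 0; 0, 1]) e1
  simpa only [Matrix.mul_assoc, hEinv, Matrix.mul_one] using this

variable (T hU)

/-- At a fundamental root sent to its negative: `n⁻¹ t` acts diagonally on the copy of `SL₂`. -/
theorem exists_twist {t : ↥(D.group F)} {w : List (Fin T.tab.l)} (ht : Mon T hU t w) (hsq : t * t = 1)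
    {i : Fin T.tab.l} (hi : T.S.actw w (T.S.simple i) = T.S.neg (T.S.simple i)) :
    ∃ d : Fˣ, (∀ u : F, t * (rr T hU).x (T.S.simple i) u * t⁻¹ =
        (rr T hU).x (T.S.neg (T.S.simple i)) (d * u)) ∧
      ∀ g, ((rr T hU).n i)⁻¹ * t * phi T hU (T.S.simple i) g * (((rr T hU).n i)⁻¹ * t)⁻¹ =
        phi T hU (T.S.simple i) (dconj (-d) g) := by
  obtain ⟨d, hd0, hd⟩ := ht.scal (T.S.simple i)
  rw [hi] at hd
  set R := rr (F := F) T hU
  set a := T.S.simple i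
  have hinv : t⁻¹ = t := inv_eq_of_mul_eq_one_right hsq
  have P := pairRel (F := F) T hU a
  have hx : ∀ s : F, (R.n i)⁻¹ * R.x (T.S.neg a) s * R.n i = R.x a (-s) := fun s => by
    have h1 : R.n i * R.x a (-s) * (R.n i)⁻¹ = R.x (T.S.neg a) (- -s) := P.n_x (-s)
    rw [neg_neg] at h1
    rw [← h1]; group
  have hy : ∀ s : F, (R.n i)⁻¹ * R.x a s * R.n i = R.x (T.S.neg a) (-s) := fun s => by
    have h1 : R.n i * R.x (T.S.neg a) (-s) * (R.n i)⁻¹ = R.x a (- -s) := P.n_y (-s)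
    rw [neg_neg] at h1
    rw [← h1]; group
  refine ⟨Units.mk0 d hd0, hd, fun g => ?_⟩
  refine hom_ext_sl (f := (MulAut.conj ((R.n i)⁻¹ * t)).toMonoidHom.comp (phi T hU a))
    (g := (phi T hU a).comp (dconj (-Units.mk0 d hd0))) (fun u => ?_) (fun u => ?_) g
  · show (R.n i)⁻¹ * t * phi T hU a (slU u) * ((R.n i)⁻¹ * t)⁻¹ = _
    rw [phi_U, show (R.n i)⁻¹ * t * R.x a u * ((R.n i)⁻¹ * t)⁻¹ =
      (R.n i)⁻¹ * (t * R.x a u * t⁻¹) * R.n i by group, hd, hx]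
    show _ = phi T hU a (dconj (-Units.mk0 d hd0) (slU u))
    rw [show dconj (-Units.mk0 d hd0) (slU u) = slU (-(d * u)) from Subtype.ext (by
      rw [coe_dconj]; ext p q; fin_cases p <;> fin_cases q <;> simp [slU]), phi_U]
  · show (R.n i)⁻¹ * t * phi T hU a (slL u) * ((R.n i)⁻¹ * t)⁻¹ = _
    have hdy : t * R.x (T.S.neg a) u * t⁻¹ = R.x a (d⁻¹ * u) := by
      have h1 := hd (d⁻¹ * u)
      rw [mul_inv_cancel_left₀ hd0, hinv] at h1
      rw [hinv, ← h1, show t * (t * R.x a (d⁻¹ * u) * t) * t = t * t * R.x a (d⁻¹ * u) * (t * t) by group,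
        hsq, one_mul, mul_one]
    rw [phi_L, show (R.n i)⁻¹ * t * R.x (T.S.neg a) u * ((R.n i)⁻¹ * t)⁻¹ =
      (R.n i)⁻¹ * (t * R.x (T.S.neg a) u * t⁻¹) * R.n i by group, hdy, hy]
    show _ = phi T hU a (dconj (-Units.mk0 d hd0) (slL u))
    rw [show dconj (-Units.mk0 d hd0) (slL u) = slL (-(d⁻¹ * u)) from Subtype.ext (by
      rw [coe_dconj]; ext p q; fin_cases p <;> fin_cases q <;> simp [slL, inv_neg]), phi_L]

variable [Fintype F]

theorem conj_by_phi (h2 : (2 : F) ≠ 0) {t : ↥(D.group F)} {i : Fin T.tab.l} {u : Fˣ}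
    (hk : ∀ g, ((rr T hU).n i)⁻¹ * t * phi T hU (T.S.simple i) g * (((rr T hU).n i)⁻¹ * t)⁻¹ =
      phi T hU (T.S.simple i) (dconj u g)) (g' : SL(2, F))
    (hg' : (g' : Matrix (Fin 2) (Fin 2) F) 1 1 = -((g' : Matrix (Fin 2) (Fin 2) F) 0 0 * u)) :
    IsConj t (phi T hU (T.S.simple i) g' * (((rr T hU).n i)⁻¹ * t)) := by
  set R := rr (F := F) T hU
  set φ := phi (F := F) T hU (T.S.simple i)
  set k := (R.n i)⁻¹ * t with hkdef
  obtain ⟨P, hP⟩ := conj_twisted h2 u (g := pn slU slL 1) (g' := g') (by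
    rw [pn_sl one_ne_zero]; simp) hg'
  refine isConj_iff.2 ⟨φ P, ?_⟩
  have hn : φ (pn slU slL 1) = R.n i := phi_pn T hU _ 1
  have h1 := hk P⁻¹
  rw [← hP, map_mul, map_mul, ← h1, hn, map_inv]
  simp only [hkdef]; group

/-- A split fundamental root removes a letter. -/
theorem exists_split (h2 : (2 : F) ≠ 0) {t : ↥(D.group F)} {w : List (Fin T.tab.l)}
    (ht : Mon T hU t w) (hsq : t * t = 1) {i : Fin T.tab.l}
    (hi : T.S.actw w (T.S.simple i) = T.S.neg (T.S.simple i))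
    (hd : ∀ d : F, (∀ u : F, t * (rr T hU).x (T.S.simple i) u * t⁻¹ =
      (rr T hU).x (T.S.neg (T.S.simple i)) (d * u)) → IsSquare d) :
    ∃ t', IsConj t t' ∧ Mon T hU t' (i :: w) := by
  obtain ⟨d, hdx, hk⟩ := exists_twist T hU ht hsq hi
  obtain ⟨μ, hμ⟩ := hd d hdx
  have hμ0 : μ ≠ 0 := fun e => d.ne_zero (by rw [hμ, e, mul_zero])
  refine ⟨_, conj_by_phi T hU h2 hk (ph slU slL μ⁻¹) ?_, ?_⟩
  · rw [ph_sl (inv_ne_zero hμ0)]
    simp [hμ, inv_inv]
    field_simp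
  · rw [phi_ph]
    have h3 : Mon T hU (((rr (F := F) T hU).n i)⁻¹ * t) ([i] ++ w) :=
      (show Mon T hU (((rr (F := F) T hU).n i)⁻¹) [i] by simpa using (Mon.n (F := F) (T := T) (hU := hU) i).inv).mul ht
    simpa using (Mon.of_H ((rr T hU).hr_mem_H (r := T.S.simple i) (inv_ne_zero hμ0))).mul h3

/-- The sign change at a fundamental root. -/
theorem exists_flip (h2 : (2 : F) ≠ 0) {t : ↥(D.group F)} {w : List (Fin T.tab.l)}
    (ht : Mon T hU t w) (hsq : t * t = 1) {i : Fin T.tab.l}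
    (hi : T.S.actw w (T.S.simple i) = T.S.neg (T.S.simple i)) :
    IsConj t ((rr T hU).hr (T.S.simple i) (-1) * t) := by
  obtain ⟨d, hdx, hk⟩ := exists_twist T hU ht hsq hi
  have h1 := conj_by_phi T hU h2 hk (-(pn slU slL 1)) (by
    rw [Matrix.SpecialLinearGroup.coe_neg, pn_sl one_ne_zero]; simp)
  rw [show (-(pn slU slL 1) : SL(2, F)) = ph slU slL (-1) * pn slU slL 1 by rw [← neg_one_eq, neg_one_mul],
    map_mul, phi_ph, phi_pn] at h1
  rwa [show (rr T hU).hr (T.S.simple i) (-1) * (rr T hU).nr (T.S.simple i) 1 *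
    (((rr T hU).n i)⁻¹ * t) = (rr T hU).hr (T.S.simple i) (-1) * t by
      show _ * (rr T hU).n i * _ = _
      group] at h1

end Cfsg.Agent.CG26.ChevInv
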