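import Cfsg.Agent.CG26.ChevInv.Fixed

/-!
The stabiliser of a sign vector in the Weyl group is generated by the reflections in the fundamental roots of
the subsystem with trivial sign, and its Poincare sum factors along a chain of parabolic subgroups.
-/

set_option autoImplicit false
set_option linter.unusedSectionVars false

namespace Cfsg.Agent.CG26.ChevInv

open Cfsg.Lie Cfsg.Agent.ChevGroup Cfsg.Agent.ChevCore Cfsg.Agent.ChevTori

universe u

variable {D : ChevalleyDatum}

/-- The data of the fundamental system of the roots with trivial sign. -/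
structure SubData (T : Model D) where
  k : ℕ
  words : List (List (Fin T.tab.l))
  tabs : List ℕ
  roots : List (Fin T.tab.n)
  coef : List (List ℕ)
  adj : List (List Bool)
  N : ℕ
  phi : List ℤ
  M : ℤ
  A : List (List ℤ)

variable (T : Model D) (ε : List Bool) (W : SubData T)

/-- Positive with trivial sign. -/
noncomputable def inS (r : Fin T.tab.n) : Bool := decide (T.S.pos r) && !sgnB T ε r

/-- The roots of positive trivial sign sent to negative ones. -/
noncomputable def invQ (γ : Equiv.Perm (Fin T.tab.n)) : Finset (Fin T.tab.n) :=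
  Finset.univ.filter fun r => inS T ε r = true ∧ ¬ T.S.pos (γ r)

/-- The stabiliser of the signs. -/
noncomputable def stabS : Subgroup (Equiv.Perm (Fin T.tab.n)) where
  carrier := {γ | γ ∈ weyl T ∧ ∀ r, sgnB T ε (γ r) = sgnB T ε r}
  one_mem' := ⟨one_mem _, fun _ => rfl⟩
  mul_mem' := fun {x y} hx hy => ⟨mul_mem hx.1 hy.1, fun r => by
    rw [Equiv.Perm.mul_apply, hx.2, hy.2]⟩
  inv_mem' := fun {x} hx => ⟨inv_mem hx.1, fun r => by
    conv_rhs => rw [← Equiv.apply_symm_apply x r, hx.2]
    rfl⟩

variable {T}

theorem sum_map_range (f : ℕ → ℤ) (k : ℕ) : ((List.range k).map f).sum = ∑ i ∈ Finset.range k, f i := by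
  induction k with
  | zero => simp
  | succ k ih => simp [List.range_succ, Finset.sum_range_succ, ih]

namespace SubData

/-- A fundamental reflection of the subsystem. -/
def s (i : ℕ) : Equiv.Perm (Fin T.tab.n) := pw T (W.words.getD i [])

/-- The same, from the packed table. -/
def sa (i : ℕ) (r : Fin T.tab.n) : Fin T.tab.n :=
  Fin.ofNat T.tab.n (byteAt (W.tabs.getD i 0) r.val)

/-- A fundamental root of the subsystem. -/
def β (i : ℕ) : Fin T.tab.n := W.roots.getD i (Fin.ofNat T.tab.n 0)

/-- The action of a word in the subsystem. -/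
def actL (c : List ℕ) (r : Fin T.tab.n) : Fin T.tab.n := c.foldr W.sa r

/-- The permutation of a word in the subsystem. -/
def perm (c : List ℕ) : Equiv.Perm (Fin T.tab.n) := (c.map W.s).prod

/-- The subgroup of the letters in a list. -/
def G (J : List ℕ) : Subgroup (Equiv.Perm (Fin T.tab.n)) :=
  Subgroup.closure {g | ∃ j ∈ J, g = W.s j}

/-- The checks on the fundamental reflections. -/
noncomputable def reflB : Bool :=
  (List.range W.k).all fun i => inS T ε (W.β i) &&
    decide (W.sa i (W.β i) = T.S.neg (W.β i)) &&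
    (List.finRange T.tab.n).all fun r =>
      decide (T.S.actw (W.words.getD i []) r = W.sa i r) && decide (W.sa i (W.sa i r) = r) &&
      decide (sgnB T ε (W.sa i r) = sgnB T ε r) &&
      (!inS T ε r || decide (r = W.β i) || decide (T.S.pos (W.sa i r)))

/-- The checks on the coordinates. -/
noncomputable def coefB : Bool :=
  ((List.finRange T.tab.n).all fun r => !inS T ε r ||
    (List.finRange T.tab.l).all fun j => decide (cf T r j =
      ((List.range W.k).map fun i => (((W.coef.getD r.val []).getD i 0 : ℕ) : ℤ) * cf T (W.β i) j).sum)) &&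
  decide (0 < W.N) &&
  ((List.range W.k).all fun i =>
    decide (((List.finRange T.tab.l).map fun j => cf T (W.β i) j * W.phi.getD j.val 0).sum = (W.N : ℤ))) &&
  decide (W.M ≠ 0) &&
  (List.finRange T.tab.l).all fun j => (List.finRange T.tab.l).all fun m =>
    decide ((if m = j then W.M else 0) =
      ((List.range W.k).map fun i => (W.A.getD j.val []).getD i 0 * cf T (W.β i) m).sum)

/-- The recorded pairs whose sum is a root. -/
noncomputable def adjB : Bool :=
  (List.range W.k).all fun a => (List.range W.k).all fun b => decide ((W.adj.getD a []).getD b false =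
    (List.finRange T.tab.n).any fun v =>
      (List.finRange T.tab.l).all fun j => decide (cf T v j = cf T (W.β a) j + cf T (W.β b) j))

/-- A full assignment is the identity or is not linear on the roots. -/
noncomputable def leafB (pre : List ℕ) : Bool :=
  decide (pre = List.range W.k) || (List.finRange T.tab.l).any fun j =>
    (List.finRange T.tab.n).all fun v => (List.finRange T.tab.l).any fun m =>
      decide (W.M * cf T v m ≠
        ((List.range W.k).map fun i => (W.A.getD j.val []).getD i 0 * cf T (W.β (pre.getD i 0)) m).sum)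

/-- The new image respects the recorded pairs. -/
def compatB (pre : List ℕ) (m : ℕ) : Bool :=
  (List.range pre.length).all fun a =>
    decide ((W.adj.getD a []).getD pre.length false = (W.adj.getD (pre.getD a 0) []).getD m false)

/-- Search over the assignments. -/
noncomputable def searchB : ℕ → List ℕ → Bool
  | 0, pre => W.leafB pre
  | f + 1, pre => (List.range W.k).all fun m =>
    decide (m ∈ pre) || !W.compatB pre m || searchB f (pre ++ [m])

/-- All checks on the data. -/
noncomputable def okB : Bool :=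
  W.reflB ε && W.coefB ε && W.adjB && W.searchB W.k [] &&
    (decide (W.roots.length = W.k) && decide W.roots.Nodup)

/-- One step of the chain. -/
noncomputable def stepB (J K : List ℕ) (RJ : List (Fin T.tab.n)) (reps : List (List ℕ))
    (edges : List (List (ℕ × Option ℕ))) : Bool :=
  (J.all fun j => decide (j ∈ K) && decide (W.β j ∈ RJ) &&
    (RJ.all fun r => decide (r = W.β j) || decide (W.sa j r ∈ RJ)) &&
    (List.finRange T.tab.n).all fun r =>
      !inS T ε r || decide (r ∈ RJ) || (inS T ε (W.sa j r) && !decide (W.sa j r ∈ RJ))) &&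
  (K.all fun i => decide (i < W.k)) &&
  (RJ.all fun r => inS T ε r) &&
  decide (reps.head? = some []) &&
  (reps.all fun c => (c.all fun i => decide (i ∈ K)) && (RJ.all fun r => decide (T.S.pos (W.actL c r))) &&
    decide (((List.finRange T.tab.n).countP fun r => inS T ε r && !decide (T.S.pos (W.actL c r))) = c.length)) &&
  decide ((reps.map fun c => (List.finRange T.tab.l).map fun j => (W.actL c (T.S.simple j)).val).Nodup) &&
  (List.range K.length).all fun a => (List.range reps.length).all fun c =>
    match (edges.getD a []).getD c (0, none) with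
    | (d, none) => decide (d < reps.length) && (List.finRange T.tab.l).all fun m =>
        decide (W.actL (K.getD a 0 :: reps.getD c []) (T.S.simple m) = W.actL (reps.getD d []) (T.S.simple m))
    | (d, some j) => decide (d < reps.length) && decide (j ∈ J) && (List.finRange T.tab.l).all fun m =>
        decide (W.actL (K.getD a 0 :: reps.getD c []) (T.S.simple m) =
          W.actL (reps.getD d [] ++ [j]) (T.S.simple m))

end SubData

variable (hU : UGood D)

include hU

theorem sgnB_neg (r : Fin T.tab.n) : sgnB T ε (T.S.neg r) = sgnB T ε r := by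
  have e : ((List.finRange T.tab.l).map fun j => if ε.getD j.val false then cf T (T.S.neg r) j else 0).sum =
      -((List.finRange T.tab.l).map fun j => if ε.getD j.val false then cf T r j else 0).sum := by
    have hc : ∀ j : Fin T.tab.l, (if ε.getD j.val false then cf T (T.S.neg r) j else 0) =
        (-1 : ℤ) * (if ε.getD j.val false then cf T r j else 0) := fun j => by
      rw [cf_neg hU.toCommGood.toGood]; split <;> ring
    simp only [hc, List.sum_map_mul_left]
    ring
  simp only [sgnB, e, Int.neg_emod_two]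

theorem weyl_neg {γ : Equiv.Perm (Fin T.tab.n)} (hγ : γ ∈ weyl T) (r : Fin T.tab.n) :
    γ (T.S.neg r) = T.S.neg (γ r) := by
  obtain ⟨w, rfl⟩ := exists_word_of_mem T hγ
  rw [prod_reflPerm, prod_reflPerm, T.S.actw_neg]

theorem pos_of_cf {r : Fin T.tab.n} (h : ∀ j, 0 ≤ cf T r j) : T.S.pos r := by
  by_contra hn
  obtain ⟨j, hj⟩ := exists_cf_ne T hU r
  have := cf_nonpos T hU hn j
  have := h j
  omega

theorem eq_of_simple (F : Type u) [Field F] {x y : Equiv.Perm (Fin T.tab.n)} (hx : x ∈ weyl T)
    (hy : y ∈ weyl T) (h : ∀ j, x (T.S.simple j) = y (T.S.simple j)) : x = y := by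
  refine (inv_mul_eq_one.1 (fix_of_pos T hU F (mul_mem (inv_mem hy) hx) fun s hs => ?_)).symm
  refine pos_of_cf hU fun k => ?_
  rw [cf_weyl hU.toCommGood.toGood (mul_mem (inv_mem hy) hx)]
  refine Finset.sum_nonneg fun j _ => mul_nonneg (cf_nonneg T hU hs j) ?_
  rw [Equiv.Perm.mul_apply, h j, Equiv.Perm.inv_def, Equiv.symm_apply_apply,
    cf_simple hU.toCommGood.toGood]
  split <;> norm_num

variable {ε W}

omit hU in
theorem inS_iff {r : Fin T.tab.n} : inS T ε r = true ↔ T.S.pos r ∧ sgnB T ε r = false := by
  simp [inS]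

omit hU in
theorem mem_invQ {γ : Equiv.Perm (Fin T.tab.n)} {r : Fin T.tab.n} :
    r ∈ invQ T ε γ ↔ inS T ε r = true ∧ ¬ T.S.pos (γ r) := by simp [invQ]

omit hU in
theorem mem_stabS {γ : Equiv.Perm (Fin T.tab.n)} :
    γ ∈ stabS T ε ↔ γ ∈ weyl T ∧ ∀ r, sgnB T ε (γ r) = sgnB T ε r := Iff.rfl

omit hU in
theorem ok_parts (hok : W.okB ε = true) :
    W.reflB ε = true ∧ W.coefB ε = true ∧ W.adjB = true ∧ W.searchB W.k [] = true ∧
      W.roots.length = W.k ∧ W.roots.Nodup := by
  simp only [SubData.okB, Bool.and_eq_true, decide_eq_true_eq] at hok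
  exact ⟨hok.1.1.1.1, hok.1.1.1.2, hok.1.1.2, hok.1.2, hok.2.1, hok.2.2⟩

omit hU in
theorem beta_inj (hok : W.okB ε = true) {a b : ℕ} (ha : a < W.k) (hb : b < W.k) (e : W.β a = W.β b) :
    a = b := by
  obtain ⟨-, -, -, -, hlen, hnd⟩ := ok_parts hok
  rw [SubData.β, SubData.β, List.getD_eq_getElem _ _ (by omega), List.getD_eq_getElem _ _ (by omega)] at e
  exact hnd.getElem_inj_iff.1 e

/-- Decoded facts on one fundamental reflection. -/
theorem refl_facts (hok : W.okB ε = true) {i : ℕ} (hi : i < W.k) :
    inS T ε (W.β i) = true ∧ (∀ r, W.s i r = W.sa i r) ∧ W.s i (W.β i) = T.S.neg (W.β i) ∧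
      W.s i ∈ stabS T ε ∧ (W.s i)⁻¹ = W.s i ∧
      ∀ r, inS T ε r = true → r ≠ W.β i → inS T ε (W.s i r) = true := by
  have hr := (ok_parts hok).1
  simp only [SubData.reflB, Bool.and_eq_true, List.all_eq_true, List.mem_range,
    decide_eq_true_eq, Bool.or_eq_true, Bool.not_eq_true', List.mem_finRange, forall_const] at hr
  obtain ⟨⟨hb, hn⟩, hall⟩ := hr i hi
  have hact : ∀ r, W.s i r = W.sa i r := fun r => by
    rw [SubData.s, pw_apply]; exact (hall r).1.1.1
  refine ⟨hb, hact, by rw [hact]; exact hn, ⟨prod_mem_weyl T _, fun r => by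
    rw [hact]; exact (hall r).1.2⟩, ?_, fun r hr' hne => ?_⟩
  · rw [inv_eq_iff_mul_eq_one]
    refine Equiv.ext fun r => ?_
    rw [Equiv.Perm.mul_apply, hact, hact, (hall r).1.1.2]
    rfl
  · rw [hact, inS_iff]
    refine ⟨((hall r).2.resolve_left ?_), ?_⟩
    · rw [not_or]; exact ⟨by simp [hr'], hne⟩
    · rw [(hall r).1.2]; exact (inS_iff.1 hr').2

/-- The coordinates of the roots with trivial sign in the fundamental ones of the subsystem. -/
theorem cf_comb (hok : W.okB ε = true) {r : Fin T.tab.n} (hr : inS T ε r = true)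
    {γ : Equiv.Perm (Fin T.tab.n)} (hγ : γ ∈ weyl T) (m : Fin T.tab.l) :
    cf T (γ r) m = ∑ i ∈ Finset.range W.k,
      (((W.coef.getD r.val []).getD i 0 : ℕ) : ℤ) * cf T (γ (W.β i)) m := by
  have hcoef := (ok_parts hok).2.1
  simp only [SubData.coefB, Bool.and_eq_true, List.all_eq_true, List.mem_range,
    decide_eq_true_eq, Bool.or_eq_true, Bool.not_eq_true', List.mem_finRange, forall_const] at hcoef
  have hc := fun j => (hcoef.1.1.1.1 r).resolve_left (by simp [hr]) j
  rw [cf_weyl hU.toCommGood.toGood hγ]
  simp only [hc, ← Finset.sum_range, sum_map_range]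
  simp only [fun i => cf_weyl hU.toCommGood.toGood hγ (W.β i) m, Finset.sum_mul, Finset.mul_sum]
  rw [Finset.sum_comm]
  exact Finset.sum_congr rfl fun i _ => Finset.sum_congr rfl fun j _ => by ring

/-- Positive on the fundamental roots of the subsystem implies positive on it. -/
theorem pos_of_pos_beta (hok : W.okB ε = true) {γ : Equiv.Perm (Fin T.tab.n)} (hγ : γ ∈ weyl T)
    (h : ∀ i < W.k, T.S.pos (γ (W.β i))) {r : Fin T.tab.n} (hr : inS T ε r = true) :
    T.S.pos (γ r) := by
  refine pos_of_cf hU fun m => ?_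
  rw [cf_comb hU hok hr hγ]
  exact Finset.sum_nonneg fun i hi => mul_nonneg (Int.natCast_nonneg _)
    (cf_nonneg T hU (h i (Finset.mem_range.1 hi)) m)

theorem adj_transfer (hok : W.okB ε = true) {z : Equiv.Perm (Fin T.tab.n)} (hz : z ∈ weyl T)
    {a b a' b' : ℕ} (ha : a < W.k) (hb : b < W.k) (ha' : a' < W.k) (hb' : b' < W.k)
    (ea : z (W.β a) = W.β a') (eb : z (W.β b) = W.β b')
    (h : (W.adj.getD a []).getD b false = true) : (W.adj.getD a' []).getD b' false = true := by
  have hadj := (ok_parts hok).2.2.1
  simp only [SubData.adjB, List.all_eq_true, List.mem_range, decide_eq_true_eq] at hadj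
  rw [hadj a ha b hb] at h
  rw [hadj a' ha' b' hb']
  simp only [List.any_eq_true, List.all_eq_true, decide_eq_true_eq, List.mem_finRange, true_and,
    forall_const] at h ⊢
  obtain ⟨v, hv⟩ := h
  refine ⟨z v, fun m => ?_⟩
  rw [← ea, ← eb, cf_weyl hU.toCommGood.toGood hz, cf_weyl hU.toCommGood.toGood hz (W.β a),
    cf_weyl hU.toCommGood.toGood hz (W.β b), ← Finset.sum_add_distrib]
  exact Finset.sum_congr rfl fun j _ => by rw [hv, add_mul]

/-- An element of the stabiliser preserving the positive roots of the subsystem is trivial. -/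
theorem eq_one_of_inv (F : Type u) [Field F] {wit : List (List (Fin T.tab.l) × Fin T.tab.l)}
    (hwit : T.witB wit = true) (hinj : injB T = true) (hok : W.okB ε = true)
    {z : Equiv.Perm (Fin T.tab.n)} (hz : z ∈ stabS T ε) (h0 : invQ T ε z = ∅) : z = 1 := by
  classical
  have hG := hU.toCommGood.toGood
  have hz' := mem_stabS.1 hz
  have hpos : ∀ r, inS T ε r = true → inS T ε (z r) = true := fun r hr => inS_iff.2
    ⟨by_contra fun hn => by simpa [h0] using mem_invQ.2 ⟨hr, hn⟩, (hz'.2 r).trans (inS_iff.1 hr).2⟩
  have hpos' : ∀ r, inS T ε r = true → inS T ε (z⁻¹ r) = true := by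
    intro r hr
    have hbij : Function.Bijective
        (fun x : {x // inS T ε x = true} => (⟨z x.1, hpos x.1 x.2⟩ : {x // inS T ε x = true})) :=
      Finite.injective_iff_bijective.1 fun a b e => Subtype.ext (z.injective (congrArg Subtype.val e))
    obtain ⟨⟨x, hx⟩, e⟩ := hbij.2 ⟨r, hr⟩
    have e' : z x = r := congrArg Subtype.val e
    rw [← e', Equiv.Perm.inv_def, Equiv.symm_apply_apply]
    exact hx
  have hsearch := (ok_parts hok).2.2.2.1
  have hcoef := (ok_parts hok).2.1
  simp only [SubData.coefB, Bool.and_eq_true, List.all_eq_true, List.mem_range,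
    decide_eq_true_eq, Bool.or_eq_true, Bool.not_eq_true', List.mem_finRange, forall_const] at hcoef
  obtain ⟨⟨⟨⟨-, hN⟩, hphi⟩, hM⟩, hA⟩ := hcoef
  let φ : Fin T.tab.n → ℤ := fun r => ∑ j, cf T r j * W.phi.getD j.val 0
  have hφβ : ∀ i < W.k, φ (W.β i) = W.N := fun i hi => by
    rw [← hphi i hi, ← List.ofFn_eq_map, List.sum_ofFn]
  have hφS : ∀ r, inS T ε r = true → φ r =
      (W.N : ℤ) * ∑ i ∈ Finset.range W.k, (((W.coef.getD r.val []).getD i 0 : ℕ) : ℤ) := fun r hr => by
    have h1 : ∀ j, cf T r j = ∑ i ∈ Finset.range W.k,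
        (((W.coef.getD r.val []).getD i 0 : ℕ) : ℤ) * cf T (W.β i) j := fun j => by
      simpa using cf_comb hU hok hr (one_mem _) j
    simp only [φ, h1, Finset.sum_mul]
    rw [Finset.sum_comm, Finset.mul_sum]
    refine Finset.sum_congr rfl fun i hi => ?_
    rw [← hφβ i (Finset.mem_range.1 hi)]
    simp only [φ, Finset.sum_mul]
    exact Finset.sum_congr rfl fun j _ => by ring
  have hone : ∀ r, inS T ε r = true →
      1 ≤ ∑ i ∈ Finset.range W.k, (((W.coef.getD r.val []).getD i 0 : ℕ) : ℤ) := fun r hr => by
    by_contra hlt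
    obtain ⟨j, hj⟩ := exists_cf_ne T hU r
    refine hj ?_
    rw [show cf T r j = cf T ((1 : Equiv.Perm (Fin T.tab.n)) r) j from rfl, cf_comb hU hok hr (one_mem _)]
    refine Finset.sum_eq_zero fun i hi => ?_
    have h0 : (((W.coef.getD r.val []).getD i 0 : ℕ) : ℤ) = 0 := by
      refine le_antisymm ((Finset.single_le_sum (f := fun k => (((W.coef.getD r.val []).getD k 0 : ℕ) : ℤ))
        (fun k _ => Int.natCast_nonneg _) hi).trans ?_) (Int.natCast_nonneg _)
      omega
    rw [h0, zero_mul]
  have himg : ∀ i < W.k, ∃ m < W.k, z (W.β i) = W.β m := by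
    intro i hi
    have hβ : ∀ m < W.k, inS T ε (W.β m) = true := fun m hm => (refl_facts hU hok hm).1
    set r := z (W.β i) with hrdef
    have hr : inS T ε r = true := hpos _ (hβ i hi)
    set c : ℕ → ℤ := fun m => (((W.coef.getD r.val []).getD m 0 : ℕ) : ℤ)
    have hφ1 : φ (W.β i) = ∑ m ∈ Finset.range W.k, c m * φ (z⁻¹ (W.β m)) := by
      have h1 : ∀ j, cf T (W.β i) j = ∑ m ∈ Finset.range W.k, c m * cf T (z⁻¹ (W.β m)) j := fun j => by
        have := cf_comb hU hok hr (inv_mem hz'.1) j
        rwa [hrdef, Equiv.Perm.inv_def, Equiv.symm_apply_apply] at this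
      simp only [φ, h1, Finset.sum_mul]
      rw [Finset.sum_comm]
      refine Finset.sum_congr rfl fun m _ => ?_
      rw [Finset.mul_sum]
      exact Finset.sum_congr rfl fun j _ => by ring
    have hle : (∑ m ∈ Finset.range W.k, c m) ≤ 1 := by
      have h2 : (W.N : ℤ) * ∑ m ∈ Finset.range W.k, c m ≤ W.N * 1 := by
        rw [mul_one]
        refine le_of_le_of_eq ?_ (hφ1.symm.trans (hφβ i hi))
        rw [Finset.mul_sum]
        refine Finset.sum_le_sum fun m hm => ?_
        rw [mul_comm]
        refine mul_le_mul_of_nonneg_left ?_ (Int.natCast_nonneg _)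
        rw [hφS _ (hpos' _ (hβ m (Finset.mem_range.1 hm)))]
        exact le_mul_of_one_le_right (Int.natCast_nonneg _) (hone _ (hpos' _ (hβ m (Finset.mem_range.1 hm))))
      exact le_of_mul_le_mul_left h2 (by exact_mod_cast hN)
    obtain ⟨m, hm, hcm⟩ : ∃ m ∈ Finset.range W.k, c m ≠ 0 :=
      Finset.exists_ne_zero_of_sum_ne_zero (by have := hone r hr; simp only [c] at *; omega)
    refine ⟨m, Finset.mem_range.1 hm, cf_ext T hU hwit hinj fun j => ?_⟩
    rw [show cf T r j = cf T ((1 : Equiv.Perm (Fin T.tab.n)) r) j from rfl, cf_comb hU hok hr (one_mem _),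
      Finset.sum_eq_single_of_mem m hm]
    · have hc1 : c m = 1 := by
        have := Finset.single_le_sum (f := c) (fun k _ => Int.natCast_nonneg _) hm
        have : 0 ≤ c m := Int.natCast_nonneg _
        omega
      rw [show (((W.coef.getD r.val []).getD m 0 : ℕ) : ℤ) = 1 from hc1, one_mul]
      rfl
    · intro b hb hbm
      have hc0 : c b = 0 := by
        have h2 := Finset.sum_le_sum_of_subset_of_nonneg (f := c) (s := {b, m})
          (Finset.insert_subset hb (Finset.singleton_subset_iff.2 hm)) fun k _ _ => Int.natCast_nonneg _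
        rw [Finset.sum_pair hbm] at h2
        have : 0 ≤ c b := Int.natCast_nonneg _
        have : 0 ≤ c m := Int.natCast_nonneg _
        omega
      rw [show (((W.coef.getD r.val []).getD b 0 : ℕ) : ℤ) = 0 from hc0, zero_mul]
  choose σ hσk hσ using himg
  let σ' : ℕ → ℕ := fun i => if h : i < W.k then σ i h else 0
  have hσ' : ∀ i < W.k, σ' i < W.k ∧ z (W.β i) = W.β (σ' i) := fun i hi => by
    simp only [σ', dif_pos hi]
    exact ⟨hσk i hi, hσ i hi⟩
  have hdesc : ∀ f n, n + f = W.k → W.searchB f ((List.range n).map σ') = true →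
      W.leafB ((List.range W.k).map σ') = true := by
    intro f
    induction f with
    | zero =>
      intro n hn h
      obtain rfl : n = W.k := by omega
      exact h
    | succ f ih =>
      intro n hn h
      have hnk : n < W.k := by omega
      simp only [SubData.searchB, List.all_eq_true, List.mem_range, Bool.or_eq_true, decide_eq_true_eq,
        Bool.not_eq_true'] at h
      have hlinj : ∀ a < W.k, ∀ b < W.k, W.β a = W.β b → a = b := fun a ha b hb e =>
        beta_inj hok ha hb e
      rcases h (σ' n) (hσ' n hnk).1 with (hmem | hcomp) | hrec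
      · exfalso
        obtain ⟨a, ha, e⟩ := List.mem_map.1 hmem
        rw [List.mem_range] at ha
        have h1 : z (W.β a) = z (W.β n) := by
          rw [(hσ' a (by omega)).2, e, ← (hσ' n hnk).2]
        exact absurd (hlinj a (by omega) n hnk (z.injective h1)) (by omega)
      · exfalso
        have hget : ∀ a < n, ((List.range n).map σ').getD a 0 = σ' a := fun a ha => by
          simp [List.getD_eq_getElem?_getD, ha]
        simp only [SubData.compatB, List.all_eq_false, List.mem_range, List.length_map,
          List.length_range, decide_eq_true_eq] at hcomp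
        obtain ⟨a, ha, hne⟩ := hcomp
        rw [hget a ha] at hne
        have hak : a < W.k := by omega
        obtain ⟨hak', hza⟩ := hσ' a hak
        obtain ⟨hnk', hzn⟩ := hσ' n hnk
        refine hne (Bool.eq_iff_iff.2 ⟨fun h1 => adj_transfer hU hok hz'.1 hak hnk hak' hnk' hza hzn h1,
          fun h1 => adj_transfer hU hok (inv_mem hz'.1) hak' hnk' hak hnk ?_ ?_ h1⟩)
        · rw [← hza, Equiv.Perm.inv_def, Equiv.symm_apply_apply]
        · rw [← hzn, Equiv.Perm.inv_def, Equiv.symm_apply_apply]
      · refine ih (n + 1) (by omega) ?_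
        rwa [List.range_succ, List.map_append]
  have hleaf := hdesc W.k 0 (by omega) hsearch
  simp only [SubData.leafB, Bool.or_eq_true, decide_eq_true_eq, List.any_eq_true, List.all_eq_true,
    List.mem_finRange, true_and, forall_const] at hleaf
  have hlin : ∀ (x : Equiv.Perm (Fin T.tab.n)), x ∈ weyl T → ∀ j m,
      W.M * cf T (x (T.S.simple j)) m =
        ∑ i ∈ Finset.range W.k, (W.A.getD j.val []).getD i 0 * cf T (x (W.β i)) m := by
    intro x hx j m
    simp only [fun i => cf_weyl hG hx (W.β i) m, Finset.mul_sum]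
    rw [Finset.sum_comm, Finset.sum_eq_single j]
    · rw [Finset.sum_congr rfl fun i _ => (mul_assoc _ _ _).symm, ← Finset.sum_mul]
      have := hA j j
      rw [if_pos rfl, sum_map_range] at this
      rw [← this]
    · intro k _ hk
      rw [Finset.sum_congr rfl fun i _ => (mul_assoc _ _ _).symm, ← Finset.sum_mul]
      have := hA j k
      rw [if_neg hk, sum_map_range] at this
      rw [← this, zero_mul]
    · simp
  rcases hleaf with hid | ⟨j, hbad⟩
  · have hid' : ∀ i < W.k, σ' i = i := fun i hi => by
      have := congrArg (fun L => L.getD i 0) hid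
      simpa [List.getD_eq_getElem?_getD, hi] using this
    refine eq_of_simple hU F hz'.1 (one_mem _) fun j => cf_ext T hU hwit hinj fun m => ?_
    refine mul_left_cancel₀ hM ?_
    rw [hlin z hz'.1, hlin 1 (one_mem _)]
    refine Finset.sum_congr rfl fun i hi => ?_
    rw [(hσ' i (Finset.mem_range.1 hi)).2, hid' i (Finset.mem_range.1 hi)]
    rfl
  · exfalso
    obtain ⟨m, hm⟩ := hbad (z (T.S.simple j))
    refine hm ?_
    rw [hlin z hz'.1, sum_map_range]
    refine Finset.sum_congr rfl fun i hi => ?_
    rw [(hσ' i (Finset.mem_range.1 hi)).2]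
    simp [List.getD_eq_getElem?_getD, Finset.mem_range.1 hi]

end Cfsg.Agent.CG26.ChevInv
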